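import Cfsg.Agent.Class49.Trivalent.Central

/-!
The module spanned by the involutions of the neighbourhood of a central vertex.
-/

set_option autoImplicit false
set_option linter.unusedSectionVars false
set_option linter.unusedVariables false
set_option linter.unusedSimpArgs false

open Subgroup MulAction

namespace Cfsg.Agent.Class49.Trivalent.Ctx

variable {G : Type*} {V : Type*} [Group G] [MulAction G V] (C : Ctx G V) {R : ℕ}

/-- The product of one involution from each of the two branches at `n` avoiding `b`. -/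
def Lift (n b : V) (L : G) : Prop :=
  ∃ a a' p p' : V, C.Adj n a ∧ C.Adj n a' ∧ a ≠ b ∧ a' ≠ b ∧ a' ≠ a ∧ C.Adj a p ∧ p ≠ n ∧
    C.Adj a' p' ∧ p' ≠ n ∧ L = C.c p * C.c p'

theorem exists_lift {n b : V} (hb : C.Adj n b) : ∃ L, C.Lift n b L := by
  obtain ⟨a, ha, hab⟩ := C.exists_other hb
  obtain ⟨a', ha', ha'b, ha'a, -⟩ := C.exists_third hb ha hab.symm
  obtain ⟨p, hp, hpn⟩ := C.exists_other (C.symm ha)
  obtain ⟨p', hp', hp'n⟩ := C.exists_other (C.symm ha')
  exact ⟨_, a, a', p, p', ha, ha', hab, ha'b, ha'a, hp, hpn, hp', hp'n, rfl⟩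

theorem P_far {n a p : V} (hn : C.P n) (ha : C.Adj n a) (hp : C.Adj a p) : C.P p :=
  C.P_of_adj hp (C.notP_of_adj ha hn)

theorem Lift.smul {n b : V} {L : G} (hn : C.P n) (h : C.Lift n b L) (g : G) :
    C.Lift (g • n) (g • b) (g * L * g⁻¹) := by
  obtain ⟨a, a', p, p', ha, ha', hab, ha'b, ha'a, hp, hpn, hp', hp'n, rfl⟩ := h
  exact ⟨g • a, g • a', g • p, g • p', C.adj_smul g ha, C.adj_smul g ha',
    fun e => hab (MulAction.injective g e), fun e => ha'b (MulAction.injective g e),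
    fun e => ha'a (MulAction.injective g e), C.adj_smul g hp,
    fun e => hpn (MulAction.injective g e), C.adj_smul g hp',
    fun e => hp'n (MulAction.injective g e), by
      rw [← C.c_smul g (C.P_far hn ha hp), ← C.c_smul g (C.P_far hn ha' hp')]; group⟩

section

variable (h : C.Rad R) (hR : 4 ≤ R)
include h hR

theorem comm_two {n a p b q : V} (hn : C.P n) (ha : C.Adj n a) (hp : C.Adj a p)
    (hb : C.Adj n b) (hq : C.Adj b q) : Commute (C.c p) (C.c q) :=
  Rad.comm_ball C h (C.P_far hn ha hp) (C.P_far hn hb hq)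
    (C.ball_mono hR (C.adj_ball (C.adj_ball (C.adj_ball (C.adj_mem_ball_one (C.symm hp))
      (C.symm ha)) hb) hq))

theorem c_fix_center {n a p : V} (hn : C.P n) (ha : C.Adj n a) (hp : C.Adj a p) :
    C.c p • n = n :=
  h.fix (C.P_far hn ha hp)
    (C.ball_mono (show 2 ≤ R by omega) (C.adj_ball (C.adj_mem_ball_one (C.symm hp)) (C.symm ha)))

theorem sib_mul {n a p q : V} (hn : C.P n) (ha : C.Adj n a) (hp : C.Adj a p) (hpn : p ≠ n)
    (hq : C.Adj a q) (hqn : q ≠ n) : C.c q = C.c p ∨ C.c q = C.c p * C.c n := by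
  by_cases e : q = p
  · exact Or.inl (congrArg C.c e)
  · exact Or.inr (C.star h (by omega) (C.notP_of_adj ha hn) hp (C.symm ha) hq hpn
      (Ne.symm e) (Ne.symm hqn)).symm

theorem lift_unique {n b : V} {L L' : G} (hn : C.P n) (hb : C.Adj n b) (hL : C.Lift n b L)
    (hL' : C.Lift n b L') : L' = L ∨ L' = L * C.c n := by
  obtain ⟨a, a', p, p', ha, ha', hab, ha'b, ha'a, hp, hpn, hp', hp'n, rfl⟩ := hL
  obtain ⟨d, d', q, q', hd, hd', hdb, hd'b, hd'd, hq, hqn, hq', hq'n, rfl⟩ := hL'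
  have m2 := C.c_sq hn
  have cp' : Commute (C.c n) (C.c p') := (C.comm hn (C.c_fix_center h hR hn ha' hp')).symm
  have base : ∀ {r r' : V}, C.Adj a r → r ≠ n → C.Adj a' r' → r' ≠ n →
      C.c r * C.c r' = C.c p * C.c p' ∨ C.c r * C.c r' = C.c p * C.c p' * C.c n := by
    intro r r' hr hrn hr' hr'n
    rcases C.sib_mul h hR hn ha hp hpn hr hrn with e | e <;>
      rcases C.sib_mul h hR hn ha' hp' hp'n hr' hr'n with e' | e' <;> rw [e, e']
    · exact Or.inl rfl
    · exact Or.inr (mul_assoc _ _ _).symm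
    · exact Or.inr (by rw [mul_assoc, cp'.eq, mul_assoc])
    · left
      rw [mul_assoc (C.c p), ← mul_assoc (C.c n), cp'.eq, mul_assoc, m2, mul_one]
  rcases C.eq_third ha ha' hb ha'a.symm hab ha'b hd with rfl | rfl | rfl
  · rcases C.eq_third ha ha' hb ha'a.symm hab ha'b hd' with rfl | rfl | rfl
    · exact absurd rfl hd'd
    · exact base hq hqn hq' hq'n
    · exact absurd rfl hd'b
  · rcases C.eq_third ha ha' hb ha'a.symm hab ha'b hd' with rfl | rfl | rfl
    · rw [(C.comm_two h hR hn ha' hq ha hq').eq]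
      exact base hq' hq'n hq hqn
    · exact absurd rfl hd'd
    · exact absurd rfl hd'b
  · exact absurd rfl hdb

theorem Lift.sq {n b : V} {L : G} (hn : C.P n) (hL : C.Lift n b L) : L * L = 1 := by
  obtain ⟨a, a', p, p', ha, ha', hab, ha'b, ha'a, hp, hpn, hp', hp'n, rfl⟩ := hL
  rw [mul_assoc, ← mul_assoc (C.c p'), (C.comm_two h hR hn ha' hp' ha hp).eq, mul_assoc,
    C.c_sq (C.P_far hn ha' hp'), mul_one, C.c_sq (C.P_far hn ha hp)]

theorem Lift.comm_nbr {n b v : V} {L : G} (hn : C.P n) (hb : C.Adj n b) (hL : C.Lift n b L)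
    (hv : C.Adj b v) : Commute L (C.c v) := by
  obtain ⟨a, a', p, p', ha, ha', hab, ha'b, ha'a, hp, hpn, hp', hp'n, rfl⟩ := hL
  exact (C.comm_two h hR hn ha hp hb hv).mul_left (C.comm_two h hR hn ha' hp' hb hv)

theorem Lift.fix {n b : V} {L : G} (hn : C.P n) (hb : C.Adj n b) (hL : C.Lift n b L) :
    L • n = n ∧ L • b = b := by
  obtain ⟨a, a', p, p', ha, ha', hab, ha'b, ha'a, hp, hpn, hp', hp'n, rfl⟩ := hL
  have fb : ∀ {a p : V}, C.Adj n a → C.Adj a p → C.c p • b = b := fun ha hp =>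
    h.fix (C.P_far hn ha hp) (C.ball_mono (show 3 ≤ R by omega)
      (C.adj_ball (C.adj_ball (C.adj_mem_ball_one (C.symm hp)) (C.symm ha)) hb))
  exact ⟨by rw [mul_smul, C.c_fix_center h hR hn ha' hp', C.c_fix_center h hR hn ha hp],
    by rw [mul_smul, fb ha' hp', fb ha hp]⟩

theorem Lift.ne {n b : V} {L : G} (hn : C.P n) (hL : C.Lift n b L) : L ≠ 1 ∧ L ≠ C.c n := by
  obtain ⟨a, a', p, p', ha, ha', hab, ha'b, ha'a, hp, hpn, hp', hp'n, rfl⟩ := hL
  have hne := C.branch_ne h (by omega) hn ha ha' ha'a.symm hp hpn hp' hp'n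
  have Pp' := C.P_far hn ha' hp'
  refine ⟨fun e => hne.1 ?_, fun e => hne.2 ?_⟩
  · rw [mul_eq_one_iff_eq_inv, C.c_inv Pp'] at e; exact e
  · rw [(C.comm hn (C.c_fix_center h hR hn ha' hp')).eq, ← e, mul_assoc,
      C.c_sq Pp', mul_one]

end

/-- The three branches at a central vertex are linearly dependent. -/
def Natural : Prop :=
  ∀ n b v : V, C.P n → C.Adj n b → C.Adj b v → v ≠ n →
    ∀ L, C.Lift n b L → L = C.c v ∨ L = C.c v * C.c n

theorem natural_of (h : C.Rad R) (hR : 4 ≤ R) {n b v : V} (hn : C.P n) (hb : C.Adj n b)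
    (hv : C.Adj b v) (hvn : v ≠ n) {L : G} (hL : C.Lift n b L)
    (e : L = 1 ∨ L = C.c n ∨ L = C.c v ∨ L = C.c v * C.c n) : C.Natural := by
  obtain ⟨h1, h2⟩ := Lift.ne C h hR hn hL
  intro n' b' v' hn' hb' hv' hvn' L' hL'
  obtain ⟨g, gn, gb, gv⟩ := C.trans2 hb hv hvn hb' hv' hvn' (iff_of_true hn hn')
  have hg := Lift.smul C hn hL g
  rw [gn, gb] at hg
  have Pv := C.P_far hn hb hv
  have ev : g * C.c v * g⁻¹ = C.c v' := by rw [C.c_smul g Pv, gv]
  have en : g * C.c n * g⁻¹ = C.c n' := by rw [C.c_smul g hn, gn]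
  have conj : g * L * g⁻¹ = C.c v' ∨ g * L * g⁻¹ = C.c v' * C.c n' := by
    rcases e with e | e | e | e
    · exact absurd e h1
    · exact absurd e h2
    · exact Or.inl (by rw [e, ev])
    · exact Or.inr (by rw [e, ← ev, ← en]; group)
  rcases C.lift_unique h hR hn' hb' hg hL' with e1 | e1 <;> rcases conj with e2 | e2 <;>
    rw [e1, e2]
  · exact Or.inl rfl
  · exact Or.inr rfl
  · exact Or.inr rfl
  · exact Or.inl (by rw [mul_assoc, C.c_sq hn', mul_one])

/-- If lifts at the neighbours of a vertex without centre are congruent, the module is natural. -/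
theorem natural_of_congr (h : C.Rad R) (hR : 4 ≤ R) {v₀ : V} (hv₀ : C.P v₀)
    (hc : ∀ b n n' L L', ¬ C.P b → C.Adj b n → C.Adj b n' → n' ≠ n → C.Lift n b L → C.Lift n' b L' →
      L' = L ∨ L' = L * C.c n ∨ L' = L * C.c n' ∨ L' = L * (C.c n * C.c n')) : C.Natural := by
  obtain ⟨b, hb⟩ := C.exists_adj v₀
  have nb := C.notP_of_adj hb hv₀
  have hu : C.Adj b v₀ := C.symm hb
  set u := v₀
  obtain ⟨v, hv, hvu⟩ := C.exists_other hu
  obtain ⟨w, hw, hwu, hwv, hall⟩ := C.exists_third hu hv hvu.symm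
  obtain ⟨L, hL⟩ := C.exists_lift hb
  have Pu := C.P_of_adj hu nb
  have Pv := C.P_of_adj hv nb
  have Pw := C.P_of_adj hw nb
  have sw : C.c u * C.c v = C.c w := C.star h (by omega) nb hu hv hw hvu.symm hwu.symm hwv.symm
  have su : C.c v * C.c w = C.c u := C.star h (by omega) nb hv hw hu hwv.symm hvu hwu
  have sv : C.c u * C.c w = C.c v := C.star h (by omega) nb hu hw hv hwu.symm hvu.symm hwv
  by_contra hnat
  -- the four group spanned by the neighbours
  let Z : Set G := {z | z = 1 ∨ z = C.c u ∨ z = C.c v ∨ z = C.c w}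
  have comm2 : ∀ {p q}, C.Adj b p → C.Adj b q → Commute (C.c p) (C.c q) := fun hp hq =>
    Rad.comm_ball C h (C.P_of_adj hp nb) (C.P_of_adj hq nb) (C.ball_mono (show 2 ≤ R by omega)
      (C.adj_ball (C.adj_mem_ball_one (C.symm hp)) hq))
  have cmem : ∀ {q}, C.Adj b q → C.c q ∈ Z := fun hq => by
    rcases hall _ hq with rfl | rfl | rfl
    · exact Or.inr (Or.inl rfl)
    · exact Or.inr (Or.inr (Or.inl rfl))
    · exact Or.inr (Or.inr (Or.inr rfl))
  have zu : C.c v * C.c u = C.c w := (comm2 hv hu).eq.trans sw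
  have zv : C.c w * C.c u = C.c v := (comm2 hw hu).eq.trans sv
  have zw : C.c w * C.c v = C.c u := (comm2 hw hv).eq.trans su
  have Zmul : ∀ {y z}, y ∈ Z → z ∈ Z → y * z ∈ Z := by
    intro y z hy hz
    rcases hy with rfl | rfl | rfl | rfl <;> rcases hz with rfl | rfl | rfl | rfl <;>
      simp [Z, C.c_sq Pu, C.c_sq Pv, C.c_sq Pw, sw, su, sv, zu, zv, zw]
  have LZ : ∀ z ∈ Z, L ≠ z := by
    intro z hz e
    refine hnat (C.natural_of h hR Pu hb hv hvu hL ?_)
    rcases hz with rfl | rfl | rfl | rfl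
    · exact Or.inl e
    · exact Or.inr (Or.inl e)
    · exact Or.inr (Or.inr (Or.inl e))
    · exact Or.inr (Or.inr (Or.inr (e.trans zu.symm)))
  have imgL : ∀ g : G, g • b = b → ∃ z ∈ Z, g * L * g⁻¹ = L * z := by
    intro g gb
    have hg := Lift.smul C Pu hL g
    rw [gb] at hg
    have hgu := C.adj_fix gb hu
    by_cases e : g • u = u
    · rw [e] at hg
      rcases C.lift_unique h hR Pu hb hL hg with e1 | e1
      · exact ⟨1, Or.inl rfl, by rw [e1, mul_one]⟩
      · exact ⟨C.c u, cmem hu, e1⟩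
    · rcases hc b u (g • u) L _ nb hu hgu e hL hg with e1 | e1 | e1 | e1
      · exact ⟨1, Or.inl rfl, by rw [e1, mul_one]⟩
      · exact ⟨C.c u, cmem hu, e1⟩
      · exact ⟨C.c (g • u), cmem hgu, e1⟩
      · exact ⟨C.c u * C.c (g • u), Zmul (cmem hu) (cmem hgu), e1⟩
  have Zfix : ∀ {g : G}, g ∈ C.B b 1 → ∀ z ∈ Z, Commute g z := by
    intro g hg z hz
    rcases hz with rfl | rfl | rfl | rfl
    · exact Commute.one_right g
    · exact C.comm Pu (C.mem_B.1 hg u (C.adj_mem_ball_one hu))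
    · exact C.comm Pv (C.mem_B.1 hg v (C.adj_mem_ball_one hv))
    · exact C.comm Pw (C.mem_B.1 hg w (C.adj_mem_ball_one hw))
  have Qfix : ∀ g ∈ C.B b 1, Commute g L := by
    intro g hg
    have gb : g • b = b := C.mem_B.1 hg b (C.self_mem_ball b 1)
    have gu : g • u = u := C.mem_B.1 hg u (C.adj_mem_ball_one hu)
    have gv : g • v = v := C.mem_B.1 hg v (C.adj_mem_ball_one hv)
    have h1 := Lift.smul C Pu hL g
    rw [gu, gb] at h1
    rcases C.lift_unique h hR Pu hb hL h1 with e | e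
    · exact mul_inv_eq_iff_eq_mul.1 e
    exfalso
    obtain ⟨L', hL'⟩ := C.exists_lift (C.symm hv)
    obtain ⟨z, hz, ez⟩ : ∃ z ∈ Z, L' = L * z := by
      rcases hc b u v L L' nb hu hv hvu hL hL' with e1 | e1 | e1 | e1
      · exact ⟨1, Or.inl rfl, by rw [e1, mul_one]⟩
      · exact ⟨C.c u, cmem hu, e1⟩
      · exact ⟨C.c v, cmem hv, e1⟩
      · exact ⟨C.c u * C.c v, Zmul (cmem hu) (cmem hv), e1⟩
    have h2 := Lift.smul C Pv hL' g
    rw [gv, gb] at h2
    have e2 : g * L' * g⁻¹ = L * C.c u * z := by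
      rw [ez, show g * (L * z) * g⁻¹ = (g * L * g⁻¹) * (g * z * g⁻¹) by group, e,
        (Zfix hg z hz).eq, mul_inv_cancel_right]
    have cz : Commute (C.c u) z :=
      Zfix (C.mem_B.2 fun q hq => by
        rcases C.mem_ball_one hq with rfl | hq
        · exact (C.c_adj Pu (C.symm hu)).1
        · exact h.fix Pu (C.ball_mono (show 2 ≤ R by omega)
            (C.adj_ball (C.adj_mem_ball_one (C.symm hu)) hq))) z hz
    rcases C.lift_unique h hR Pv (C.symm hv) hL' h2 with e3 | e3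
    · rw [e2, ez, mul_assoc, mul_right_inj, mul_eq_right] at e3
      exact C.c_ne Pu e3
    · rw [e2, ez, mul_assoc, mul_assoc, mul_right_inj, cz.eq, mul_right_inj] at e3
      exact C.sib_ne nb hu hv hvu.symm e3
  obtain ⟨g, gb, gu, gv, gw⟩ := C.exists_cycle hu hv hw hvu.symm hwu.symm hwv.symm
  have cu : g * C.c u * g⁻¹ = C.c v := by rw [C.c_smul g Pu, gu]
  have cv : g * C.c v * g⁻¹ = C.c w := by rw [C.c_smul g Pv, gv]
  have cw : g * C.c w * g⁻¹ = C.c u := by rw [C.c_smul g Pw, gw]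
  obtain ⟨e, he, ge⟩ := imgL g gb
  obtain ⟨z, hz, gz⟩ : ∃ z ∈ Z, g * (L * z) * g⁻¹ = L * z := by
    have key : ∀ z z', g * z * g⁻¹ = z' → e * z' = z → g * (L * z) * g⁻¹ = L * z :=
      fun z z' h1 h2 => by
        rw [show g * (L * z) * g⁻¹ = (g * L * g⁻¹) * (g * z * g⁻¹) by group, ge, h1, mul_assoc, h2]
    rcases he with e' | e' | e' | e'
    · exact ⟨1, Or.inl rfl, key 1 1 (by group) (by rw [e', mul_one])⟩
    · exact ⟨C.c v, cmem hv, key _ _ cv (by rw [e']; exact sv)⟩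
    · exact ⟨C.c w, cmem hw, key _ _ cw (by rw [e']; exact zu)⟩
    · exact ⟨C.c u, cmem hu, key _ _ cu (by rw [e']; exact zw)⟩
  have LZfix : ∀ {p : G}, p ∈ C.B b 1 → ∀ {z}, z ∈ Z → Commute p (L * z) := fun hp _ hz =>
    (Qfix _ hp).mul_right (Zfix hp _ hz)
  have hle : stabilizer G b ≤ centralizer ({L * z} : Set G) := by
    refine C.stab_le hu (fun x hx => ?_) (mem_centralizer_singleton_iff.2
      (mul_inv_eq_iff_eq_mul.1 gz)) gb (gu ▸ hvu)
    refine mem_centralizer_singleton_iff.2 ?_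
    have xb : x • b = b := hx.1
    have xu : x • u = u := hx.2
    by_cases xv : x • v = v
    · exact (LZfix (C.mem_B.2 fun q hq => by
        rcases C.mem_ball_one hq with rfl | hq
        · exact xb
        · exact C.fix_third xb hu hv hvu.symm xu xv hq) hz).eq
    have xv' := C.moved_eq_third xb xu hu hv hw hvu.symm hwu.symm hwv.symm xv
    have xw : x • w = v := by rw [← xv']; exact C.twice_image xb xu hu hv hvu.symm
    obtain ⟨z', hz', ez'⟩ : ∃ z' ∈ Z, x * (L * z) * x⁻¹ = L * z' := by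
      obtain ⟨d, hd, ed⟩ := imgL x xb
      have : x * z * x⁻¹ ∈ Z := by
        rcases hz with rfl | rfl | rfl | rfl
        · rw [mul_one, mul_inv_cancel]; exact Or.inl rfl
        · rw [C.c_smul x Pu, xu]; exact cmem hu
        · rw [C.c_smul x Pv, xv']; exact cmem hw
        · rw [C.c_smul x Pw, xw]; exact cmem hv
      exact ⟨d * (x * z * x⁻¹), Zmul hd this, by
        rw [show x * (L * z) * x⁻¹ = (x * L * x⁻¹) * (x * z * x⁻¹) by group, ed, mul_assoc]⟩
    have hg' : Commute (x * g * x⁻¹) (L * z') := by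
      rw [← ez']
      exact mul_inv_eq_iff_eq_mul.1
        (by rw [show x * g * x⁻¹ * (x * (L * z) * x⁻¹) * (x * g * x⁻¹)⁻¹ =
          x * (g * (L * z) * g⁻¹) * x⁻¹ by group, gz])
    have xi : ∀ {q q' : V}, x • q = q' → x⁻¹ • q' = q := fun e => inv_smul_eq_iff.2 e.symm
    have gg : g * (x * g * x⁻¹) ∈ C.B b 1 := C.mem_B.2 fun q hq => by
      rw [mul_smul, mul_smul, mul_smul]
      rcases C.mem_ball_one hq with rfl | hq
      · rw [xi xb, gb, xb, gb]
      · rcases hall q hq with rfl | rfl | rfl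
        · rw [xi xu, gu, xv', gw]
        · rw [xi xw, gw, xu, gu]
        · rw [xi xv', gv, xw, gv]
    have gz' : g * (L * z') * g⁻¹ = L * z' := by
      have h1 := (LZfix gg hz').mul_left hg'.inv_left
      rw [mul_inv_cancel_right] at h1
      exact mul_inv_eq_iff_eq_mul.2 h1
    have hd : z' = z := by
      rcases C.star h (by omega) nb hu hv hw hvu.symm hwu.symm hwv.symm with -
      have e1 : g * (L * z) * g⁻¹ * (g * z * g⁻¹)⁻¹ * (g * z' * g⁻¹) =
          g * (L * z') * g⁻¹ := by group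
      rw [gz, gz', mul_assoc, mul_assoc, mul_right_inj] at e1
      have guv : C.c u ≠ C.c v := C.sib_ne nb hu hv hvu.symm
      have guw : C.c u ≠ C.c w := C.sib_ne nb hu hw hwu.symm
      have gvw : C.c v ≠ C.c w := C.sib_ne nb hv hw hwv.symm
      rcases hz with rfl | rfl | rfl | rfl <;> rcases hz' with rfl | rfl | rfl | rfl <;>
        simp [cu, cv, cw, C.c_inv Pu, C.c_inv Pv, C.c_inv Pw, C.c_sq Pu, C.c_sq Pv, C.c_sq Pw,
          sw, su, sv, zu, zv, zw, guv, guw, gvw, guv.symm, guw.symm, gvw.symm, C.c_ne Pu,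
          C.c_ne Pv, C.c_ne Pw, (C.c_ne Pu).symm, (C.c_ne Pv).symm, (C.c_ne Pw).symm] at e1 ⊢
    rw [hd] at ez'
    exact mul_inv_eq_iff_eq_mul.1 ez'
  have fixes : ∀ {q}, C.Adj b q → C.c q • b = b ∧ C.c q • u = u := fun hq =>
    ⟨(C.c_adj (C.P_of_adj hq nb) (C.symm hq)).1, h.fix (C.P_of_adj hq nb)
      (C.ball_mono (show 2 ≤ R by omega) (C.adj_ball (C.adj_mem_ball_one (C.symm hq)) hu))⟩
  obtain ⟨Ln, Lb⟩ := Lift.fix C h hR Pu hb hL
  have zfix : z • b = b ∧ z • u = u := by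
    rcases hz with rfl | rfl | rfl | rfl
    · exact ⟨one_smul _ _, one_smul _ _⟩
    · exact fixes hu
    · exact fixes hv
    · exact fixes hw
  have := C.noZ nb hu (x := L * z) (by rw [mul_smul, zfix.1, Lb]) (by rw [mul_smul, zfix.2, Ln])
    fun y hy => mem_centralizer_singleton_iff.1 (hle hy)
  rw [mul_eq_one_iff_eq_inv] at this
  refine LZ z hz (this.trans ?_)
  rcases hz with rfl | rfl | rfl | rfl <;> simp [C.c_inv, Pu, Pv, Pw]

/-- The commutator along a critical walk of even length. -/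
theorem even_formula (h : C.Rad R) (hR : 4 ≤ R) (heven : R % 2 = 0) {w : ℕ → V}
    (hw : C.Walk w (R + 2)) (h0 : C.P (w 0)) (hm : C.c (w 0) • w (R + 1) ≠ w (R + 1))
    (hm' : C.c (w (R + 2)) • w 1 ≠ w 1) :
    C.Lift (w 2) (w 3) (C.c (w 0) * C.c (w (R + 2)) * C.c (w 0) * C.c (w (R + 2))) ∧
      C.Lift (w R) (w (R - 1)) (C.c (w 0) * C.c (w (R + 2)) * C.c (w 0) * C.c (w (R + 2))) := by
  obtain ⟨r, rfl⟩ : ∃ r, R = r + 1 := ⟨R - 1, by omega⟩
  have par := Tri.Walk.parity C.toTri hw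
  have hy : C.P (w (r + 1 + 2)) := (par _ le_rfl).2 (iff_of_true (by omega) h0)
  have hn : C.P (w (r + 1)) := (par _ (by omega)).2 (iff_of_true (by omega) h0)
  have f0 : ∀ i, i ≤ r + 1 → C.c (w 0) • w i = w i := fun i hi =>
    Rad.fix_walk C h hw h0 (by omega) (by omega) (by omega) (by omega)
  have fy : ∀ i, 2 ≤ i → i ≤ r + 1 + 2 → C.c (w (r + 1 + 2)) • w i = w i := fun i hi hi' =>
    Rad.fix_walk C h hw hy le_rfl (by omega) (by omega) (by omega)
  constructor
  · refine ⟨w 1, C.c (w (r + 1 + 2)) • w 1, w 0, C.c (w (r + 1 + 2)) • w 0,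
      C.symm (hw.1 1 (by omega)), C.adj_fix (fy 2 le_rfl (by omega)) (C.symm (hw.1 1 (by omega))),
      (hw.2 1 (by omega)).symm, fun e => ?_, hm', C.symm (hw.1 0 (by omega)),
      (hw.2 0 (by omega)).symm,
      C.adj_smul _ (C.symm (hw.1 0 (by omega))), fun e => ?_, ?_⟩
    · exact hw.2 1 (by omega) (MulAction.injective (C.c (w (r + 1 + 2)))
        (e.trans (fy 3 (by omega) (by omega)).symm)).symm
    · exact hw.2 0 (by omega) (MulAction.injective (C.c (w (r + 1 + 2)))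
        ((e.trans (fy 2 le_rfl (by omega)).symm)).symm)
    · rw [← C.c_conj hy h0]; simp only [mul_assoc]
  · rw [show r + 1 - 1 = r by omega, C.c_conj h0 hy]
    refine ⟨C.c (w 0) • w (r + 1 + 1), w (r + 1 + 1), C.c (w 0) • w (r + 1 + 2), w (r + 1 + 2),
      C.adj_fix (f0 _ le_rfl) (hw.1 (r + 1) (by omega)), hw.1 (r + 1) (by omega), fun e => ?_,
      hw.2 r (by omega), hm.symm, C.adj_smul _ (hw.1 (r + 1 + 1) (by omega)), fun e => ?_,
      hw.1 (r + 1 + 1) (by omega), hw.2 (r + 1) (by omega), rfl⟩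
    · exact hw.2 r (by omega) (MulAction.injective (C.c (w 0)) (e.trans (f0 r (by omega)).symm))
    · exact hw.2 (r + 1) (by omega)
        (MulAction.injective (C.c (w 0)) (e.trans (f0 _ le_rfl).symm))

end Cfsg.Agent.Class49.Trivalent.Ctx
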