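import Cfsg.Agent.Class49.Trivalent.Small
import Cfsg.Agent.Class49.Trivalent.Natural

/-!
The bound for the edge stabiliser when the radius is 4.
-/

set_option autoImplicit false
set_option linter.unusedSectionVars false
set_option linter.unusedVariables false
set_option linter.unusedSimpArgs false

open Subgroup MulAction

namespace Cfsg.Agent.Class49.Trivalent.Ctx

variable {G : Type*} {V : Type*} [Group G] [MulAction G V] (C : Ctx G V)

theorem exact_four_rad (h : C.Rad 4) : C.Exact 4 := by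
  intro W hW hW0
  obtain ⟨w, hw, hw0, hm⟩ := h.move
  have hs : ∀ j, 1 ≤ j → j < 3 → C.Step j := fun j h1 h2 => by
    rcases (show j = 1 ∨ j = 2 by omega) with rfl | rfl
    · exact C.step_one hw0
    · exact C.step_two hw0
  obtain ⟨g, hg⟩ := C.conj_walk hs (hw.mono C.toTri (show 3 ≤ 4 + 1 by omega))
    (hW.mono C.toTri (show 3 ≤ 4 + 1 by omega)) hw0 hW0
  have P2 : C.P (W 2) := (Tri.Walk.parity C.toTri hW 2 (by omega)).2 (iff_of_true rfl hW0)
  have fW : ∀ i, i ≤ 4 → C.c (W 0) • W i = W i := fun i hi =>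
    Rad.fix_walk C h hW hW0 (by omega) (by omega) (by omega) (by omega)
  have hA5 : C.Adj (g • w 4) (g • w (4 + 1)) := C.adj_smul g (hw.1 4 (by omega))
  have hA4 : C.Adj (W 3) (g • w 4) := hg 3 le_rfl ▸ C.adj_smul g (hw.1 3 (by omega))
  have ne5 : g • w (4 + 1) ≠ W 3 := fun e =>
    hw.2 3 (by omega) (MulAction.injective g (e.trans (hg 3 le_rfl).symm))
  have ne4 : g • w 4 ≠ W 2 := fun e =>
    hw.2 2 (by omega) (MulAction.injective g (e.trans (hg 2 (by omega)).symm))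
  have hm' : C.c (W 0) • g • w (4 + 1) ≠ g • w (4 + 1) := by
    rw [← hg 0 (by omega), ← C.c_smul g hw0, smul_conj, inv_smul_smul]
    exact fun e => hm (MulAction.injective g e)
  intro e
  have back : C.Adj (W 4) (W 3) := C.symm (hW.1 3 (by omega))
  by_cases e4 : g • w 4 = W 4
  · exact hm' (C.fix_third (fW 4 le_rfl) back (hW.1 4 (by omega)) (hW.2 3 (by omega)).symm
      (fW 3 (by omega)) e (e4 ▸ hA5))
  obtain ⟨t, ht, tm⟩ := C.exists_fix_nbrs_move (hW.1 2 (by omega)) hA4 ne4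
  have t2 : t • W 2 = W 2 := C.mem_B.1 ht _ (C.self_mem_ball _ 1)
  have t1 : t • W 1 = W 1 := C.fix_nbr ht (C.symm (hW.1 1 (by omega)))
  have t3 : t • W 3 = W 3 := C.fix_nbr ht (hW.1 2 (by omega))
  have t4 : t • g • w 4 = W 4 :=
    C.moved_eq_third t3 t2 (C.symm (hW.1 2 (by omega))) hA4 (hW.1 3 (by omega)) ne4.symm
      (hW.2 2 (by omega)).symm e4 tm
  set z := t • g • w (4 + 1)
  have hz : C.Adj (W 4) z := t4 ▸ C.adj_smul t hA5
  have fz : C.c (W 0) • z = z :=
    C.fix_third (fW 4 le_rfl) back (hW.1 4 (by omega)) (hW.2 3 (by omega)).symm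
      (fW 3 (by omega)) e hz
  have mz : C.c (t • W 0) • z ≠ z := by
    rw [← C.c_smul t hW0, smul_conj, inv_smul_smul]
    exact fun e => hm' (MulAction.injective t e)
  by_cases t0 : t • W 0 = W 0
  · exact mz (t0.symm ▸ fz)
  have n1 := C.notP_of_adj (hW.1 0 (by omega)) hW0
  have hx : C.Adj (W 1) (t • W 0) := C.adj_fix t1 (C.symm (hW.1 0 (by omega)))
  have e' := C.star h (by omega) n1 (C.symm (hW.1 0 (by omega))) (hW.1 1 (by omega)) hx
    (hW.2 0 (by omega)).symm (Ne.symm t0) (fun e => hW.2 0 (by omega)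
      (MulAction.injective t (t2.trans e)))
  refine mz ?_
  rw [← e', mul_smul, h.fix P2 (C.ball_mono (show 3 ≤ 4 by omega) (C.adj_ball
    (Tri.Walk.mem_ball C.toTri hW 2 2 (by omega)) hz)), fz]

section Four

variable (h : C.Rad 4) (he : C.Exact 4)
include h he

theorem exact_five {a b c d e f : V} (ha : C.P a) (h1 : C.Adj a b) (h2 : C.Adj b c)
    (h3 : C.Adj c d) (h4 : C.Adj d e) (h5 : C.Adj e f) (hac : c ≠ a) (hbd : d ≠ b) (hce : e ≠ c)
    (hdf : f ≠ d) : C.c a • f ≠ f := by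
  have := he _ ((((C.walk_two h1 h2 hac).snoc C.toTri (z := d) (by simpa using h3)
    (Or.inr (by simpa using hbd))).snoc C.toTri (z := e) (by simpa using h4)
    (Or.inr (by simpa using hce))).snoc C.toTri (z := f) (by simpa using h5)
    (Or.inr (by simpa using hdf))) (by simpa using ha)
  simpa using this

theorem lifts_four {p a n b n' d e : V} (hn : C.P n) (h1 : C.Adj p a) (h2 : C.Adj a n)
    (h3 : C.Adj n b) (h4 : C.Adj b n') (h5 : C.Adj n' d) (h6 : C.Adj d e) (pn : n ≠ p)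
    (ab : b ≠ a) (nn : n' ≠ n) (bd : d ≠ b) (ne : e ≠ n') :
    C.Lift n b (C.c p * C.c e * C.c p * C.c e) ∧ C.Lift n' b (C.c p * C.c e * C.c p * C.c e) := by
  have hw := ((((C.walk_two h1 h2 pn).snoc C.toTri (z := b) (by simpa using h3)
    (Or.inr (by simpa using ab))).snoc C.toTri (z := n') (by simpa using h4)
    (Or.inr (by simpa using nn))).snoc C.toTri (z := d) (by simpa using h5)
    (Or.inr (by simpa using bd))).snoc C.toTri (z := e) (by simpa using h6)
    (Or.inr (by simpa using ne))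
  have Pn' := C.P_far hn h3 h4
  have := C.even_formula h le_rfl rfl hw (by simpa using C.P_far hn (C.symm h2) (C.symm h1))
    (by simpa using (C.exact_five h he (C.P_far hn (C.symm h2) (C.symm h1)) h1 h2 h3 h4 h5 pn ab nn bd))
    (by simpa using (C.exact_five h he (C.P_far Pn' h5 h6) (C.symm h6) (C.symm h5) (C.symm h4) (C.symm h3) (C.symm h2) ne.symm bd.symm nn.symm ab.symm))
  simpa using this

theorem natural_four {v₀ : V} (hv₀ : C.P v₀) : C.Natural := by
  refine C.natural_of_congr h le_rfl hv₀ fun b n n' L L' nb hn hn' nn hL hL' => ?_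
  have Pn := C.P_of_adj hn nb
  have Pn' := C.P_of_adj hn' nb
  obtain ⟨a, ha, hab⟩ := C.exists_other (C.symm hn)
  obtain ⟨p, hp, hpn⟩ := C.exists_other (C.symm ha)
  obtain ⟨d, hd, hdb⟩ := C.exists_other (C.symm hn')
  obtain ⟨e, he', hen⟩ := C.exists_other (C.symm hd)
  obtain ⟨k1, k2⟩ := C.lifts_four h he Pn (C.symm hp) (C.symm ha) (C.symm hn) hn' hd he'
    hpn.symm hab.symm nn hdb hen
  rcases C.lift_unique h le_rfl Pn (C.symm hn) hL k1 with e1 | e1 <;>
    rcases C.lift_unique h le_rfl Pn' (C.symm hn') hL' k2 with e2 | e2 <;> rw [e1] at e2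
  · exact Or.inl e2.symm
  · refine Or.inr (Or.inr (Or.inl ?_))
    rw [e2, mul_assoc, C.c_sq Pn', mul_one]
  · exact Or.inr (Or.inl e2.symm)
  · refine Or.inr (Or.inr (Or.inr ?_))
    rw [← mul_assoc, e2, mul_assoc, C.c_sq Pn', mul_one]

/-- Conjugation along a walk of length 6. -/
theorem conj_six {p a n b n' d e : V} (hn : C.P n) (h1 : C.Adj p a) (h2 : C.Adj a n)
    (h3 : C.Adj n b) (h4 : C.Adj b n') (h5 : C.Adj n' d) (h6 : C.Adj d e) (pn : n ≠ p)
    (ab : b ≠ a) (nn : n' ≠ n) (bd : d ≠ b) (ne : e ≠ n') :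
    C.c p * C.c e * C.c p = C.c n * C.c n' * C.c e := by
  have hnat := C.natural_four h he hn
  have Pn' := C.P_far hn h3 h4
  obtain ⟨k1, k2⟩ := C.lifts_four h he hn h1 h2 h3 h4 h5 h6 pn ab nn bd ne
  have cc : Commute (C.c n) (C.c n') :=
    Rad.comm_ball C h hn Pn' (C.ball_mono (show 2 ≤ 4 by omega)
      (C.adj_ball (C.adj_mem_ball_one h3) h4))
  have key : C.c p * C.c e * C.c p * C.c e = C.c n * C.c n' := by
    rcases hnat n b n' hn h3 h4 nn _ k1 with e1 | e1 <;>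
      rcases hnat n' b n Pn' (C.symm h4) (C.symm h3) nn.symm _ k2 with e2 | e2
    · exact absurd (e1.symm.trans e2) (C.sib_ne (C.notP_of_adj h3 hn) h4 (C.symm h3) nn)
    · exact e2
    · exact e1.trans cc.symm.eq
    · exact e2
  rw [← key, mul_assoc (C.c p * C.c e * C.c p), C.c_sq (C.P_far Pn' h5 h6), mul_one]

/-- Vertices at distance two beyond `q`. -/
theorem far_cases {v bv q d e d' e' : V} (hv : C.P v) (hbv : C.Adj v bv) (hq : C.Adj bv q)
    (hqv : q ≠ v) (hd : C.Adj q d) (hdb : d ≠ bv) (he' : C.Adj d e) (heq : e ≠ q)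
    (hd' : C.Adj q d') (hd'b : d' ≠ bv) (hf : C.Adj d' e') (hfq : e' ≠ q) :
    C.c e' = C.c e ∨ C.c e' = C.c e * C.c q ∨ C.c e' = C.c e * C.c v ∨
      C.c e' = C.c e * (C.c v * C.c q) := by
  have Pq := C.P_far hv hbv hq
  have Pe := C.P_far Pq hd he'
  by_cases hdd : d' = d
  · subst hdd
    rcases C.sib_mul h le_rfl Pq hd he' heq hf hfq with e1 | e1
    · exact Or.inl e1
    · exact Or.inr (Or.inl e1)
  have hL : C.Lift q bv (C.c e * C.c e') :=
    ⟨d, d', e, e', hd, hd', hdb, hd'b, hdd, he', heq, hf, hfq, rfl⟩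
  have key : C.c e' = C.c e * (C.c e * C.c e') := by rw [← mul_assoc, C.c_sq Pe, one_mul]
  rcases C.natural_four h he hv q bv v Pq (C.symm hq) (C.symm hbv) hqv.symm _ hL with e1 | e1
  · exact Or.inr (Or.inr (Or.inl (by rw [key, e1])))
  · exact Or.inr (Or.inr (Or.inr (by rw [key, e1])))

/-- The rotation at `v` built from the involutions at both ends of a walk of length 8. -/
theorem cube_half {a u v bu p bv q d e : V} (na : ¬ C.P a) (hu : C.Adj a u) (hv : C.Adj a v)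
    (huv : u ≠ v) (hbu : C.Adj u bu) (bua : bu ≠ a) (hp : C.Adj bu p) (pu : p ≠ u)
    (hbv : C.Adj v bv) (bva : bv ≠ a) (hq : C.Adj bv q) (qv : q ≠ v) (hd : C.Adj q d)
    (dbv : d ≠ bv) (hed : C.Adj d e) (eq : e ≠ q) :
    ((C.c p * C.c e) • a = bv ∧ (C.c p * C.c e) • v = v ∧ (C.c p * C.c e) • u = q) ∧
      ∃ E, (E = 1 ∨ E = C.c q ∨ E = C.c v ∨ E = C.c v * C.c q) ∧
        C.c p * C.c e * C.c p * C.c e * C.c p * C.c e = E := by
  have Pu := C.P_of_adj hu na
  have Pv := C.P_of_adj hv na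
  have Pq := C.P_far Pv hbv hq
  have Pp := C.P_far Pu hbu hp
  have Pe := C.P_far Pq hd hed
  have fp : ∀ {z r}, r ≤ 4 → z ∈ C.ball p r → C.c p • z = z := fun hr hz =>
    h.fix Pp (C.ball_mono hr hz)
  have fe : ∀ {z r}, r ≤ 4 → z ∈ C.ball e r → C.c e • z = z := fun hr hz =>
    h.fix Pe (C.ball_mono hr hz)
  have bu1 := C.adj_mem_ball_one (C.symm hp)
  have u2 := C.adj_ball bu1 (C.symm hbu)
  have a3 := C.adj_ball u2 (C.symm hu)
  have v4 := C.adj_ball a3 hv
  have d1 := C.adj_mem_ball_one (C.symm hed)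
  have q2 := C.adj_ball d1 (C.symm hd)
  have b3 := C.adj_ball q2 (C.symm hq)
  have w4 := C.adj_ball b3 (C.symm hbv)
  obtain ⟨b', hb', b'a, b'b, -⟩ := C.exists_third (C.symm hv) hbv (Ne.symm bva)
  have eB : C.c e • a = b' :=
    C.moved_eq_third (fe le_rfl w4) (fe (by omega) b3) hbv (C.symm hv) hb' bva b'b.symm b'a.symm
      (C.exact_five h he Pe (C.symm hed) (C.symm hd) (C.symm hq) (C.symm hbv) (C.symm hv)
        eq.symm (Ne.symm dbv) qv.symm (Ne.symm bva))
  have eA : C.c p • b' = bv :=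
    C.moved_eq_third (fp le_rfl v4) (fp (by omega) a3) (C.symm hv) hb' hbv b'a.symm (Ne.symm bva)
      b'b (C.exact_five h he Pp (C.symm hp) (C.symm hbu) (C.symm hu) hv hb' pu.symm
        (Ne.symm bua) huv.symm b'a)
  have ga : (C.c p * C.c e) • a = bv := by rw [mul_smul, eB, eA]
  have gv : (C.c p * C.c e) • v = v := by rw [mul_smul, fe le_rfl w4, fp le_rfl v4]
  have r1 : C.c e * C.c u * C.c e = C.c q * C.c v * C.c u :=
    C.conj_six h he Pq (C.symm hed) (C.symm hd) (C.symm hq) (C.symm hbv) (C.symm hv) hu eq.symm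
      (Ne.symm dbv) qv.symm (Ne.symm bva) huv
  have r2 : C.c p * C.c q * C.c p = C.c u * C.c v * C.c q :=
    C.conj_six h he Pu (C.symm hp) (C.symm hbu) (C.symm hu) hv hbv hq pu.symm (Ne.symm bua)
      huv.symm bva qv
  have cpu : Commute (C.c p) (C.c u) := C.comm Pu (fp (by omega) u2)
  have cpv : Commute (C.c p) (C.c v) := C.comm Pv (fp le_rfl v4)
  have cev : Commute (C.c e) (C.c v) := C.comm Pv (fe le_rfl w4)
  have ceq : Commute (C.c e) (C.c q) := C.comm Pq (fe (by omega) q2)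
  have cuv : Commute (C.c u) (C.c v) := Rad.comm_ball C h Pu Pv
    (C.ball_mono (show 2 ≤ 4 by omega) (C.adj_ball (C.adj_mem_ball_one (C.symm hu)) hv))
  have conj : ∀ x : G, C.c p * x * C.c p = C.c p * x * (C.c p)⁻¹ := fun x => by rw [C.c_inv Pp]
  have cuq : Commute (C.c u) (C.c q) := Rad.comm_ball C h Pu Pq
    (C.adj_ball (C.adj_ball (C.adj_ball (C.adj_mem_ball_one (C.symm hu)) hv) hbv) hq)
  have cvq : Commute (C.c v) (C.c q) := Rad.comm_ball C h Pv Pq
    (C.ball_mono (show 2 ≤ 4 by omega) (C.adj_ball (C.adj_mem_ball_one hbv) hq))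
  have gcu : C.c ((C.c p * C.c e) • u) = C.c q := by
    rw [← C.c_smul _ Pu, show C.c p * C.c e * C.c u * (C.c p * C.c e)⁻¹ =
      C.c p * (C.c e * C.c u * (C.c e)⁻¹) * (C.c p)⁻¹ by group, C.c_inv Pe, r1,
      show C.c p * (C.c q * C.c v * C.c u) * (C.c p)⁻¹ = (C.c p * C.c q * (C.c p)⁻¹) *
        ((C.c p * C.c v * (C.c p)⁻¹) * (C.c p * C.c u * (C.c p)⁻¹)) by group,
      cpv.eq, mul_inv_cancel_right, cpu.eq, mul_inv_cancel_right, C.c_inv Pp, r2,
      (cuq.mul_left cvq).eq, mul_assoc (C.c q),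
      show C.c u * C.c v * (C.c v * C.c u) = 1 by
        rw [mul_assoc, ← mul_assoc (C.c v), C.c_sq Pv, one_mul, C.c_sq Pu], mul_one]
  have hgu : C.Adj bv ((C.c p * C.c e) • u) := ga ▸ C.adj_smul _ hu
  have gu : (C.c p * C.c e) • u = q := by
    by_contra hne
    exact C.sib_ne (C.notP_of_adj hbv Pv) hgu hq hne gcu
  refine ⟨⟨ga, gv, gu⟩, ?_⟩
  set g := C.c p * C.c e with hg
  have hgb : C.Adj q (g • bu) := gu ▸ C.adj_smul g hbu
  have gbne : g • bu ≠ bv := fun e1 => bua (MulAction.injective g (e1.trans ga.symm))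
  have gpne : g • p ≠ q := fun e1 => pu (MulAction.injective g (e1.trans gu.symm))
  have hcube : ∀ E, Commute (C.c e) E → C.c (g • p) = C.c e * E →
      C.c p * C.c e * C.c p * C.c e * C.c p * C.c e = E := by
    intro E hE h1
    rw [← C.c_smul g Pp, hg, mul_inv_rev, C.c_inv Pp, C.c_inv Pe] at h1
    rw [show C.c p * C.c e * C.c p * C.c e * C.c p * C.c e =
      C.c p * C.c e * C.c p * (C.c e * C.c p) * C.c e by simp only [mul_assoc], h1, hE.eq,
      mul_assoc, C.c_sq Pe, mul_one]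
  rcases C.far_cases h he Pv hbv hq qv hd dbv hed eq hgb gbne (C.adj_smul g hp) gpne with
    e1 | e1 | e1 | e1
  · exact ⟨1, Or.inl rfl, hcube _ (Commute.one_right _) (by rw [e1, mul_one])⟩
  · exact ⟨_, Or.inr (Or.inl rfl), hcube _ ceq e1⟩
  · exact ⟨_, Or.inr (Or.inr (Or.inl rfl)), hcube _ cev e1⟩
  · exact ⟨_, Or.inr (Or.inr (Or.inr rfl)), hcube _ (cev.mul_right ceq) e1⟩

theorem cube_z {a u v bu p bv q d e : V} (na : ¬ C.P a) (hu : C.Adj a u) (hv : C.Adj a v)
    (huv : u ≠ v) (hbu : C.Adj u bu) (bua : bu ≠ a) (hp : C.Adj bu p) (pu : p ≠ u)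
    (hbv : C.Adj v bv) (bva : bv ≠ a) (hq : C.Adj bv q) (qv : q ≠ v) (hd : C.Adj q d)
    (dbv : d ≠ bv) (hed : C.Adj d e) (eq : e ≠ q) :
    C.c p * C.c e * C.c p * C.c e * C.c p * C.c e = 1 ∨
      C.c p * C.c e * C.c p * C.c e * C.c p * C.c e = C.c v := by
  obtain ⟨-, E, hE, eE⟩ :=
    C.cube_half h he na hu hv huv hbu bua hp pu hbv bva hq qv hd dbv hed eq
  have Pv := C.P_of_adj hv na
  have Pu := C.P_of_adj hu na
  have Pq := C.P_far Pv hbv hq
  have Pp := C.P_far Pu hbu hp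
  have Pe := C.P_far Pq hd hed
  obtain ⟨-, E', hE', eE'⟩ := C.cube_half h he (C.notP_of_adj hbv Pv) hq (C.symm hbv) qv hd dbv
    hed eq (C.symm hv) (Ne.symm bva) hu huv hbu bua hp pu
  have inv : (C.c e * C.c p * C.c e * C.c p * C.c e * C.c p) *
      (C.c p * C.c e * C.c p * C.c e * C.c p * C.c e) = 1 := by
    simp only [mul_assoc]
    simp [← mul_assoc (C.c p) (C.c p), ← mul_assoc (C.c e) (C.c e), C.c_sq Pp, C.c_sq Pe]
  rw [eE, eE'] at inv
  rw [eE]
  have hEE : E = E' := by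
    have hvu : Commute (C.c v) (C.c u) := Rad.comm_ball C h Pv Pu
      (C.ball_mono (show 2 ≤ 4 by omega) (C.adj_ball (C.adj_mem_ball_one (C.symm hv)) hu))
    have sq : E' * E' = 1 := by
      rcases hE' with rfl | rfl | rfl | rfl
      · exact one_mul 1
      · exact C.c_sq Pu
      · exact C.c_sq Pv
      · rw [mul_assoc, ← mul_assoc (C.c u), ← hvu.eq, mul_assoc, C.c_sq Pu, mul_one, C.c_sq Pv]
    exact (mul_left_cancel (sq.trans inv.symm)).symm
  have nb := C.branch_ne h (by omega) Pv (C.symm hv) hbv (Ne.symm bva) hu huv hq qv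
  have sq2 := C.c_sq Pv
  have cqv : Commute (C.c v) (C.c q) := Rad.comm_ball C h Pv Pq
    (C.ball_mono (show 2 ≤ 4 by omega) (C.adj_ball (C.adj_mem_ball_one hbv) hq))
  have q1 : C.c q ≠ 1 := C.c_ne Pq
  have qv' : C.c q ≠ C.c v := C.sib_ne (C.notP_of_adj hbv Pv) hq (C.symm hbv) qv
  rcases hE with rfl | rfl | rfl | rfl
  · exact Or.inl rfl
  · rcases hE' with rfl | rfl | rfl | rfl
    · exact absurd hEE q1
    · exact absurd hEE.symm nb.1
    · exact absurd hEE qv'
    · exact absurd (show C.c u = C.c q * C.c v by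
        rw [← cqv.eq, hEE, ← mul_assoc, sq2, one_mul]) nb.2
  · exact Or.inr rfl
  · rcases hE' with rfl | rfl | rfl | rfl
    · refine absurd ?_ qv'
      rw [mul_eq_one_iff_inv_eq, C.c_inv Pv] at hEE
      exact hEE.symm
    · exact absurd (hEE.symm.trans cqv.eq) nb.2
    · exact absurd (mul_eq_left.1 hEE) q1
    · exact absurd (mul_left_cancel hEE).symm nb.1

/-- An element fixing `p`, `v`, `bv`, `q` moves `e` at most in one way. -/
theorem cube_rule {a u v bu p bv q d e : V} (na : ¬ C.P a) (hu : C.Adj a u) (hv : C.Adj a v)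
    (huv : u ≠ v) (hbu : C.Adj u bu) (bua : bu ≠ a) (hp : C.Adj bu p) (pu : p ≠ u)
    (hbv : C.Adj v bv) (bva : bv ≠ a) (hq : C.Adj bv q) (qv : q ≠ v) (hd : C.Adj q d)
    (dbv : d ≠ bv) (hed : C.Adj d e) (eq : e ≠ q) {x : G} (xp : x • p = p) (xv : x • v = v)
    (xb : x • bv = bv) (xq : x • q = q) :
    C.c (x • e) = C.c e ∨ C.c (x • e) = C.c e * (C.c v * C.c q) := by
  have Pv := C.P_of_adj hv na
  have Pu := C.P_of_adj hu na
  have Pq := C.P_far Pv hbv hq
  have Pp := C.P_far Pu hbu hp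
  have Pe := C.P_far Pq hd hed
  have hz := C.cube_z h he na hu hv huv hbu bua hp pu hbv bva hq qv hd dbv hed eq
  set A := C.c p with hA
  set B := C.c e with hB
  have xA : Commute x A := C.comm Pp xp
  have key : ∀ D, C.c (x • e) = B * D →
      A * (B * D) * A * (B * D) * A * (B * D) = A * B * A * B * A * B := by
    intro D hD
    have e1 : x * (A * B * A * B * A * B) * x⁻¹ =
        (x * A * x⁻¹) * (x * B * x⁻¹) * (x * A * x⁻¹) * (x * B * x⁻¹) * (x * A * x⁻¹) *
          (x * B * x⁻¹) := by group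
    rw [C.c_smul x Pe, hD, xA.eq, mul_inv_cancel_right] at e1
    rw [← e1]
    rcases hz with e2 | e2 <;> rw [e2]
    · group
    · rw [(C.comm Pv xv).eq, mul_inv_cancel_right]
  have v4 : v ∈ C.ball p 4 :=
    C.adj_ball (C.adj_ball (C.adj_ball (C.adj_mem_ball_one (C.symm hp)) (C.symm hbu)) (C.symm hu))
      hv
  have w4 : v ∈ C.ball e 4 :=
    C.adj_ball (C.adj_ball (C.adj_ball (C.adj_mem_ball_one (C.symm hed)) (C.symm hd)) (C.symm hq))
      (C.symm hbv)
  have q2 : q ∈ C.ball e 2 := C.adj_ball (C.adj_mem_ball_one (C.symm hed)) (C.symm hd)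
  have cvA : Commute (C.c v) A := (Rad.comm_ball C h Pp Pv v4).symm
  have cvB : Commute (C.c v) B := (Rad.comm_ball C h Pe Pv w4).symm
  have cqB : Commute (C.c q) B :=
    (Rad.comm_ball C h Pe Pq (C.ball_mono (show 2 ≤ 4 by omega) q2)).symm
  have near : ∀ {i j}, C.P i → C.P j → j ∈ C.ball i 4 → Commute (C.c i) (C.c j) :=
    fun hi hj hb => Rad.comm_ball C h hi hj hb
  have cuv : Commute (C.c u) (C.c v) := near Pu Pv (C.ball_mono (show 2 ≤ 4 by omega)
    (C.adj_ball (C.adj_mem_ball_one (C.symm hu)) hv))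
  have cvq : Commute (C.c v) (C.c q) := near Pv Pq (C.ball_mono (show 2 ≤ 4 by omega)
    (C.adj_ball (C.adj_mem_ball_one hbv) hq))
  have cuq : Commute (C.c u) (C.c q) := near Pu Pq
    (C.adj_ball (C.adj_ball (C.adj_ball (C.adj_mem_ball_one (C.symm hu)) hv) hbv) hq)
  have not_v : C.c (x • e) ≠ B * C.c v := by
    intro hD
    have e1 := key _ hD
    have L : ∀ z, C.c v * (A * z) = A * (C.c v * z) := fun z => by
      rw [← mul_assoc, cvA.eq, mul_assoc]
    have L' : ∀ z, C.c v * (B * z) = B * (C.c v * z) := fun z => by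
      rw [← mul_assoc, cvB.eq, mul_assoc]
    simp only [mul_assoc, L, L', C.c_sq Pv, mul_one] at e1
    exact C.c_ne Pv (by simpa using e1)
  have not_q : C.c (x • e) ≠ B * C.c q := by
    intro hD
    have e1 := key _ hD
    set X := C.c u * C.c v * C.c q with hX
    have r2 : A * C.c q * A = X :=
      C.conj_six h he Pu (C.symm hp) (C.symm hbu) (C.symm hu) hv hbv hq pu.symm (Ne.symm bua)
        huv.symm bva qv
    have r1 : B * C.c u * B = C.c q * C.c v * C.c u :=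
      C.conj_six h he Pq (C.symm hed) (C.symm hd) (C.symm hq) (C.symm hbv) (C.symm hv) hu eq.symm
        (Ne.symm dbv) qv.symm (Ne.symm bva) huv
    have cpu : Commute A (C.c u) := near Pp Pu (C.ball_mono (show 2 ≤ 4 by omega)
      (C.adj_ball (C.adj_mem_ball_one (C.symm hp)) (C.symm hbu)))
    have moveq : A * (B * C.c q) = X * (A * B) := by
      rw [← cqB.eq, ← r2]
      simp only [mul_assoc, ← mul_assoc A A, hA, C.c_sq Pp, one_mul]
      rw [← mul_assoc (C.c p) (C.c p), C.c_sq Pp, one_mul]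
    have gX : A * B * X * (A * B)⁻¹ = C.c u := by
      rw [show A * B * X * (A * B)⁻¹ = A * ((B * C.c u * B⁻¹) * (B * C.c v * B⁻¹) *
          (B * C.c q * B⁻¹)) * A⁻¹ by rw [hX]; group, ← cvB.eq, mul_inv_cancel_right, ← cqB.eq,
        mul_inv_cancel_right, hB, C.c_inv Pe, ← hB, r1,
        show C.c q * C.c v * C.c u * C.c v * C.c q = C.c u by
          rw [mul_assoc (C.c q * C.c v) (C.c u), cuv.eq, ← mul_assoc, mul_assoc (C.c q) (C.c v),
            C.c_sq Pv, mul_one, mul_assoc, cuq.eq, ← mul_assoc, C.c_sq Pq, one_mul],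
        cpu.eq, mul_inv_cancel_right]
    have gu : A * B * C.c u * (A * B)⁻¹ = C.c q := by
      obtain ⟨⟨-, -, hgu⟩, -⟩ :=
        C.cube_half h he na hu hv huv hbu bua hp pu hbv bva hq qv hd dbv hed eq
      rw [C.c_smul _ Pu, hgu]
    have e2 : A * (B * C.c q) * A * (B * C.c q) * A * (B * C.c q) =
        X * (A * B * X * (A * B)⁻¹) * (A * B * (A * B * X * (A * B)⁻¹) * (A * B)⁻¹) *
          (A * B * A * B * A * B) := by
      rw [mul_assoc (A * (B * C.c q) * A * (B * C.c q)) A, mul_assoc (A * (B * C.c q)) A, moveq]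
      group
    rw [e2, gX, gu, mul_eq_right] at e1
    rw [hX, mul_assoc (C.c u * C.c v) (C.c q), ← cuq.eq, ← mul_assoc,
      mul_assoc _ (C.c q) (C.c q), C.c_sq Pq, mul_one, cuv.eq, mul_assoc, C.c_sq Pu,
      mul_one] at e1
    exact C.c_ne Pv e1
  have hxd : C.Adj q (x • d) := C.adj_fix xq hd
  rcases C.far_cases h he Pv hbv hq qv hd dbv hed eq hxd
    (fun e1 => dbv (MulAction.injective x (e1.trans xb.symm))) (C.adj_smul x hed)
    (fun e1 => eq (MulAction.injective x (e1.trans xq.symm))) with e1 | e1 | e1 | e1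
  · exact Or.inl e1
  · exact absurd e1 not_q
  · exact absurd e1 not_v
  · exact Or.inr e1

/-- The product of the involutions at distance 3 in the three branches at `a`. -/
theorem omega_facts {a u v w bu p bv q bw r : V} (na : ¬ C.P a) (hu : C.Adj a u) (hv : C.Adj a v)
    (hw : C.Adj a w) (huv : u ≠ v) (huw : u ≠ w) (hvw : v ≠ w) (hbu : C.Adj u bu) (bua : bu ≠ a)
    (hp : C.Adj bu p) (pu : p ≠ u) (hbv : C.Adj v bv) (bva : bv ≠ a) (hq : C.Adj bv q)
    (qv : q ≠ v) (hbw : C.Adj w bw) (bwa : bw ≠ a) (hr : C.Adj bw r) (rw' : r ≠ w) :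
    C.c p * C.c q * C.c r ∈ C.B a 2 ∧
      C.c ((C.c p * C.c q * C.c r) • q) = C.c v * C.c q ∧
      (C.c p * C.c q * C.c r) • p ≠ p ∧ (C.c p * C.c q * C.c r) • q ≠ q ∧
      (C.c p * C.c q * C.c r) • r ≠ r ∧
      ∀ x ∈ C.B a 3, Commute (C.c p * C.c q * C.c r) x := by
  have Pu := C.P_of_adj hu na
  have Pv := C.P_of_adj hv na
  have Pw := C.P_of_adj hw na
  have Pp := C.P_far Pu hbu hp
  have Pq := C.P_far Pv hbv hq
  have Pr := C.P_far Pw hbw hr
  have sw : C.c u * C.c v = C.c w := C.star h (by omega) na hu hv hw huv huw hvw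
  have pq := C.conj_six h he Pu (C.symm hp) (C.symm hbu) (C.symm hu) hv hbv hq pu.symm
    (Ne.symm bua) huv.symm bva qv
  have qp := C.conj_six h he Pv (C.symm hq) (C.symm hbv) (C.symm hv) hu hbu hp qv.symm
    (Ne.symm bva) huv bua pu
  have rq := C.conj_six h he Pw (C.symm hr) (C.symm hbw) (C.symm hw) hv hbv hq rw'.symm
    (Ne.symm bwa) hvw bva qv
  have rp := C.conj_six h he Pw (C.symm hr) (C.symm hbw) (C.symm hw) hu hbu hp rw'.symm
    (Ne.symm bwa) huw bua pu
  have qr := C.conj_six h he Pv (C.symm hq) (C.symm hbv) (C.symm hv) hw hbw hr qv.symm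
    (Ne.symm bva) hvw.symm bwa rw'
  have pr := C.conj_six h he Pu (C.symm hp) (C.symm hbu) (C.symm hu) hw hbw hr pu.symm
    (Ne.symm bua) huw.symm bwa rw'
  have swu : C.c w * C.c u = C.c v := C.star h (by omega) na hw hu hv huw.symm hvw.symm huv
  have swv : C.c w * C.c v = C.c u := C.star h (by omega) na hw hv hu hvw.symm huw.symm huv.symm
  have svw : C.c v * C.c w = C.c u := C.star h (by omega) na hv hw hu hvw huv.symm huw.symm
  have svu : C.c v * C.c u = C.c w := C.star h (by omega) na hv hu hw huv.symm hvw huw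
  have suw : C.c u * C.c w = C.c v := C.star h (by omega) na hu hw hv huw huv hvw.symm
  rw [sw] at pq; rw [svu] at qp; rw [swv] at rq; rw [swu] at rp; rw [svw] at qr; rw [suw] at pr
  have fixnb : ∀ {s b z : V}, C.Adj a s → C.Adj s b → C.Adj b z → ∀ {t}, C.Adj a t →
      C.c z • t = t := fun hs hb hz _ ht =>
    h.fix (C.P_far (C.P_of_adj hs na) hb hz) (C.adj_ball (C.adj_ball (C.adj_ball
      (C.adj_mem_ball_one (C.symm hz)) (C.symm hb)) (C.symm hs)) ht)
  have fixa : ∀ {s b z : V}, C.Adj a s → C.Adj s b → C.Adj b z → C.c z • a = a := fun hs hb hz =>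
    h.fix (C.P_far (C.P_of_adj hs na) hb hz) (C.ball_mono (show 3 ≤ 4 by omega)
      (C.adj_ball (C.adj_ball (C.adj_mem_ball_one (C.symm hz)) (C.symm hb)) (C.symm hs)))
  have conjc : ∀ {z t : V}, C.Adj a t → C.c z • t = t → C.P z →
      C.c z * C.c t * C.c z = C.c t := fun ht e hz => by
    rw [(C.comm (C.P_of_adj ht na) e).eq, mul_assoc, C.c_sq hz, mul_one]
  have split : ∀ {z : V}, C.P z → ∀ x y : G,
      C.c z * (x * y) * C.c z = (C.c z * x * C.c z) * (C.c z * y * C.c z) := fun {z} hz x y => by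
    simp only [mul_assoc]
    rw [← mul_assoc (C.c z) (C.c z), C.c_sq hz, one_mul]
  have qq : ∀ {z : V}, C.P z → C.c z * C.c z * C.c z = C.c z := fun hz => by
    rw [C.c_sq hz, one_mul]
  set W := C.c p * C.c q * C.c r with hW
  have expand : ∀ {z : V}, C.P z → C.c (W • z) =
      C.c p * (C.c q * (C.c r * C.c z * C.c r) * C.c q) * C.c p := fun hz => by
    rw [← C.c_smul W hz, hW, mul_inv_rev, mul_inv_rev, C.c_inv Pp, C.c_inv Pq, C.c_inv Pr]
    simp only [mul_assoc]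
  have cq : C.c (W • q) = C.c v * C.c q := by
    rw [expand Pq, rq, split Pq, conjc hu (fixnb hv hbv hq hu) Pq, qq Pq, split Pp,
      conjc hu (fixnb hu hbu hp hu) Pp, pq, ← mul_assoc (C.c u), suw]
  have cp : C.c (W • p) = C.c u * C.c p := by
    rw [expand Pp, rp, split Pq, conjc hv (fixnb hv hbv hq hv) Pq, qp, ← mul_assoc (C.c v), svw, split Pp,
      conjc hu (fixnb hu hbu hp hu) Pp, qq Pp]
  have cr : C.c (W • r) = C.c w * C.c r := by
    rw [expand Pr, qq Pr, qr, split Pp, conjc hu (fixnb hu hbu hp hu) Pp, pr, ← mul_assoc (C.c u),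
      C.star h (by omega) na hu hv hw huv huw hvw]
  have hne : ∀ {t z}, C.Adj a t → C.P z → C.c (W • z) = C.c t * C.c z → W • z ≠ z :=
    fun ht hz e1 e2 => C.c_ne (C.P_of_adj ht na)
      (mul_eq_right.1 (e1.symm.trans (by rw [e2])))
  refine ⟨?_, cq, hne hu Pp cp, hne hv Pq cq, hne hw Pr cr, fun x hx => ?_⟩
  · have Wa : W • a = a := by
      rw [hW, mul_smul, mul_smul, fixa hw hbw hr, fixa hv hbv hq, fixa hu hbu hp]
    refine C.mem_B_of_nbrs Wa fun t ht => ?_
    obtain ⟨t', ht', t'a⟩ := C.exists_other (C.symm ht)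
    have Wt : W • t = t := by
      rw [hW, mul_smul, mul_smul, fixnb hw hbw hr ht, fixnb hv hbv hq ht, fixnb hu hbu hp ht]
    refine C.B_one_of_fix Wt (C.symm ht) ht' t'a.symm Wa ?_
    have self : ∀ {b z : V}, C.Adj t b → C.Adj b z → ∀ {y}, C.Adj t y → C.c z • y = y :=
      fun hb hz _ hy => h.fix (C.P_far (C.P_of_adj ht na) hb hz) (C.ball_mono
        (show 3 ≤ 4 by omega) (C.adj_ball (C.adj_ball (C.adj_mem_ball_one (C.symm hz))
          (C.symm hb)) hy))
    have two : ∀ {s b z s' b' z' y : V}, C.Adj a s → C.Adj s b → b ≠ a → C.Adj b z → z ≠ s →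
        t ≠ s → C.Adj a s' → C.Adj s' b' → b' ≠ a → C.Adj b' z' → z' ≠ s' → t ≠ s' →
        C.Adj t y → y ≠ a → C.c z • C.c z' • y = y := by
      intro s b z s' b' z' y hs hb ba hz zs ts hs' hb' b'a hz' zs' ts' hy ya
      rw [C.same_image (fixnb hs' hb' hz' ht) (fixnb hs hb hz ht) (fixa hs' hb' hz')
        (fixa hs hb hz) (C.symm ht) hy (Ne.symm ya)
        (C.exact_five h he (C.P_far (C.P_of_adj hs' na) hb' hz') (C.symm hz') (C.symm hb')
          (C.symm hs') ht hy zs'.symm (Ne.symm b'a) ts' ya)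
        (C.exact_five h he (C.P_far (C.P_of_adj hs na) hb hz) (C.symm hz) (C.symm hb) (C.symm hs)
          ht hy zs.symm (Ne.symm ba) ts ya),
        C.c_smul_smul (C.P_far (C.P_of_adj hs na) hb hz)]
    rcases C.eq_third hu hv hw huv huw hvw ht with rfl | rfl | rfl
    · rw [hW, mul_smul, mul_smul, two hv hbv bva hq qv huv hw hbw bwa hr rw' huw ht' t'a,
        self hbu hp ht']
    · rw [hW, mul_smul, mul_smul]
      have hy : C.Adj t (C.c r • t') := C.adj_fix (fixnb hw hbw hr ht) ht'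
      rw [self hbv hq hy, two hu hbu bua hp pu huv.symm hw hbw bwa hr rw' hvw ht' t'a]
    · rw [hW, mul_smul, mul_smul, self hbw hr ht',
        two hu hbu bua hp pu huw.symm hv hbv bva hq qv hvw.symm ht' t'a]
  · have cz : ∀ {s b z : V}, C.Adj a s → C.Adj s b → C.Adj b z → Commute (C.c z) x :=
      fun hs hb hz => (C.comm (C.P_far (C.P_of_adj hs na) hb hz)
        (C.mem_B.1 hx _ (C.adj_ball (C.adj_ball (C.adj_mem_ball_one hs) hb) hz))).symm
    exact ((cz hu hbu hp).mul_left (cz hv hbv hq)).mul_left (cz hw hbw hr)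

theorem four_fibre {a u b : V} (na : ¬ C.P a) (hu : C.Adj a u) (hb : C.Adj u b) (hba : b ≠ a)
    {x : G} (hx : x ∈ C.B a 2) (xb : x ∈ C.B b 1) : x ∈ C.B u 2 := by
  have Pu := C.P_of_adj hu na
  have xu : x • u = u := C.mem_B.1 hx u (C.ball_mono (by omega) (C.adj_mem_ball_one hu))
  obtain ⟨b', hb', b'a, b'b, hall⟩ := C.exists_third (C.symm hu) hb hba.symm
  refine C.mem_B_of_nbrs xu fun z hz => ?_
  rcases hall z hz with e | e | e <;> subst e
  · exact C.B_anti z (by omega) hx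
  · exact xb
  obtain ⟨p, hp, pu⟩ := C.exists_other (C.symm hb)
  obtain ⟨p', hp', p'u⟩ := C.exists_other (C.symm hz)
  obtain ⟨v, hv, vu⟩ := C.exists_other hu
  have xz : x • z = z := C.mem_B.1 hx z (C.adj_ball (C.adj_mem_ball_one hu) hz)
  have Pp := C.P_far Pu hb hp
  have Pp' := C.P_far Pu hz hp'
  have Pv := C.P_of_adj hv na
  have hL : C.Lift u a (C.c p * C.c p') :=
    ⟨b, z, p, p', hb, hz, hba, b'a, b'b, hp, pu, hp', p'u, rfl⟩
  have k : Commute x (C.c p') := by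
    have cp : Commute x (C.c p) := C.comm Pp (C.fix_nbr xb hp)
    have cv : Commute x (C.c v) :=
      C.comm Pv (C.mem_B.1 hx v (C.ball_mono (by omega) (C.adj_mem_ball_one hv)))
    have key : C.c p' = C.c p * (C.c p * C.c p') := by rw [← mul_assoc, C.c_sq Pp, one_mul]
    rcases C.natural_four h he Pu u a v Pu (C.symm hu) hv vu _ hL with e | e <;> rw [key, e]
    · exact cp.mul_right cv
    · exact cp.mul_right (cv.mul_right (C.comm Pu xu))
  refine C.B_one_of_fix xz (C.symm hz) hp' p'u.symm xu (by_contra fun hne => ?_)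
  exact C.not_comm_sib (C.notP_of_adj hz Pu) hp' xz hne k

theorem four_delta {a u v w : V} (na : ¬ C.P a) (hu : C.Adj a u) (hv : C.Adj a v)
    (hw : C.Adj a w) (huv : u ≠ v) (huw : u ≠ w) (hvw : v ≠ w) {x : G} (hx : x ∈ C.B a 2)
    (xu : x ∈ C.B u 2) (xv : x ∈ C.B v 2) : x ∈ C.B w 2 := by
  obtain ⟨bu, hbu, bua⟩ := C.exists_other (C.symm hu)
  obtain ⟨bv, hbv, bva⟩ := C.exists_other (C.symm hv)
  obtain ⟨bw, hbw, bwa⟩ := C.exists_other (C.symm hw)
  obtain ⟨p, hp, pu⟩ := C.exists_other (C.symm hbu)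
  obtain ⟨q, hq, qv⟩ := C.exists_other (C.symm hbv)
  obtain ⟨r, hr, rw'⟩ := C.exists_other (C.symm hbw)
  obtain ⟨d, hd, dbv⟩ := C.exists_other (C.symm hq)
  obtain ⟨e, hed, eq⟩ := C.exists_other (C.symm hd)
  have Pu := C.P_of_adj hu na
  have Pv := C.P_of_adj hv na
  have Pw := C.P_of_adj hw na
  have Pp := C.P_far Pu hbu hp
  have Pq := C.P_far Pv hbv hq
  have Pe := C.P_far Pq hd hed
  by_contra hxw
  have xr : x • r ≠ r := fun e' => hxw (C.four_fibre h he na hw hbw bwa hx (C.B_one_of_fix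
    (C.mem_B.1 hx bw (C.adj_ball (C.adj_mem_ball_one hw) hbw)) (C.symm hbw) hr rw'.symm
    (C.mem_B.1 hx w (C.ball_mono (by omega) (C.adj_mem_ball_one hw))) e'))
  have cuq : Commute (C.c u) (C.c q) := Rad.comm_ball C h Pu Pq
    (C.adj_ball (C.adj_ball (C.adj_ball (C.adj_mem_ball_one (C.symm hu)) hv) hbv) hq)
  have cuv : Commute (C.c u) (C.c v) := Rad.comm_ball C h Pu Pv
    (C.ball_mono (show 2 ≤ 4 by omega) (C.adj_ball (C.adj_mem_ball_one (C.symm hu)) hv))
  have cqv : Commute (C.c q) (C.c v) := Rad.comm_ball C h Pq Pv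
    (C.ball_mono (show 2 ≤ 4 by omega) (C.adj_ball (C.adj_mem_ball_one (C.symm hq)) (C.symm hbv)))
  have ue : C.c u * C.c e * C.c u = C.c v * C.c q * C.c e :=
    C.conj_six h he Pv (C.symm hu) hv hbv hq hd hed huv.symm bva qv dbv eq
  have cBa : C.c u ∈ C.B a 2 := Rad.mem_B C h Pu (C.adj_mem_ball_one (C.symm hu)) (by omega)
  have cBu : C.c u ∈ C.B u 2 := Rad.mem_B C h Pu (C.self_mem_ball u 0) (by omega)
  have cBv : C.c u ∈ C.B v 2 :=
    Rad.mem_B C h Pu (C.adj_ball (C.adj_mem_ball_one (C.symm hu)) hv) (by omega)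
  have cBw : C.c u ∈ C.B w 2 :=
    Rad.mem_B C h Pu (C.adj_ball (C.adj_mem_ball_one (C.symm hu)) hw) (by omega)
  have xbv : x • bv = bv := C.mem_B.1 hx bv (C.adj_ball (C.adj_mem_ball_one hv) hbv)
  have xq : x • q = q := C.mem_B.1 xv q (C.adj_ball (C.adj_mem_ball_one hbv) hq)
  have xp : x • p = p := C.mem_B.1 xu p (C.adj_ball (C.adj_mem_ball_one hbu) hp)
  have xv' : x • v = v := C.mem_B.1 xv v (C.self_mem_ball v 2)
  obtain ⟨y, hy, hye, yu, yv, yr⟩ : ∃ y, y ∈ C.B a 2 ∧ Commute y (C.c e) ∧ y ∈ C.B u 2 ∧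
      y ∈ C.B v 2 ∧ y • r ≠ r := by
    rcases C.cube_rule h he na hu hv huv hbu bua hp pu hbv bva hq qv hd dbv hed eq xp xv' xbv xq
      with e1 | e1
    · refine ⟨x, hx, ?_, xu, xv, xr⟩
      have := C.c_smul x Pe
      rw [e1] at this
      exact mul_inv_eq_iff_eq_mul.1 this
    · refine ⟨C.c u * x, mul_mem cBa hx, ?_, mul_mem cBu xu, mul_mem cBv xv, fun e' => xr ?_⟩
      · have := C.c_smul x Pe
        rw [e1] at this
        refine mul_inv_eq_iff_eq_mul.1 ?_
        rw [show C.c u * x * C.c e * (C.c u * x)⁻¹ = C.c u * (x * C.c e * x⁻¹) * (C.c u)⁻¹ by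
          group, this, C.c_inv Pu]
        have cvqe : Commute (C.c v * C.c q) (C.c e) := Commute.mul_left
          (Rad.comm_ball C h Pe Pv (C.adj_ball (C.adj_ball (C.adj_ball (C.adj_mem_ball_one
            (C.symm hed)) (C.symm hd)) (C.symm hq)) (C.symm hbv))).symm
          (Rad.comm_ball C h Pe Pq (C.ball_mono (show 2 ≤ 4 by omega)
            (C.adj_ball (C.adj_mem_ball_one (C.symm hed)) (C.symm hd)))).symm
        calc C.c u * (C.c e * (C.c v * C.c q)) * C.c u
            = C.c u * C.c e * C.c u * (C.c v * C.c q) := by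
              rw [mul_assoc (C.c u * C.c e), ((cuv.mul_right cuq)).eq]; simp only [mul_assoc]
          _ = C.c e := by
              rw [ue, cvqe.eq, mul_assoc, show C.c v * C.c q * (C.c v * C.c q) = 1 by
                rw [mul_assoc, ← mul_assoc (C.c q), cqv.eq, mul_assoc, C.c_sq Pq, mul_one,
                  C.c_sq Pv], mul_one]
      · have cr : C.c u • r = r := C.mem_B.1 cBw r (C.adj_ball (C.adj_mem_ball_one hbw) hr)
        rw [mul_smul] at e'
        exact MulAction.injective (C.c u) (e'.trans cr.symm)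
  set g := C.c p * C.c e with hg
  obtain ⟨⟨ga, gv, gu⟩, -⟩ :=
    C.cube_half h he na hu hv huv hbu bua hp pu hbv bva hq qv hd dbv hed eq
  have yp : y • p = p := C.mem_B.1 yu p (C.adj_ball (C.adj_mem_ball_one hbu) hp)
  have hgy : Commute g y := (C.comm Pp yp).symm.mul_left hye.symm
  have ybv : y ∈ C.B bv 2 := ga ▸ C.conj_fix_B hgy hy
  obtain ⟨hWB, hWq, -, hWqm, hWrm, -⟩ := C.omega_facts h he na hu hv hw huv huw hvw hbu bua hp pu
    hbv bva hq qv hbw bwa hr rw'
  set W := C.c p * C.c q * C.c r with hW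
  have Wbv : W • bv = bv := C.mem_B.1 hWB bv (C.adj_ball (C.adj_mem_ball_one hv) hbv)
  have Wv : W • v = v := C.mem_B.1 hWB v (C.ball_mono (by omega) (C.adj_mem_ball_one hv))
  have hq' : C.Adj bv (W • q) := C.adj_fix Wbv hq
  have hd' := C.adj_smul W hd
  have he2 := C.adj_smul W hed
  have yd' : y • W • d = W • d := C.mem_B.1 ybv _ (C.adj_ball (C.adj_mem_ball_one hq') hd')
  have yq' : y • W • q = W • q :=
    C.mem_B.1 ybv _ (C.ball_mono (by omega) (C.adj_mem_ball_one hq'))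
  have Pr := C.P_far Pw hbw hr
  have yw : y • w = w := C.mem_B.1 hy w (C.ball_mono (by omega) (C.adj_mem_ball_one hw))
  have ybw : y • bw = bw := C.mem_B.1 hy bw (C.adj_ball (C.adj_mem_ball_one hw) hbw)
  have cyr : y * C.c r * y⁻¹ = C.c r * C.c w := by
    rw [C.c_smul y Pr]
    exact (C.star h (by omega) (C.notP_of_adj hbw Pw) hr (C.symm hbw) (C.adj_fix ybw hr) rw'
      (Ne.symm yr) (fun e' => rw' (MulAction.injective y (e'.symm.trans yw.symm)))).symm
  have yq : y • q = q := C.mem_B.1 yv q (C.adj_ball (C.adj_mem_ball_one hbv) hq)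
  have cyW : y * W * y⁻¹ = W * C.c w := by
    rw [show y * W * y⁻¹ = (y * C.c p * y⁻¹) * (y * C.c q * y⁻¹) * (y * C.c r * y⁻¹) by
      rw [hW]; group, cyr, (C.comm Pp yp).eq, mul_inv_cancel_right, (C.comm Pq yq).eq,
      mul_inv_cancel_right, hW]
    simp only [mul_assoc]
  have cwe : C.c w * C.c e * C.c w = C.c v * C.c q * C.c e := by
    have sw : C.c v * C.c u = C.c w := C.star h (by omega) na hv hu hw huv.symm hvw huw
    have cve : Commute (C.c v) (C.c e) := (Rad.comm_ball C h Pe Pv (C.adj_ball (C.adj_ball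
      (C.adj_ball (C.adj_mem_ball_one (C.symm hed)) (C.symm hd)) (C.symm hq)) (C.symm hbv))).symm
    calc C.c w * C.c e * C.c w = C.c v * (C.c u * C.c e * C.c u) * C.c v := by
          conv_lhs => arg 2; rw [← sw, ← cuv.eq]
          rw [← sw]; simp only [mul_assoc]
      _ = C.c v * C.c q * C.c e := by
          rw [ue, ← mul_assoc, ← mul_assoc, C.c_sq Pv, one_mul, mul_assoc, ← cve.eq, ← mul_assoc,
            cqv.eq]
  have ey : C.c (y • W • e) = C.c q * C.c (W • e) := by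
    have Pwe := (C.P_smul W e).2 Pe
    rw [← C.c_smul y Pwe, ← C.c_smul W Pe,
      show y * (W * C.c e * W⁻¹) * y⁻¹ = (y * W * y⁻¹) * (y * C.c e * y⁻¹) * (y * W * y⁻¹)⁻¹ by
        group,
      cyW, hye.eq, mul_inv_cancel_right, mul_inv_rev, C.c_inv Pw]
    have e3 : W * C.c v * W⁻¹ = C.c v := by rw [C.c_smul W Pv, Wv]
    have e4 : W * C.c q * W⁻¹ = C.c v * C.c q := by rw [C.c_smul W Pq, hWq]
    rw [show W * C.c w * C.c e * (C.c w * W⁻¹) = W * (C.c w * C.c e * C.c w) * W⁻¹ by group, cwe,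
      show W * (C.c v * C.c q * C.c e) * W⁻¹ = (W * C.c v * W⁻¹) * (W * C.c q * W⁻¹) *
        (W * C.c e * W⁻¹) by group, e3, e4, ← mul_assoc (C.c v), C.c_sq Pv, one_mul]
  by_cases e5 : y • W • e = W • e
  · rw [e5] at ey
    exact C.c_ne Pq (mul_eq_right.1 ey.symm)
  have Pq' := (C.P_smul W q).2 Pq
  have e6 := C.star h (by omega) (C.notP_of_adj hd' Pq') (C.symm hd') he2 (C.adj_fix yd' he2)
    (fun e' => eq (MulAction.injective W e'.symm))
    (fun e' => eq (MulAction.injective W (MulAction.injective y (yq'.trans e')).symm))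
    (fun e' => e5 e'.symm)
  rw [ey, hWq, mul_left_inj, mul_eq_right] at e6
  exact C.c_ne Pv e6

theorem four_eps_fibre {a u b p : V} (na : ¬ C.P a) (hu : C.Adj a u) (hb : C.Adj u b)
    (hba : b ≠ a) (hp : C.Adj b p) (pu : p ≠ u) {x : G} (hx : x ∈ C.B a 3) (xp : x ∈ C.B p 1) :
    x ∈ C.B u 3 := by
  have Pu := C.P_of_adj hu na
  obtain ⟨v, hv, vu⟩ := C.exists_other hu
  obtain ⟨w, hw, wu, wv, -⟩ := C.exists_third hu hv vu.symm
  obtain ⟨bv, hbv, bva⟩ := C.exists_other (C.symm hv)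
  obtain ⟨q, hq, qv⟩ := C.exists_other (C.symm hbv)
  obtain ⟨bw, hbw, bwa⟩ := C.exists_other (C.symm hw)
  obtain ⟨r, hr, rw'⟩ := C.exists_other (C.symm hbw)
  obtain ⟨hWB, -, hWp, -, -, hWc⟩ := C.omega_facts h he na hu hv hw vu.symm wu.symm wv.symm hb hba
    hp pu hbv bva hq qv hbw bwa hr rw'
  set W := C.c p * C.c q * C.c r
  have xu : x • u = u := C.mem_B.1 hx u (C.ball_mono (by omega) (C.adj_mem_ball_one hu))
  have xbu : x • b = b :=
    C.mem_B.1 hx b (C.ball_mono (by omega) (C.adj_ball (C.adj_mem_ball_one hu) hb))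
  have Wb : W • b = b := C.mem_B.1 hWB b (C.adj_ball (C.adj_mem_ball_one hu) hb)
  have Wu : W • u = u := C.mem_B.1 hWB u (C.ball_mono (by omega) (C.adj_mem_ball_one hu))
  have xu1 : x ∈ C.B u 1 := C.mem_B_succ.1 (C.B_anti a (show 2 ≤ 3 by omega) hx) u
    (C.adj_mem_ball_one hu)
  have xb2 : x ∈ C.B b 2 := by
    refine C.mem_B_of_nbrs xbu fun z hz => ?_
    rcases C.eq_third (C.symm hb) hp (C.adj_fix Wb hp) pu.symm
      (fun e => pu (MulAction.injective W (e.symm.trans Wu.symm))) (Ne.symm hWp) hz with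
      e | e | e <;> subst e
    · exact xu1
    · exact xp
    · exact C.conj_fix_B (hWc x hx) xp
  refine C.mem_B_of_nbrs xu fun z hz => ?_
  by_cases za : z = a
  · exact za ▸ C.B_anti a (by omega) hx
  by_cases zb : z = b
  · exact zb ▸ xb2
  have Pq := C.P_far (C.P_of_adj hv na) hbv hq
  have qu : C.c q • u = u := h.fix Pq (C.adj_ball (C.adj_ball (C.adj_ball
    (C.adj_mem_ball_one (C.symm hq)) (C.symm hbv)) (C.symm hv)) hu)
  have qa : C.c q • a = a := h.fix Pq (C.ball_mono (show 3 ≤ 4 by omega)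
    (C.adj_ball (C.adj_ball (C.adj_mem_ball_one (C.symm hq)) (C.symm hbv)) (C.symm hv)))
  have e := C.moved_eq_third qu qa (C.symm hu) hb hz hba.symm (Ne.symm za) (Ne.symm zb)
    (C.exact_five h he Pq (C.symm hq) (C.symm hbv) (C.symm hv) hu hb qv.symm (Ne.symm bva)
      vu.symm hba)
  have xq : x • q = q :=
    C.mem_B.1 hx q (C.adj_ball (C.adj_ball (C.adj_mem_ball_one hv) hbv) hq)
  exact e ▸ C.conj_fix_B (C.comm Pq xq).symm xb2

theorem four_eps {a u v w : V} (na : ¬ C.P a) (hu : C.Adj a u) (hv : C.Adj a v) (hw : C.Adj a w)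
    (huv : u ≠ v) (huw : u ≠ w) (hvw : v ≠ w) {x : G} (hx : x ∈ C.B a 3) (xu : x ∈ C.B u 3)
    (xv : x ∈ C.B v 3) : x ∈ C.B w 3 := by
  obtain ⟨bu, hbu, bua⟩ := C.exists_other (C.symm hu)
  obtain ⟨bv, hbv, bva⟩ := C.exists_other (C.symm hv)
  obtain ⟨bw, hbw, bwa⟩ := C.exists_other (C.symm hw)
  obtain ⟨p, hp, pu⟩ := C.exists_other (C.symm hbu)
  obtain ⟨q, hq, qv⟩ := C.exists_other (C.symm hbv)
  obtain ⟨r, hr, rw'⟩ := C.exists_other (C.symm hbw)
  obtain ⟨d, hd, dbv⟩ := C.exists_other (C.symm hq)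
  obtain ⟨e, hed, eq⟩ := C.exists_other (C.symm hd)
  have Pu := C.P_of_adj hu na
  have Pv := C.P_of_adj hv na
  have Pp := C.P_far Pu hbu hp
  have Pq := C.P_far Pv hbv hq
  have Pe := C.P_far Pq hd hed
  have xp : x • p = p := C.mem_B.1 hx p (C.adj_ball (C.adj_ball (C.adj_mem_ball_one hu) hbu) hp)
  have xq : x • q = q := C.mem_B.1 hx q (C.adj_ball (C.adj_ball (C.adj_mem_ball_one hv) hbv) hq)
  have xb : x • bv = bv :=
    C.mem_B.1 hx bv (C.ball_mono (by omega) (C.adj_ball (C.adj_mem_ball_one hv) hbv))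
  have xd : x • d = d := C.mem_B.1 xv d (C.adj_ball (C.adj_ball (C.adj_mem_ball_one hbv) hq) hd)
  have cxe : Commute x (C.c e) := by
    refine mul_inv_eq_iff_eq_mul.1 ((C.c_smul x Pe).trans ?_)
    rcases C.cube_rule h he na hu hv huv hbu bua hp pu hbv bva hq qv hd dbv hed eq xp
      (C.mem_B.1 xv v (C.self_mem_ball v 3)) xb xq with e1 | e1
    · exact e1
    rcases C.sib_mul h le_rfl Pq hd hed eq (C.adj_fix xd hed)
      (fun e2 => eq (MulAction.injective x (e2.trans xq.symm))) with e2 | e2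
    · exact e2
    · rw [e1, mul_right_inj, mul_eq_right] at e2
      exact absurd e2 (C.c_ne Pv)
  obtain ⟨⟨ga, gv, gu⟩, -⟩ :=
    C.cube_half h he na hu hv huv hbu bua hp pu hbv bva hq qv hd dbv hed eq
  have hgx : Commute (C.c p * C.c e) x := (C.comm Pp xp).symm.mul_left cxe.symm
  obtain ⟨hWB, -, -, hWq, -, hWc⟩ := C.omega_facts h he na hu hv hw huv huw hvw hbu bua hp pu hbv
    bva hq qv hbw bwa hr rw'
  set W := C.c p * C.c q * C.c r
  set g := C.c p * C.c e
  have Wbv : W • bv = bv := C.mem_B.1 hWB bv (C.adj_ball (C.adj_mem_ball_one hv) hbv)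
  have Wv : W • v = v := C.mem_B.1 hWB v (C.ball_mono (by omega) (C.adj_mem_ball_one hv))
  have xq3 : x ∈ C.B (W • q) 3 := C.conj_fix_B (hWc x hx) (gu ▸ C.conj_fix_B hgx xu)
  have hgw : C.Adj bv (g • w) := ga ▸ C.adj_smul g hw
  have gw : g • w = W • q := by
    rcases C.eq_third (C.symm hbv) hq (C.adj_fix Wbv hq) qv.symm
      (fun e' => qv (MulAction.injective W (e'.symm.trans Wv.symm))) (Ne.symm hWq) hgw with
      e' | e' | e'
    · exact absurd (MulAction.injective g (e'.trans gv.symm)) hvw.symm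
    · exact absurd (MulAction.injective g (e'.trans gu.symm)) huw.symm
    · exact e'
  rw [← gw] at xq3
  have := C.conj_fix_B hgx.inv_left xq3
  rwa [inv_smul_smul] at this

theorem B_four_bot' {a v : V} (na : ¬ C.P a) (hv : C.Adj a v) : C.B a (3 + 1) = ⊥ := by
  obtain ⟨u, hu, uv⟩ := C.exists_other hv
  obtain ⟨bu, hbu, bua⟩ := C.exists_other (C.symm hu)
  obtain ⟨p, hp, pu⟩ := C.exists_other (C.symm hbu)
  obtain ⟨bv, hbv, bva⟩ := C.exists_other (C.symm hv)
  obtain ⟨q, hq, qv⟩ := C.exists_other (C.symm hbv)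
  obtain ⟨d, hd, dbv⟩ := C.exists_other (C.symm hq)
  obtain ⟨e, hed, eq⟩ := C.exists_other (C.symm hd)
  have Pv := C.P_of_adj hv na
  have Pq := C.P_far Pv hbv hq
  have Pe := C.P_far Pq hd hed
  refine C.B_eq_bot hv (g := C.c e) (h.fix Pe (C.adj_ball (C.adj_ball (C.adj_ball
    (C.adj_mem_ball_one (C.symm hed)) (C.symm hd)) (C.symm hq)) (C.symm hbv))) ?_ fun x hx => ?_
  · exact C.exact_five h he Pe (C.symm hed) (C.symm hd) (C.symm hq) (C.symm hbv) (C.symm hv)
      eq.symm (Ne.symm dbv) qv.symm (Ne.symm bva)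
  have v1 := C.adj_mem_ball_one hv
  have xd : x • d = d := C.mem_B.1 hx d (C.adj_ball (C.adj_ball (C.adj_ball v1 hbv) hq) hd)
  have xq : x • q = q :=
    C.mem_B.1 hx q (C.ball_mono (by omega) (C.adj_ball (C.adj_ball v1 hbv) hq))
  have xp : x • p = p := C.mem_B.1 hx p
    (C.ball_mono (by omega) (C.adj_ball (C.adj_ball (C.adj_mem_ball_one hu) hbu) hp))
  refine (mul_inv_eq_iff_eq_mul.1 ((C.c_smul x Pe).trans ?_)).symm
  rcases C.cube_rule h he na hu hv uv hbu bua hp pu hbv bva hq qv hd dbv hed eq xp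
    (C.mem_B.1 hx v (C.ball_mono (by omega) v1))
    (C.mem_B.1 hx bv (C.ball_mono (by omega) (C.adj_ball v1 hbv))) xq with e1 | e1
  · exact e1
  rcases C.sib_mul h le_rfl Pq hd hed eq (C.adj_fix xd hed)
    (fun e2 => eq (MulAction.injective x (e2.trans xq.symm))) with e2 | e2
  · exact e2
  · rw [e1, mul_right_inj, mul_eq_right] at e2
    exact absurd e2 (C.c_ne Pv)

end Four

theorem bound_four (h : C.Rad 4) {u a : V} (hPu : C.P u) (hua : C.Adj u a) :
    Nat.card (stabilizer G u ⊓ stabilizer G a : Subgroup G) ≤ 2 ^ 7 := by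
  have he := C.exact_four_rad h
  have na := C.notP_of_adj hua hPu
  have hu := C.symm hua
  obtain ⟨v, hv, vu⟩ := C.exists_other hu
  obtain ⟨w, hw, wu, wv, hall⟩ := C.exists_third hu hv vu.symm
  obtain ⟨bu, hbu, bua⟩ := C.exists_other (C.symm hu)
  obtain ⟨bv, hbv, bva⟩ := C.exists_other (C.symm hv)
  obtain ⟨bw, hbw, bwa⟩ := C.exists_other (C.symm hw)
  obtain ⟨p, hp, pu⟩ := C.exists_other (C.symm hbu)
  obtain ⟨q, hq, qv⟩ := C.exists_other (C.symm hbv)
  obtain ⟨r, hr, rw'⟩ := C.exists_other (C.symm hbw)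
  obtain ⟨hWB, -, hWp, hWq, hWr, -⟩ := C.omega_facts h he na hu hv hw vu.symm wu.symm wv.symm hbu
    bua hp pu hbv bva hq qv hbw bwa hr rw'
  set W := C.c p * C.c q * C.c r
  set S := stabilizer G u ⊓ stabilizer G a
  set H₁ := S ⊓ C.B a 1
  set H₂ := H₁ ⊓ C.B u 1
  set H₃ := H₂ ⊓ C.B v 1
  set H₄ := H₃ ⊓ C.B w 1
  set H₅ := H₄ ⊓ C.B bu 1
  set H₆ := H₅ ⊓ C.B p 1
  set H₇ := H₆ ⊓ C.B q 1
  have c1 : Nat.card S ≤ 2 * Nat.card H₁ :=
    C.card_inter_B (H := S) hua (le_refl _) hu fun x hx => ⟨hx.2, hx.1⟩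
  have c2 : Nat.card H₁ ≤ 2 * Nat.card H₂ :=
    C.card_inter_B (H := H₁) hua inf_le_left hua fun x hx => ⟨hx.1.1, hx.1.2⟩
  have c3 : Nat.card H₂ ≤ 2 * Nat.card H₃ :=
    C.card_inter_B (H := H₂) hua (fun x hx => hx.1.1) (C.symm hv) fun x hx =>
      ⟨C.fix_nbr hx.1.2 hv, hx.1.1.2⟩
  have c4 : Nat.card H₃ ≤ 2 * Nat.card H₄ :=
    C.card_inter_B (H := H₃) hua (fun x hx => hx.1.1.1) (C.symm hw) fun x hx =>
      ⟨C.fix_nbr hx.1.1.2 hw, hx.1.1.1.2⟩
  have c5 : Nat.card H₄ ≤ 2 * Nat.card H₅ :=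
    C.card_inter_B (H := H₄) hua (fun x hx => hx.1.1.1.1) (C.symm hbu) fun x hx =>
      ⟨C.fix_nbr hx.1.1.2 hbu, C.fix_nbr hx.1.1.1.2 hu⟩
  have mem4 : ∀ x ∈ H₄, x ∈ C.B a 2 := fun x ⟨⟨⟨⟨xS, _⟩, x1⟩, x2⟩, x3⟩ =>
    C.mem_B_of_nbrs xS.2 fun b hb => by
      rcases hall b hb with rfl | rfl | rfl
      · exact x1
      · exact x2
      · exact x3
  have mem5 : ∀ x ∈ H₅, x ∈ C.B a 3 := by
    intro x hx
    have hx2 := mem4 x hx.1
    have xu := C.four_fibre h he na hu hbu bua hx2 hx.2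
    have key : ∀ {t b z : V} {y : G}, C.Adj a t → C.Adj t b → b ≠ a → C.Adj b z → z ≠ t →
        W • z ≠ z → y ∈ C.B a 2 → y ∉ C.B t 2 → y * W ∈ C.B t 2 := by
      intro t b z y ht hb ba hz zt Wz hy hyt
      have yb : y • b = b := C.mem_B.1 hy b (C.adj_ball (C.adj_mem_ball_one ht) hb)
      have yt : y • t = t := C.mem_B.1 hy t (C.ball_mono (by omega) (C.adj_mem_ball_one ht))
      have Wb : W • b = b := C.mem_B.1 hWB b (C.adj_ball (C.adj_mem_ball_one ht) hb)
      have Wt : W • t = t := C.mem_B.1 hWB t (C.ball_mono (by omega) (C.adj_mem_ball_one ht))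
      have yz : y • z ≠ z := fun e => hyt (C.four_fibre h he na ht hb ba hy
        (C.B_one_of_fix yb (C.symm hb) hz zt.symm yt e))
      refine C.four_fibre h he na ht hb ba (mul_mem hy hWB) (C.B_one_of_fix
        (by rw [mul_smul, Wb, yb]) (C.symm hb) hz zt.symm (by rw [mul_smul, Wt, yt]) ?_)
      rw [mul_smul, C.same_image Wb yb Wt yt (C.symm hb) hz zt.symm Wz yz]
      exact C.twice_image yb yt (C.symm hb) hz zt.symm
    refine C.mem_B_of_nbrs hx.1.1.1.1.1.2 fun b hb => ?_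
    by_cases xv : x ∈ C.B v 2
    · rcases hall b hb with rfl | rfl | rfl
      · exact xu
      · exact xv
      · exact C.four_delta h he na hu hv hw vu.symm wu.symm wv.symm hx2 xu xv
    exfalso
    have xw : x ∉ C.B w 2 := fun h' =>
      xv (C.four_delta h he na hu hw hv wu.symm vu.symm wv hx2 xu h')
    have := mul_mem (inv_mem xu) (C.four_delta h he na hv hw hu wv.symm vu wu (mul_mem hx2 hWB)
      (key hv hbv bva hq qv hWq hx2 xv) (key hw hbw bwa hr rw' hWr hx2 xw))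
    rw [inv_mul_cancel_left] at this
    exact hWp (C.mem_B.1 this p (C.adj_ball (C.adj_mem_ball_one hbu) hp))
  have c6 : Nat.card H₅ ≤ 2 * Nat.card H₆ :=
    C.card_inter_B (H := H₅) hua (fun x hx => hx.1.1.1.1.1) (C.symm hp) fun x hx =>
      ⟨C.mem_B.1 (mem5 x hx) p (C.adj_ball (C.adj_ball (C.adj_mem_ball_one hu) hbu) hp),
        C.mem_B.1 (mem5 x hx) bu
          (C.ball_mono (by omega) (C.adj_ball (C.adj_mem_ball_one hu) hbu))⟩
  have c7 : Nat.card H₆ ≤ 2 * Nat.card H₇ :=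
    C.card_inter_B (H := H₆) hua (fun x hx => hx.1.1.1.1.1.1) (C.symm hq) fun x hx =>
      ⟨C.mem_B.1 (mem5 x hx.1) q (C.adj_ball (C.adj_ball (C.adj_mem_ball_one hv) hbv) hq),
        C.mem_B.1 (mem5 x hx.1) bv
          (C.ball_mono (by omega) (C.adj_ball (C.adj_mem_ball_one hv) hbv))⟩
  have c8 : H₇ ≤ ⊥ := by
    rw [← C.B_four_bot' h he na hv]
    intro x hx
    have hx3 := mem5 x hx.1.1
    have xu := C.four_eps_fibre h he na hu hbu bua hp pu hx3 hx.1.2
    have xv := C.four_eps_fibre h he na hv hbv bva hq qv hx3 hx.2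
    refine C.mem_B_of_nbrs (C.mem_B.1 hx3 a (C.self_mem_ball a 3)) fun b hb => ?_
    rcases hall b hb with rfl | rfl | rfl
    · exact xu
    · exact xv
    · exact C.four_eps h he na hu hv hw vu.symm wu.symm wv.symm hx3 xu xv
  rw [le_bot_iff.1 c8, Subgroup.card_bot] at c7
  omega

end Cfsg.Agent.Class49.Trivalent.Ctx
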