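import Cfsg.Agent.Class49.Trivalent.EvenSix
import Cfsg.Agent.Class49.Trivalent.Four

/-!
The radius is at most four, and the edge stabiliser has order at most `2 ^ 7`.
-/

set_option autoImplicit false
set_option linter.unusedSectionVars false
set_option linter.unusedVariables false
set_option linter.unusedSimpArgs false

open Subgroup MulAction

namespace Cfsg.Agent.Class49.Trivalent.Ctx

variable {G : Type*} {V : Type*} [Group G] [MulAction G V] (C : Ctx G V) {R : ℕ}

theorem not_stuck (hs : C.Stuck) (h : C.Rad R) (hR : 8 ≤ R) (hev : R % 2 = 0) : False := by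
  have hR6 : 6 ≤ R := by omega
  obtain ⟨L, hL⟩ := C.exists_line h hR6 hev ((R - 2) / 2)
  have hk : 2 * ((R - 2) / 2) = R - 2 := by omega
  have hw := Line.walk C h hR6 hev hL
  have P : ∀ i, i ≤ 2 * R → i % 2 = 0 → C.P (L i) := fun i hi he =>
    Line.even_P C h hR6 hev hL (by omega) he
  have wf : ∀ i j, i % 2 = 0 → i ≤ 2 * R → j ≤ 2 * R → i ≤ j + R → j ≤ i + R →
      C.c (L i) • L j = L j := fun i j h1 h2 h3 h4 h5 =>
    Line.walk_fix C h hR6 hev hL h4 h5 (by omega) (by omega) h1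
  have adj : ∀ i j, j = i + 1 → i < 2 * R → C.Adj (L i) (L j) := fun i j e hi =>
    e ▸ hw.1 i (by omega)
  have ne2 : ∀ i j, j = i + 2 → j ≤ 2 * R → L j ≠ L i := fun i j e hi =>
    e ▸ hw.2 i (by omega)
  obtain ⟨u14, u1R⟩ := PL.of_crit C hs h hR6 hev (hL 1 (by omega))
  obtain ⟨u26, u2R⟩ := PL.of_crit C hs h hR6 hev (hL 2 (by omega))
  simp only [show (2 : ℕ) * 1 + 2 = 4 from rfl, show (2 : ℕ) * 1 + 3 = 5 from rfl,
    show 2 * 1 + R = R + 2 by omega, show 2 * 1 + (R - 1) = R + 1 by omega] at u14 u1R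
  simp only [show (2 : ℕ) * 2 + 2 = 6 from rfl, show (2 : ℕ) * 2 + 3 = 7 from rfl,
    show 2 * 2 + R = R + 4 by omega, show 2 * 2 + (R - 1) = R + 3 by omega] at u26 u2R
  set u1 := C.U R (fun i => L (2 * 1 + i))
  set u2 := C.U R (fun i => L (2 * 2 + i))
  set x := C.c (L 0)
  set c0 := C.c (L 2)
  have xf : ∀ j, j ≤ R → x • L j = L j := fun j hj =>
    wf 0 j rfl (by omega) (by omega) (by omega) (by omega)
  have xu1 : Commute x u1 := PL.comm C hs h hR6 hev (P 4 (by omega) rfl) (adj 4 5 rfl (by omega))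
    u14 (xf 4 (by omega)) (xf 5 (by omega))
  have xu2 : Commute x u2 := PL.comm C hs h hR6 hev (P 6 (by omega) rfl) (adj 6 7 rfl (by omega))
    u26 (xf 6 (by omega)) (xf 7 (by omega))
  have P0 := P 0 (by omega) rfl
  have P2 := P 2 (by omega) rfl
  have PA := P R (by omega) hev
  have Pm := P (R + 2) (by omega) (by omega)
  have Py := P (R + 4) (by omega) (by omega)
  have Pp := P (R - 2) (by omega) (by omega)
  have Pr := P (2 * R) le_rfl (by omega)
  set A := L R
  set a := L (R + 1)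
  set m := L (R + 2)
  set b := L (R + 3)
  set y := L (R + 4)
  have hAa : C.Adj A a := adj R (R + 1) rfl (by omega)
  have ham : C.Adj a m := adj (R + 1) (R + 2) rfl (by omega)
  have hmb : C.Adj m b := adj (R + 2) (R + 3) rfl (by omega)
  have hby : C.Adj b y := adj (R + 3) (R + 4) rfl (by omega)
  have hmA : m ≠ A := ne2 R (R + 2) rfl (by omega)
  have hba : b ≠ a := ne2 (R + 1) (R + 3) rfl (by omega)
  have hym : y ≠ m := ne2 (R + 2) (R + 4) rfl (by omega)
  have nA : C.Adj A (L (R - 1)) := C.symm (adj (R - 1) R (by omega) (by omega))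
  have hpA : C.Adj (L (R - 1)) (L (R - 2)) := C.symm (adj (R - 2) (R - 1) (by omega) (by omega))
  have hpne : L (R - 2) ≠ A := (ne2 (R - 2) R (by omega) (by omega)).symm
  have hne1 : L (R - 1) ≠ a := (ne2 (R - 1) (R + 1) (by omega) (by omega)).symm
  have na := C.notP_of_adj hAa PA
  have nb := C.notP_of_adj hmb Pm
  have xa : x • a ≠ a := Line.right C h hR6 hev hL (i := 0) rfl (by omega) (by omega)
  have c0a : c0 • a = a := wf 2 (R + 1) rfl (by omega) (by omega) (by omega) (by omega)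
  have c0A : c0 • A = A := wf 2 R rfl (by omega) (by omega) (by omega) (by omega)
  have c0m : c0 • m = m := wf 2 (R + 2) rfl (by omega) (by omega) (by omega) (by omega)
  have c0b : c0 • b ≠ b := Line.right C h hR6 hev hL (i := 2) rfl (by omega) (by omega)
  set b'' := c0 • b
  have hmb'' : C.Adj m b'' := C.adj_fix c0m hmb
  have hb''a : b'' ≠ a := fun e => hba (MulAction.injective c0 (e.trans c0a.symm))
  obtain ⟨τ, hτ, τa⟩ := C.exists_fix_nbrs_move (C.symm hmb'') (C.symm ham) hb''a.symm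
  have τb'' : τ • b'' = b'' := C.mem_B.1 hτ _ (C.self_mem_ball _ _)
  have τm : τ • m = m := C.fix_nbr hτ (C.symm hmb'')
  have τab : τ • a = b := C.moved_eq_third τm τb'' hmb'' (C.symm ham) hmb hb''a c0b hba.symm τa
  set B0 := τ • A
  have hbB0 : C.Adj b B0 := τab ▸ C.adj_smul τ (C.symm hAa)
  have hB0m : B0 ≠ m := fun e => hmA (MulAction.injective τ (τm.trans e.symm))
  -- the lift at `(A, a)`
  obtain ⟨σ, hσ, σA1⟩ := C.exists_fix_nbrs_move (C.symm hAa) nA hne1
  set S1 := σ • L (R - 2)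
  set M := C.c (L (R - 2)) * C.c S1
  have hM : C.PL A a M := ⟨σ, L (R - 1), L (R - 2), hσ, nA, hne1, σA1, hpA, hpne, rfl⟩
  have σA : σ • A = A := C.fix_nbr hσ (C.symm hAa)
  have σa : σ • a = a := C.mem_B.1 hσ _ (C.self_mem_ball _ _)
  have xA : x • A = A := xf R le_rfl
  have xA1 : x • L (R - 1) = L (R - 1) := xf (R - 1) (by omega)
  have xxa : x • x • a = a := C.c_smul_smul P0 a
  have hxane : x • a ≠ L (R - 1) := fun e => hne1.symm
    (MulAction.injective x (e.trans xA1.symm))
  have σA1' : σ • L (R - 1) = x • a :=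
    C.moved_eq_third σA σa hAa nA (C.adj_fix xA hAa) hne1.symm xa.symm hxane.symm σA1
  have hS1 : C.Adj (x • a) S1 := σA1' ▸ C.adj_smul σ hpA
  have hS1A : S1 ≠ A := fun e => hpne (MulAction.injective σ (e.trans σA.symm))
  have PS1 : C.P S1 := (C.P_smul σ _).2 Pp
  have hMb : C.PL B0 b M := by
    have h1 := PL.smul C PA hM τ
    rw [τab, (C.pl_move hs h hR6 hev Pm hmb'' (C.symm ham) hb''a.symm (C.symm hAa) hmA.symm hτ τa
      hM).eq, mul_inv_cancel_right] at h1
    exact h1
  have xp : Commute x (C.c (L (R - 2))) := C.comm Pp (xf (R - 2) (by omega))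
  by_cases hB0 : B0 = y
  · -- the lift is fixed by `x`
    have e : u2 = M := PL.unique C hs h hR6 hev Py (C.symm hby) (hB0 ▸ hMb) u2R
    refine C.not_comm_branch h (by omega) PA (C.adj_fix xA hAa) hS1 hS1A xA
      (fun e' => xa (e'.symm.trans xxa)) ?_
    have := xp.mul_right (e ▸ xu2 : Commute x M)
    rwa [← mul_assoc, C.c_sq Pp, one_mul] at this
  -- the remaining case
  have PB0 : C.P B0 := C.P_of_adj hbB0 nb
  have cB0 : C.c B0 = C.c y * C.c m :=
    (C.star h (by omega) nb hby (C.symm hmb) hbB0 hym (Ne.symm hB0) hB0m.symm).symm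
  have c0B : c0 ∈ C.B a 1 := Rad.mem_B C h (s := R - 1) P2
    (Tri.Walk.near C.toTri hw (by omega) (by omega) (by omega) (by omega)) (by omega)
  have e1 : u1 = C.c B0 * C.c (c0 • B0) := PL.unique C hs h hR6 hev Pm (C.symm ham)
    ⟨c0, b, B0, c0B, hmb, hba, c0b, hbB0, hB0m, rfl⟩ u1R
  set N := C.c A * C.c (c0 • B0)
  have hN : C.PL m b N := by
    refine ⟨c0 * τ * c0⁻¹, a, A, ?_, C.symm ham, hba.symm, ?_, C.symm hAa, hmA.symm, ?_⟩
    · have h1 := C.conj_mem_B c0 hτ
      rwa [C.c_smul_smul P2] at h1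
    · rw [smul_conj, smul_inv_of_fix c0a, τab]; exact hb''a
    · rw [smul_conj, smul_inv_of_fix c0A]
  have eu2 : N * M = u2 := C.pl_star hs h hR6 hev nb (C.symm hmb) hbB0 hby hB0m.symm hym.symm hB0
    hN hMb u2R
  have ec : C.c (c0 • B0) = C.c y * C.c m * u1 := by
    rw [e1, ← cB0, ← mul_assoc, C.c_sq PB0, one_mul]
  have fm := Lift.fix C h (by omega) Pm (C.symm ham) (PL.lift C (C.symm ham) u1R)
  have m1 : Commute u1 (C.c m) := C.comm Pm fm.1
  have m2 : Commute (C.c (L (R - 2))) (C.c m) :=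
    C.comm Pm (wf (R - 2) (R + 2) (by omega) (by omega) (by omega) (by omega) (by omega))
  have xcA : Commute x (C.c A) := C.comm PA xA
  -- `x` centralises `c m * c S1`
  have hxS : C.Adj a (x • S1) := by
    have := C.adj_smul x hS1
    rwa [xxa] at this
  have hxSA : x • S1 ≠ A := fun e => hS1A (MulAction.injective x (e.trans xA.symm))
  have cS1 : C.c S1 = x * C.c (x • S1) * x⁻¹ := by
    rw [C.c_smul x ((C.P_smul x _).2 PS1), C.c_smul_smul P0]
  have cmx : Commute (C.c m) (x * C.c m * x⁻¹) := by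
    rw [C.c_smul x Pm]
    exact C.comm_two h (by omega) PA hAa ham (C.adj_fix xA hAa) (C.adj_smul x ham)
  have xsym : Commute x (C.c m * (x * C.c m * x⁻¹)) := by
    have hx2 : x * x = 1 := C.c_sq P0
    rw [C.c_inv P0] at cmx ⊢
    show x * (C.c m * (x * C.c m * x)) = C.c m * (x * C.c m * x) * x
    calc x * (C.c m * (x * C.c m * x)) = (x * C.c m * x) * C.c m * x := by
          simp only [mul_assoc]
      _ = _ := by rw [cmx.eq]
  have xmS : Commute x (C.c m * C.c S1) := by
    rcases C.sib_mul h (by omega) PA hAa ham hmA hxS hxSA with e | e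
    · rw [cS1, e]; exact xsym
    · rw [cS1, e, show C.c m * (x * (C.c m * C.c A) * x⁻¹) =
        C.c m * (x * C.c m * x⁻¹) * (x * C.c A * x⁻¹) by group, xcA.eq, mul_inv_cancel_right]
      exact xsym.mul_right xcA
  have xy : Commute x (C.c y) := by
    have e2 : u2 = C.c A * C.c y * ((u1 * C.c (L (R - 2))) * (C.c m * C.c S1)) := by
      rw [← eu2]
      show C.c A * C.c (c0 • B0) * (C.c (L (R - 2)) * C.c S1) = _
      rw [ec, show u1 * C.c (L (R - 2)) * (C.c m * C.c S1) =
        (u1 * C.c (L (R - 2)) * C.c m) * C.c S1 by group, (m1.mul_left m2).eq]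
      simp only [mul_assoc]
    have e3 : C.c y = (C.c A)⁻¹ * u2 * ((u1 * C.c (L (R - 2))) * (C.c m * C.c S1))⁻¹ := by
      rw [e2]; group
    rw [e3]
    exact (xcA.inv_right.mul_right xu2).mul_right ((xu1.mul_right xp).mul_right xmS).inv_right
  set r := C.c (L (2 * R))
  have rA : r • A = A := wf (2 * R) R (by omega) le_rfl (by omega) (by omega) (by omega)
  have ra : r • a = a := wf (2 * R) (R + 1) (by omega) le_rfl (by omega) (by omega) (by omega)
  have ry : r • y = y := wf (2 * R) (R + 4) (by omega) le_rfl (by omega) (by omega) (by omega)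
  have rm : r • L (R - 1) ≠ L (R - 1) := by
    have := Line.left C h hR6 hev hL (i := R - 2) (n := 2 * R) (by omega) (by omega) (by omega)
    rwa [show R - 2 + 1 = R - 1 by omega] at this
  have rxa : r • x • a = L (R - 1) := by
    rw [← C.moved_eq_third rA ra hAa nA (C.adj_fix xA hAa) hne1.symm xa.symm hxane.symm rm]
    exact C.c_smul_smul Pr _
  have cv : C.c (r • x • y) = C.c y := by
    rw [← C.c_smul r ((C.P_smul x y).2 Py), C.c_eq_of_comm Py xy, C.c_smul r Py, ry]
  have hv : r • x • y ∈ C.ball (L 2) R := by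
    have h1 := C.smul_mem_ball r (C.smul_mem_ball x
      (Tri.Walk.near C.toTri hw (i := R + 1) (j := R + 4) (r := 3) (by omega) (by omega) (by omega)
        (by omega)))
    rw [rxa] at h1
    exact C.ball_mono (show R - 3 + 3 ≤ R by omega) (C.ball_trans
      (Tri.Walk.near C.toTri hw (i := 2) (j := R - 1) (r := R - 3) (by omega) (by omega) (by omega)
        (by omega)) h1)
  refine Line.ncomm C h hR6 hev hL (i := 2) (n := R + 4) rfl (by omega) (by omega) ?_
  show Commute c0 (C.c y)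
  rw [← cv]
  exact Rad.comm_ball C h P2 ((C.P_smul _ _).2 ((C.P_smul _ _).2 Py)) hv

theorem not_even (h : C.Rad R) (hR : 6 ≤ R) (hev : R % 2 = 0) : False := by
  rcases Nat.lt_or_ge R 8 with h8 | h8
  · obtain rfl : R = 6 := by omega
    exact C.not_six h
  rcases C.stuck_or_flip with hs | hf
  · exact C.not_stuck hs h h8 hev
  · exact C.not_natural h hR hev (C.natural_of_flip h hR hev hf) h8

/-- Goldschmidt's bound in terms of graphs. -/
theorem card_le {u a : V} (hu : C.P u) (hua : C.Adj u a) :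
    Nat.card (stabilizer G u ⊓ stabilizer G a : Subgroup G) ≤ 2 ^ 7 := by
  obtain ⟨R, h⟩ := C.exists_rad hu
  have := h.pos
  rcases (show R = 1 ∨ R = 2 ∨ R = 3 ∨ R = 4 ∨ (5 ≤ R ∧ R % 2 = 1) ∨ (6 ≤ R ∧ R % 2 = 0) by
    omega) with rfl | rfl | rfl | rfl | ⟨h1, h2⟩ | ⟨h1, h2⟩
  · exact C.bound_one h hu hua
  · exact C.bound_two h hu hua
  · exact C.bound_three h hu hua
  · exact C.bound_four h hu hua
  · exact (C.not_odd h h1 h2).elim
  · exact (C.not_even h h1 h2).elim

end Cfsg.Agent.Class49.Trivalent.Ctx
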