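import Cfsg.Agent.Class49.Trivalent.Graph

/-!
A trivalent graph action with a distinguished central involution at every vertex of one class.
-/

set_option autoImplicit false
set_option linter.unusedSectionVars false
set_option linter.unusedVariables false

open Subgroup MulAction

namespace Cfsg.Agent.Class49.Trivalent

/-- A trivalent action where each vertex of the class `P` carries a central involution, and the
vertices of the other class have no central elements. -/
structure Ctx (G : Type*) (V : Type*) [Group G] [MulAction G V] extends Tri G V where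
  c : V → G
  c_ne : ∀ {v : V}, P v → c v ≠ 1
  c_sq : ∀ {v : V}, P v → c v * c v = 1
  c_smul : ∀ (g : G) {v : V}, P v → g * c v * g⁻¹ = c (g • v)
  c_adj : ∀ {v w : V}, P v → Adj v w → c v • w = w ∧ c v • v = v
  noZ : ∀ {a u : V}, ¬ P a → Adj a u → ∀ {x : G}, x • a = a → x • u = u →
    (∀ g : G, g • a = a → Commute g x) → x = 1

variable {G : Type*} {V : Type*} [Group G] [MulAction G V]

namespace Ctx

variable (C : Ctx G V)

theorem c_self {v : V} (hv : C.P v) : C.c v • v = v := by
  obtain ⟨a, ha⟩ := C.exists_adj v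
  exact (C.c_adj hv ha).2

theorem c_inv {v : V} (hv : C.P v) : (C.c v)⁻¹ = C.c v := inv_eq_of_mul_eq_one_right (C.c_sq hv)

theorem c_smul_smul {v : V} (hv : C.P v) (w : V) : C.c v • C.c v • w = w := by
  rw [← mul_smul, C.c_sq hv, one_smul]

theorem comm {g : G} {v : V} (hv : C.P v) (h : g • v = v) : Commute g (C.c v) := by
  have := C.c_smul g hv
  rw [h, mul_inv_eq_iff_eq_mul] at this
  exact this

theorem c_eq_of_comm {g : G} {v : V} (hv : C.P v) (h : Commute g (C.c v)) :
    C.c (g • v) = C.c v := by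
  rw [← C.c_smul g hv, h.eq, mul_inv_cancel_right]

theorem c_conj {u v : V} (hu : C.P u) (hv : C.P v) :
    C.c u * C.c v * C.c u = C.c (C.c u • v) := by
  have := C.c_smul (C.c u) hv
  rwa [C.c_inv hu] at this

theorem smul_eq_of_fix {x : G} {v : V} (hv : C.P v) (h : x • v = v) (w : V) :
    C.c v • x • w = x • C.c v • w := by
  rw [← mul_smul, ← mul_smul, (C.comm hv h).eq]

/-- The radius to which the central involutions act trivially. -/
structure Rad (R : ℕ) : Prop where
  pos : 1 ≤ R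
  fix : ∀ {v : V}, C.P v → ∀ {w : V}, w ∈ C.ball v R → C.c v • w = w
  move : ∃ w : ℕ → V, C.Walk w (R + 1) ∧ C.P (w 0) ∧ C.c (w 0) • w (R + 1) ≠ w (R + 1)

/-- Any vertex of a ball is the end of a short walk. -/
theorem exists_walk {v : V} : ∀ {r : ℕ} {w : V}, w ∈ C.ball v r →
    ∃ k, k ≤ r ∧ ∃ p : ℕ → V, C.Walk p k ∧ p 0 = v ∧ p k = w
  | 0, w, hw => ⟨0, le_rfl, fun _ => v,
      ⟨fun i hi => absurd hi (by omega), fun i hi => absurd hi (by omega)⟩, rfl, hw.symm⟩
  | r + 1, w, ⟨x, hx, hw⟩ => by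
    obtain ⟨k, hk, p, hp, p0, pk⟩ := exists_walk hx
    rcases hw with rfl | hw
    · exact ⟨k, by omega, p, hp, p0, pk⟩
    by_cases e : k = 0 ∨ w ≠ p (k - 1)
    · refine ⟨k + 1, by omega, fun i => if i ≤ k then p i else w,
        hp.snoc C.toTri (pk ▸ hw) e, by simp [p0], by simp⟩
    · push Not at e
      exact ⟨k - 1, by omega, p, hp.mono C.toTri (by omega), p0, e.2.symm⟩

theorem exists_rad {v₀ : V} (hv₀ : C.P v₀) : ∃ R, C.Rad R := by
  by_cases h : ∀ r, ∀ {v : V}, C.P v → ∀ {w : V}, w ∈ C.ball v r → C.c v • w = w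
  · obtain ⟨a, ha⟩ := C.exists_adj v₀
    exact absurd (C.eq_one_of_fix_all ha fun r => C.mem_B.2 fun w hw => h r hv₀ hw) (C.c_ne hv₀)
  push Not at h
  classical
  let N := Nat.find h
  obtain ⟨v, hv, w, hw, hm⟩ := Nat.find_spec h
  have hN : 2 ≤ N := by
    by_contra hlt
    rcases C.mem_ball_one (C.ball_mono (show N ≤ 1 by omega) hw) with rfl | e
    · exact hm (C.c_self hv)
    · exact hm (C.c_adj hv e).1
  have hfix : ∀ {u : V}, C.P u → ∀ {z : V}, z ∈ C.ball u (N - 1) → C.c u • z = z := by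
    intro u hu z hz
    by_contra hc
    exact Nat.find_min h (show N - 1 < N by omega) ⟨u, hu, z, hz, hc⟩
  refine ⟨N - 1, by omega, hfix, ?_⟩
  obtain ⟨k, hk, p, hp, p0, pk⟩ := C.exists_walk hw
  have hk' : k = N := by
    by_contra hne
    refine hm (hfix hv (C.ball_mono (show k ≤ N - 1 by
      have : k ≤ N := hk
      omega) ?_))
    have := Tri.Walk.mem_ball C.toTri hp 0 k (by omega)
    rwa [Nat.zero_add, p0, pk] at this
  subst hk'
  exact ⟨p, by rwa [show N - 1 + 1 = N by omega], by rwa [p0],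
    by rw [show N - 1 + 1 = N by omega, p0, pk]; exact hm⟩

theorem Rad.fix_walk {R : ℕ} (h : C.Rad R) {w : ℕ → V} {n : ℕ} (hw : C.Walk w n) {i j : ℕ}
    (hP : C.P (w i)) (hi : i ≤ n) (hj : j ≤ n) (h1 : i ≤ j + R) (h2 : j ≤ i + R) :
    C.c (w i) • w j = w j :=
  h.fix hP (Tri.Walk.near C.toTri hw hi hj h1 h2)

theorem Rad.comm_walk {R : ℕ} (h : C.Rad R) {w : ℕ → V} {n : ℕ} (hw : C.Walk w n) {i j : ℕ}
    (hP : C.P (w i)) (hP' : C.P (w j)) (hi : i ≤ n) (hj : j ≤ n) (h1 : i ≤ j + R)
    (h2 : j ≤ i + R) : Commute (C.c (w i)) (C.c (w j)) :=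
  C.comm hP' (Rad.fix_walk C h hw hP hi hj h1 h2)

theorem Rad.comm_ball {R : ℕ} (h : C.Rad R) {u v : V} (hu : C.P u) (hv : C.P v)
    (hb : v ∈ C.ball u R) : Commute (C.c u) (C.c v) :=
  C.comm hv (h.fix hu hb)

theorem Rad.mem_B {R : ℕ} (h : C.Rad R) {u v : V} {s r : ℕ} (hu : C.P u) (hv : v ∈ C.ball u s)
    (hsr : s + r ≤ R) : C.c u ∈ C.B v r :=
  C.mem_B.2 fun _ hw => h.fix hu (C.ball_mono hsr (C.ball_trans hv hw))

/-- Subgroups normalised by an element and its inverse. -/
def Nor (N : Subgroup G) : Subgroup G where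
  carrier := {g | (∀ x ∈ N, g * x * g⁻¹ ∈ N) ∧ ∀ x ∈ N, g⁻¹ * x * g ∈ N}
  one_mem' := ⟨fun x hx => by simpa using hx, fun x hx => by simpa using hx⟩
  mul_mem' {p q} hp hq := ⟨fun x hx => by
      have := hp.1 _ (hq.1 x hx)
      simpa [mul_assoc] using this, fun x hx => by
      have := hq.2 _ (hp.2 x hx)
      simpa [mul_assoc] using this⟩
  inv_mem' {p} hp := ⟨fun x hx => by simpa using hp.2 x hx, fun x hx => by simpa using hp.1 x hx⟩

theorem stab_le_Nor {N : Subgroup G} {a : V}
    (h : ∀ g : G, g • a = a → ∀ x ∈ N, g * x * g⁻¹ ∈ N) : stabilizer G a ≤ Nor N :=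
  fun g hg => ⟨h g hg, fun x hx => by simpa using h g⁻¹ (smul_inv_of_fix hg) x hx⟩

/-- A subgroup normalised by a vertex stabiliser and an element moving an adjacent one is
trivial. -/
theorem core_of_nor {a b : V} (hab : C.Adj a b) {N : Subgroup G}
    (hN : N ≤ stabilizer G a ⊓ stabilizer G b) (hn : stabilizer G a ≤ Nor N) {g : G}
    (gb : g • b = b) (ga : g • a ≠ a) (hg : g ∈ Nor N) : N = ⊥ :=
  C.core hab N hN (fun p hp x hx => (hn hp).1 x hx) fun p hp x hx =>
    (C.stab_le (C.symm hab) (fun q hq => hn hq.2) hg gb ga hp).1 x hx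

theorem closure_conj {s : Set G} {g : G} (h : ∀ x ∈ s, g * x * g⁻¹ ∈ closure s) :
    ∀ x ∈ closure s, g * x * g⁻¹ ∈ closure s := by
  intro x hx
  induction hx using Subgroup.closure_induction with
  | mem x hx => exact h x hx
  | one => simp
  | mul a b _ _ iha ihb => simpa [mul_assoc] using mul_mem iha ihb
  | inv a _ iha => simpa [mul_assoc] using inv_mem iha

/-- Neighbours of a vertex without centre have distinct involutions. -/
theorem sib_ne {a u v : V} (ha : ¬ C.P a) (hu : C.Adj a u) (hv : C.Adj a v) (huv : u ≠ v) :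
    C.c u ≠ C.c v := by
  intro e
  have Pu := C.P_of_adj hu ha
  have Pv := C.P_of_adj hv ha
  obtain ⟨x, xa, xv, xu⟩ := C.swap hv hu huv
  have hle : stabilizer G a ≤ centralizer ({C.c u} : Set G) := by
    refine C.stab_le hu (fun p hp => ?_) ?_ xa xu
    · exact mem_centralizer_singleton_iff.2 (C.comm Pu hp.2).eq
    · rw [e]; exact mem_centralizer_singleton_iff.2 (C.comm Pv xv).eq
  exact C.c_ne Pu (C.noZ ha hu (C.c_adj Pu (C.symm hu)).1 (C.c_self Pu)
    fun g hg => mem_centralizer_singleton_iff.1 (hle hg))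

theorem not_comm_sib {a u : V} (ha : ¬ C.P a) (hu : C.Adj a u) {g : G} (ga : g • a = a)
    (gu : g • u ≠ u) : ¬ Commute g (C.c u) := fun h =>
  C.sib_ne ha (C.adj_fix ga hu) hu gu (C.c_eq_of_comm (C.P_of_adj hu ha) h)

variable {R : ℕ}

/-- The three involutions around a vertex without centre multiply to one. -/
theorem star (h : C.Rad R) (hR : 2 ≤ R) {a u v w : V} (ha : ¬ C.P a) (hu : C.Adj a u)
    (hv : C.Adj a v) (hw : C.Adj a w) (huv : u ≠ v) (huw : u ≠ w) (hvw : v ≠ w) :
    C.c u * C.c v = C.c w := by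
  have Pu := C.P_of_adj hu ha
  have Pv := C.P_of_adj hv ha
  have Pw := C.P_of_adj hw ha
  have near : ∀ {p q : V}, C.Adj a p → C.Adj a q → q ∈ C.ball p R := fun hp hq =>
    C.ball_mono hR (C.adj_ball (C.adj_mem_ball_one (C.symm hp)) hq)
  have cuv := Rad.comm_ball C h Pu Pv (near hu hv)
  have cuw := Rad.comm_ball C h Pu Pw (near hu hw)
  have cvw := Rad.comm_ball C h Pv Pw (near hv hw)
  set p := C.c u * C.c v * C.c w with hp
  have perm : ∀ g : G, g * p * g⁻¹ = C.c (g • u) * C.c (g • v) * C.c (g • w) := by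
    intro g
    rw [← C.c_smul g Pu, ← C.c_smul g Pv, ← C.c_smul g Pw, hp]
    group
  obtain ⟨g, ga, gu, gv, gw⟩ := C.exists_cycle hu hv hw huv huw hvw
  have hle : stabilizer G a ≤ centralizer ({p} : Set G) := by
    refine C.stab_le hu (fun x hx => ?_) (mem_centralizer_singleton_iff.2 ?_) ga (gu ▸ huv.symm)
    · refine mem_centralizer_singleton_iff.2 ?_
      have xa : x • a = a := hx.1
      have xu : x • u = u := hx.2
      have e := perm x
      by_cases xv : x • v = v
      · rw [xu, xv, C.fix_third xa hu hv huv xu xv hw, ← hp, mul_inv_eq_iff_eq_mul] at e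
        exact e
      · have e1 := C.moved_eq_third xa xu hu hv hw huv huw hvw xv
        have e2 : x • w = v := by rw [← e1]; exact C.twice_image xa xu hu hv huv
        rw [xu, e1, e2, mul_assoc (C.c u), ← cvw.eq, ← mul_assoc (C.c u), ← hp, mul_inv_eq_iff_eq_mul] at e
        exact e
    · have e := perm g
      rw [gu, gv, gw, mul_assoc (C.c v), ← cuw.eq, ← mul_assoc (C.c v), ← cuv.eq, ← hp,
        mul_inv_eq_iff_eq_mul] at e
      exact e
  have fixes : ∀ z : V, (∀ q, C.Adj a q → C.c q • z = z) → p • z = z := fun z hz => by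
    rw [hp, mul_smul, mul_smul, hz w hw, hz v hv, hz u hu]
  have p1 : p = 1 := C.noZ ha hu
    (fixes a fun q hq => (C.c_adj (C.P_of_adj hq ha) (C.symm hq)).1)
    (fixes u fun q hq => h.fix (C.P_of_adj hq ha) (near hq hu))
    fun g hg => mem_centralizer_singleton_iff.1 (hle hg)
  rw [← C.c_inv Pw]
  exact eq_inv_of_mul_eq_one_left p1

/-- Involutions of vertices in different branches at distance 4 are independent. -/
theorem branch_ne (h : C.Rad R) (hR : 2 ≤ R) {m a b u w : V} (hm : C.P m) (ha : C.Adj m a)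
    (hb : C.Adj m b) (hab : a ≠ b) (hu : C.Adj a u) (hum : u ≠ m) (hw : C.Adj b w)
    (hwm : w ≠ m) : C.c u ≠ C.c w ∧ C.c u ≠ C.c w * C.c m := by
  have na := C.notP_of_adj ha hm
  have nb := C.notP_of_adj hb hm
  have gens : ∀ {b w : V}, ¬ C.P b → C.Adj b m → C.Adj b w → w ≠ m →
      ∀ g : G, g • b = b → ∀ x ∈ closure ({C.c m, C.c w} : Set G),
        g * x * g⁻¹ ∈ closure ({C.c m, C.c w} : Set G) := by
    intro b w nb hbm hbw hne g hg
    obtain ⟨w', hw', hw'm, hw'w, h3⟩ := C.exists_third hbm hbw hne.symm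
    have hm' : C.c m ∈ closure ({C.c m, C.c w} : Set G) := subset_closure (Or.inl rfl)
    have hw1 : C.c w ∈ closure ({C.c m, C.c w} : Set G) := subset_closure (Or.inr rfl)
    have hall : ∀ q, C.Adj b q → C.c q ∈ closure ({C.c m, C.c w} : Set G) := by
      intro q hq
      rcases h3 q hq with rfl | rfl | rfl
      · exact hm'
      · exact hw1
      · rw [← C.star h hR nb hbm hbw hq hne.symm hw'm.symm hw'w.symm]
        exact mul_mem hm' hw1
    refine closure_conj fun x hx => ?_
    rcases hx with rfl | rfl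
    · rw [C.c_smul g hm]; exact hall _ (C.adj_fix hg hbm)
    · rw [C.c_smul g (C.P_of_adj hbw nb)]; exact hall _ (C.adj_fix hg hbw)
  suffices key : closure ({C.c m, C.c u} : Set G) ≠ closure ({C.c m, C.c w} : Set G) by
    have hsub : C.c u ∈ closure ({C.c m, C.c w} : Set G) →
        C.c w ∈ closure ({C.c m, C.c u} : Set G) → False := fun h1 h2 =>
      key (le_antisymm
        ((closure_le _).2 (by
          rintro x (rfl | rfl)
          · exact subset_closure (Or.inl rfl)
          · exact h1))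
        ((closure_le _).2 (by
          rintro x (rfl | rfl)
          · exact subset_closure (Or.inl rfl)
          · exact h2)))
    refine ⟨fun e => hsub ?_ ?_, fun e => hsub ?_ ?_⟩
    · rw [e]; exact subset_closure (Or.inr rfl)
    · rw [← e]; exact subset_closure (Or.inr rfl)
    · rw [e]; exact mul_mem (subset_closure (Or.inr rfl)) (subset_closure (Or.inl rfl))
    · have e' : C.c w = C.c u * C.c m := by rw [e, mul_assoc, C.c_sq hm, mul_one]
      rw [e']; exact mul_mem (subset_closure (Or.inr rfl)) (subset_closure (Or.inl rfl))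
  intro e
  have Pu := C.P_of_adj hu na
  have hN : closure ({C.c m, C.c u} : Set G) ≤ stabilizer G a ⊓ stabilizer G m := by
    rw [closure_le]
    rintro x (rfl | rfl)
    · exact ⟨(C.c_adj hm ha).1, C.c_self hm⟩
    · exact ⟨(C.c_adj Pu (C.symm hu)).1, h.fix Pu
        (C.ball_mono hR (C.adj_ball (C.adj_mem_ball_one (C.symm hu)) (C.symm ha)))⟩
  obtain ⟨g, gm, gb, ga⟩ := C.swap hb ha hab
  have bot := C.core_of_nor (C.symm ha) hN (stab_le_Nor (gens na (C.symm ha) hu hum)) gm ga
    (e ▸ stab_le_Nor (gens nb (C.symm hb) hw hwm) gb)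
  exact C.c_ne hm ((Subgroup.mem_bot).1 (bot ▸ subset_closure (Or.inl rfl)))

theorem not_comm_branch (h : C.Rad R) (hR : 2 ≤ R) {m a u : V} (hm : C.P m) (ha : C.Adj m a)
    (hu : C.Adj a u) (hum : u ≠ m) {g : G} (gm : g • m = m) (ga : g • a ≠ a) :
    ¬ Commute g (C.c u) := fun hc =>
  (C.branch_ne h hR hm (C.adj_fix gm ha) ha ga (C.adj_smul g hu)
    (fun e => hum (MulAction.injective g (e.trans gm.symm))) hu hum).1
    (C.c_eq_of_comm (C.P_of_adj hu (C.notP_of_adj ha hm)) hc)

/-- The neighbourhood stabilisers of adjacent vertices are distinct. -/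
theorem exists_fix_nbrs_move {a b : V} (hab : C.Adj a b) {w : V} (hw : C.Adj b w) (hwa : w ≠ a) :
    ∃ x : G, x ∈ C.B a 1 ∧ x • w ≠ w := by
  by_contra hcon
  push Not at hcon
  have key : ∀ x ∈ C.B a 1, x ∈ C.B b 1 := fun x hx => by
    have xa : x • a = a := C.mem_B.1 hx _ (C.self_mem_ball a 1)
    have xb : x • b = b := C.mem_B.1 hx _ (C.adj_mem_ball_one hab)
    refine C.mem_B.2 fun q hq => ?_
    rcases C.mem_ball_one hq with rfl | hq
    · exact xb
    · exact C.fix_third xb (C.symm hab) hw hwa.symm xa (hcon x hx) hq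
  have key' : ∀ x ∈ C.B b 1, x ∈ C.B a 1 := by
    intro z hz
    by_contra hza
    have za : z • a = a := C.mem_B.1 hz _ (C.adj_mem_ball_one (C.symm hab))
    have zb : z • b = b := C.mem_B.1 hz _ (C.self_mem_ball b 1)
    obtain ⟨y, yb, ya, yw⟩ := C.swap (C.symm hab) hw hwa
    refine yw ?_
    obtain ⟨q, hq, hqb⟩ := C.exists_other hab
    have zq : z • q ≠ q := fun e => hza <| C.mem_B.2 fun r hr => by
      rcases C.mem_ball_one hr with rfl | hr
      · exact za
      · exact C.fix_third za hab hq hqb.symm zb e hr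
    by_cases yq : y • q = q
    · have : y ∈ C.B a 1 := C.mem_B.2 fun r hr => by
        rcases C.mem_ball_one hr with rfl | hr
        · exact ya
        · exact C.fix_third ya hab hq hqb.symm yb yq hr
      exact C.mem_B.1 (key y this) _ (C.adj_mem_ball_one hw)
    · have : z⁻¹ * y ∈ C.B a 1 := C.mem_B.2 fun r hr => by
        rcases C.mem_ball_one hr with rfl | hr
        · rw [mul_smul, ya, smul_inv_of_fix za]
        · refine C.fix_third (by rw [mul_smul, ya, smul_inv_of_fix za]) hab hq hqb.symm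
            (by rw [mul_smul, yb, smul_inv_of_fix zb]) ?_ hr
          rw [mul_smul, C.same_image ya za yb zb hab hq hqb.symm yq zq, inv_smul_smul]
      have e := C.mem_B.1 (key _ this) _ (C.adj_mem_ball_one hw)
      rw [mul_smul, inv_smul_eq_iff, C.mem_B.1 hz _ (C.adj_mem_ball_one hw)] at e
      exact e
  have heq : C.B a 1 = C.B b 1 := le_antisymm key key'
  have bot : C.B a 1 = ⊥ := C.core hab _ (C.B_le_stab hab)
    (fun g hg x hx => C.conj_mem_B_of_fix hg hx)
    (fun g hg x hx => by rw [heq] at hx ⊢; exact C.conj_mem_B_of_fix hg hx)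
  have cB : ∀ v, C.P v → C.c v ∈ C.B v 1 := fun v hv => C.mem_B.2 fun q hq => by
    rcases C.mem_ball_one hq with rfl | hq
    · exact C.c_self hv
    · exact (C.c_adj hv hq).1
  by_cases ha : C.P a
  · exact C.c_ne ha ((Subgroup.mem_bot).1 (bot ▸ cB a ha))
  · have hb := C.P_of_adj hab ha
    exact C.c_ne hb ((Subgroup.mem_bot).1 (bot ▸ heq ▸ cB b hb))

/-! ### Conjugacy of walks -/

/-- Some walk of length `j + 1` from `P` can be bent at its last inner vertex. -/
def Step (j : ℕ) : Prop :=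
  ∃ (w : ℕ → V) (e : G), C.Walk w (j + 1) ∧ C.P (w 0) ∧ (∀ i, i ≤ j → e • w i = w i) ∧
    e • w (j + 1) ≠ w (j + 1)

theorem step_of {w : ℕ → V} {n k : ℕ} {e : G} (hw : C.Walk w (n + 1)) (hk : k ≤ n)
    (hP : C.P (w k)) (hfix : ∀ i, i ≤ n → e • w i = w i) (hm : e • w (n + 1) ≠ w (n + 1)) :
    C.Step (n - k) :=
  ⟨fun i => w (k + i), e, hw.shift C.toTri (by omega), hP, fun i hi => hfix _ (by omega),
    by simpa [show k + (n - k + 1) = n + 1 by omega] using hm⟩

theorem conj_walk : ∀ {k : ℕ}, (∀ j, 1 ≤ j → j < k → C.Step j) → ∀ {w w' : ℕ → V},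
    C.Walk w k → C.Walk w' k → C.P (w 0) → C.P (w' 0) → ∃ g : G, ∀ i, i ≤ k → g • w i = w' i
  | 0, _, w, w', _, _, hP, hP' => by
    obtain ⟨a, ha⟩ := C.exists_adj (w 0)
    obtain ⟨a', ha'⟩ := C.exists_adj (w' 0)
    obtain ⟨g, g0, -⟩ := C.trans ha ha' (iff_of_true hP hP')
    exact ⟨g, fun i hi => by rw [Nat.le_zero.1 hi]; exact g0⟩
  | 1, _, w, w', hw, hw', hP, hP' => by
    obtain ⟨g, g0, g1⟩ := C.trans (hw.1 0 (by omega)) (hw'.1 0 (by omega)) (iff_of_true hP hP')
    exact ⟨g, fun i hi => by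
      rcases Nat.le_one_iff_eq_zero_or_eq_one.1 hi with rfl | rfl
      · exact g0
      · exact g1⟩
  | k + 2, hstep, w, w', hw, hw', hP, hP' => by
    have hstep' : ∀ j, 1 ≤ j → j < k + 1 → C.Step j := fun j h1 h2 => hstep j h1 (by omega)
    obtain ⟨g, hg⟩ := conj_walk hstep' (hw.mono C.toTri (by omega)) (hw'.mono C.toTri (by omega))
      hP hP'
    by_cases e : g • w (k + 2) = w' (k + 2)
    · exact ⟨g, fun i hi => by
        rcases Nat.lt_or_ge i (k + 2) with h | h
        · exact hg i (by omega)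
        · rw [show i = k + 2 by omega]; exact e⟩
    obtain ⟨u, x, hu, hu0, xfix, xmove⟩ := hstep (k + 1) (by omega) (by omega)
    obtain ⟨f, hf⟩ := conj_walk hstep' (hu.mono C.toTri (by omega))
      (hw'.mono C.toTri (by omega)) hu0 hP'
    set y := f * x * f⁻¹
    have yfix : ∀ i, i ≤ k + 1 → y • w' i = w' i := fun i hi => by
      rw [← hf i hi, smul_conj, inv_smul_smul, xfix i hi]
    have hfu : C.Adj (w' (k + 1)) (f • u (k + 2)) :=
      hf (k + 1) le_rfl ▸ C.adj_smul f (hu.1 (k + 1) (by omega))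
    have hgw : C.Adj (w' (k + 1)) (g • w (k + 2)) :=
      hg (k + 1) le_rfl ▸ C.adj_smul g (hw.1 (k + 1) (by omega))
    have hback : C.Adj (w' (k + 1)) (w' k) := C.symm (hw'.1 k (by omega))
    have hgne : g • w (k + 2) ≠ w' k := fun e' =>
      hw.2 k le_rfl (MulAction.injective g (e'.trans (hg k (by omega)).symm))
    have ym : y • g • w (k + 2) ≠ g • w (k + 2) := fun e' => by
      have := C.fix_third (yfix _ le_rfl) hback hgw hgne.symm (yfix k (by omega)) e' hfu
      rw [smul_conj, inv_smul_smul] at this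
      exact xmove (MulAction.injective f this)
    have hy := C.moved_eq_third (yfix _ le_rfl) (yfix k (by omega)) hback hgw
      (hw'.1 (k + 1) (by omega)) hgne.symm (hw'.2 k le_rfl).symm e ym
    refine ⟨y * g, fun i hi => ?_⟩
    rcases Nat.lt_or_ge i (k + 2) with h | h
    · rw [mul_smul, hg i (by omega), yfix i (by omega)]
    · rw [show i = k + 2 by omega, mul_smul]; exact hy

/-- All walks of length `R + 1` from `P` are moved at the end by the involution of their origin. -/
def Exact (R : ℕ) : Prop :=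
  ∀ w : ℕ → V, C.Walk w (R + 1) → C.P (w 0) → C.c (w 0) • w (R + 1) ≠ w (R + 1)

theorem exact_of_steps (h : C.Rad R) (hs : ∀ j, 1 ≤ j → j < R → C.Step j) : C.Exact R := by
  intro w hw hP
  obtain ⟨u, hu, hu0, hm⟩ := h.move
  obtain ⟨g, hg⟩ := C.conj_walk hs (hw.mono C.toTri (by omega)) (hu.mono C.toTri (by omega)) hP hu0
  intro e
  obtain ⟨r, rfl⟩ : ∃ r, R = r + 1 := ⟨R - 1, by have := h.pos; omega⟩
  have e' : C.c (u 0) • g • w (r + 2) = g • w (r + 2) := by
    rw [← hg 0 (by omega), ← C.c_smul g hP, smul_conj, inv_smul_smul, e]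
  have back : C.Adj (u (r + 1)) (u r) := C.symm (hu.1 r (by omega))
  have hgw : C.Adj (u (r + 1)) (g • w (r + 2)) :=
    hg (r + 1) le_rfl ▸ C.adj_smul g (hw.1 (r + 1) (by omega))
  exact hm (C.fix_third (Rad.fix_walk C h hu hu0 (by omega) (by omega) (by omega) (by omega))
    back hgw (fun e1 => hw.2 r le_rfl (MulAction.injective g (e1.symm.trans (hg r (by omega)).symm)))
    (Rad.fix_walk C h hu hu0 (by omega) (by omega) (by omega) (by omega)) e'
    (hu.1 (r + 1) (by omega)))

/-- An element bending a long walk at a vertex of the wrong class makes everything conjugate. -/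
theorem exact_of_off (h : C.Rad R) {u : ℕ → V} {n : ℕ} {e : G} (hn : R ≤ n + 1)
    (hu : C.Walk u (n + 1)) (hfix : ∀ i, i ≤ n → e • u i = u i)
    (hm : e • u (n + 1) ≠ u (n + 1)) (hpar : C.P (u n) ↔ R % 2 = 1) : C.Exact R := by
  refine C.exact_of_steps h fun j h1 h2 => ?_
  obtain ⟨w, hw, hw0, hwm⟩ := h.move
  by_cases hj : j % 2 = R % 2
  · have hP : C.P (w (R - j)) :=
      (Tri.Walk.parity C.toTri hw (R - j) (by omega)).2 (iff_of_true (by omega) hw0)
    have := C.step_of hw (by omega) hP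
      (fun i hi => Rad.fix_walk C h hw hw0 (by omega) (by omega) (by omega) (by omega)) hwm
    rwa [show R - (R - j) = j by omega] at this
  · have hP : C.P (u (n - j)) := by
      have p1 := Tri.Walk.parity C.toTri hu n (by omega)
      have p2 := Tri.Walk.parity C.toTri hu (n - j) (by omega)
      rcases Nat.mod_two_eq_zero_or_one R with e1 | e1 <;>
        rcases Nat.mod_two_eq_zero_or_one n with e2 | e2
      · simp [e1, e2, show (n - j) % 2 = 1 by omega] at hpar p1 p2 ⊢; tauto
      · simp [e1, e2, show (n - j) % 2 = 0 by omega] at hpar p1 p2 ⊢; tauto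
      · simp [e1, e2, show (n - j) % 2 = 0 by omega] at hpar p1 p2 ⊢; tauto
      · simp [e1, e2, show (n - j) % 2 = 1 by omega] at hpar p1 p2 ⊢; tauto
    have := C.step_of hu (by omega) hP hfix hm
    rwa [show n - (n - j) = j by omega] at this

end Ctx

end Cfsg.Agent.Class49.Trivalent
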