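import Cfsg.Agent.Class49.Trivalent.Setup
import Cfsg.Agent.Class49.Trivalent.Bound

/-!
The coset graph of an amalgam of index `(3, 3)`.
-/

set_option autoImplicit false
set_option linter.unusedSectionVars false
set_option linter.unusedSimpArgs false
set_option linter.style.haveILetI false

open Subgroup MulAction Cfsg Cfsg.Agent.S4Amalgam

namespace Cfsg.Agent.Class49.Trivalent.Setup

variable {G : Type*} [Group G] (S : Setup G)

/-- The vertices of the coset graph. -/
abbrev Vert := Σ i : Bool, G ⧸ S.M i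

/-- The coset `g M i` as a vertex. -/
def vx (i : Bool) (g : G) : S.Vert := ⟨i, (g : G ⧸ S.M i)⟩

theorem smul_vx (g h : G) (i : Bool) : g • S.vx i h = S.vx i (g * h) := rfl

theorem vx_eq {i : Bool} {g h : G} : S.vx i g = S.vx i h ↔ g⁻¹ * h ∈ S.M i := by
  simp [vx, QuotientGroup.eq]

theorem exists_vx (v : S.Vert) : ∃ g, v = S.vx v.1 g := by
  obtain ⟨i, x⟩ := v
  obtain ⟨g, rfl⟩ := QuotientGroup.mk_surjective x
  exact ⟨g, rfl⟩

theorem fix_vx {x g : G} {i : Bool} : x • S.vx i g = S.vx i g ↔ g⁻¹ * x * g ∈ S.M i := by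
  rw [smul_vx, eq_comm, vx_eq]
  simp [mul_assoc]

/-- Adjacency: the cosets meet. -/
def CAdj (u v : S.Vert) : Prop := ∃ i g, u = S.vx i g ∧ v = S.vx (!i) g

theorem adj_iff {i : Bool} {g : G} {w : S.Vert} :
    S.CAdj (S.vx i g) w ↔ ∃ m ∈ S.M i, w = S.vx (!i) (g * m) := by
  constructor
  · rintro ⟨j, h, e1, e2⟩
    obtain rfl : i = j := congrArg Sigma.fst e1
    exact ⟨g⁻¹ * h, S.vx_eq.1 e1, by rw [e2, mul_inv_cancel_left]⟩
  · rintro ⟨m, hm, rfl⟩
    exact ⟨i, g * m, S.vx_eq.2 (by simpa using hm), rfl⟩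

theorem stab_edge {i : Bool} {g x : G} (h1 : x • S.vx i g = S.vx i g)
    (h2 : x • S.vx (!i) g = S.vx (!i) g) : g⁻¹ * x * g ∈ S.T :=
  S.mem_T i (S.fix_vx.1 h1) (S.fix_vx.1 h2)

theorem fix_of_T {i : Bool} {g t : G} (ht : t ∈ S.T) :
    (g * t * g⁻¹) • S.vx i g = S.vx i g := S.fix_vx.2 (by simpa [mul_assoc] using S.T_le i ht)

/-- The coset graph as a trivalent action, with the class `β` distinguished. -/
def tri (β : Bool) : Tri G S.Vert where
  P v := v.1 = β
  Adj := S.CAdj
  P_smul g v := Iff.rfl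
  symm := by
    rintro u v ⟨i, g, rfl, rfl⟩
    exact ⟨!i, g, rfl, by rw [Bool.not_not]⟩
  adj_smul g u v := by
    rintro ⟨i, h, rfl, rfl⟩
    exact ⟨i, g * h, rfl, rfl⟩
  flip := by
    rintro u v ⟨i, g, rfl, rfl⟩
    cases i <;> cases β <;> simp [vx]
  nbrs v := by
    obtain ⟨g, hg⟩ := S.exists_vx v
    generalize v.1 = i at hg
    subst hg
    haveI := S.fin i
    have h3 : Nat.card (S.M i ⧸ S.T.subgroupOf (S.M i)) = 3 := S.relT i
    obtain e := (Finite.equivFinOfCardEq h3).symm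
    let r : Fin 3 → G := fun k => ((e k).out : S.M i)
    have inj : ∀ k l, S.vx (!i) (g * r k) = S.vx (!i) (g * r l) → k = l := fun k l h => by
      rw [vx_eq] at h
      have h' : (r k)⁻¹ * r l ∈ S.M (!i) := by simpa [mul_assoc] using h
      have h1 : (r k)⁻¹ * r l ∈ S.T :=
        S.mem_T i (mul_mem (inv_mem (SetLike.coe_mem _)) (SetLike.coe_mem _)) h'
      have h2 : ((e k).out : S.M i)⁻¹ * (e l).out ∈ S.T.subgroupOf (S.M i) :=
        Subgroup.mem_subgroupOf.2 h1
      have h4 := QuotientGroup.eq.2 h2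
      rw [QuotientGroup.out_eq', QuotientGroup.out_eq'] at h4
      exact e.injective h4
    refine ⟨S.vx (!i) (g * r 0), S.vx (!i) (g * r 1), S.vx (!i) (g * r 2),
      fun h => absurd (inj _ _ h) (by decide), fun h => absurd (inj _ _ h) (by decide),
      fun h => absurd (inj _ _ h) (by decide), fun w => ?_⟩
    rw [adj_iff]
    constructor
    · rintro ⟨m, hm, rfl⟩
      obtain ⟨k, hk⟩ : ∃ k, e k = QuotientGroup.mk (⟨m, hm⟩ : S.M i) :=
        ⟨e.symm _, e.apply_symm_apply _⟩
      have h1 : ((e k).out : S.M i)⁻¹ * ⟨m, hm⟩ ∈ S.T.subgroupOf (S.M i) :=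
        QuotientGroup.eq.1 (by rw [QuotientGroup.out_eq']; exact hk)
      have h2 : S.vx (!i) (g * r k) = S.vx (!i) (g * m) := S.vx_eq.2 (by
        have := S.T_le (!i) (Subgroup.mem_subgroupOf.1 h1)
        simpa [r, mul_assoc] using this)
      rw [← h2]
      fin_cases k
      · exact Or.inl rfl
      · exact Or.inr (Or.inl rfl)
      · exact Or.inr (Or.inr rfl)
    · rintro (rfl | rfl | rfl) <;> exact ⟨_, SetLike.coe_mem _, rfl⟩
  trans := by
    rintro u v u' v' ⟨i, g, rfl, rfl⟩ ⟨j, h, rfl, rfl⟩ hP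
    have : i = j := by
      cases i <;> cases j <;> cases β <;> simp [vx] at hP ⊢
    subst this
    exact ⟨h * g⁻¹, by rw [smul_vx, inv_mul_cancel_right], by rw [smul_vx, inv_mul_cancel_right]⟩
  swap := by
    rintro v u w ⟨i, g, rfl, rfl⟩ hw hne
    obtain ⟨m, hm, rfl⟩ := S.adj_iff.1 hw
    have hmT : m ∉ S.T := fun hT => hne (S.vx_eq.2 (by
      simpa [mul_assoc] using inv_mem (S.T_le (!i) hT)))
    obtain ⟨t, ht, htm⟩ := S.moved hm hmT
    refine ⟨g * t * g⁻¹, S.fix_of_T ht, S.fix_of_T ht, fun e => htm ?_⟩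
    rw [fix_vx] at e
    exact S.mem_T i (mul_mem (mul_mem (inv_mem hm) (S.T_le i ht)) hm) (by
      simpa [mul_assoc] using e)
  fin := by
    rintro u v ⟨i, g, rfl, rfl⟩
    haveI := S.finite_T
    exact Finite.of_injective
      (fun x : ↥(stabilizer G (S.vx i g) ⊓ stabilizer G (S.vx (!i) g)) =>
        (⟨g⁻¹ * x * g, S.stab_edge x.2.1 x.2.2⟩ : S.T))
      fun x y h => Subtype.ext (by simpa using congrArg Subtype.val h)
  core := by
    rintro u v ⟨i, g, rfl, rfl⟩ N hN h1 h2
    have key : cj g⁻¹ N = ⊥ := by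
      refine S.core _ (fun x hx => ?_) fun j x hx n hn => ?_
      · rw [mem_cj, inv_inv] at hx
        have := S.stab_edge (hN hx).1 (hN hx).2
        simpa [mul_assoc] using this
      · rw [mem_cj, inv_inv] at hn ⊢
        have hfix : ∀ {k : Bool} {x : G}, x ∈ S.M k →
            g * x * g⁻¹ ∈ stabilizer G (S.vx k g) := fun hx =>
          S.fix_vx.2 (by simpa [mul_assoc] using hx)
        have : (g * x * g⁻¹) * (g * n * g⁻¹) * (g * x * g⁻¹)⁻¹ ∈ N := by
          rcases eq_or_ne j i with rfl | e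
          · exact h1 _ (hfix hx) _ hn
          · rw [show j = !i by cases i <;> cases j <;> simp_all] at hx
            exact h2 _ (hfix hx) _ hn
        simpa [mul_assoc] using this
    rw [← cj_cj_inv g N, key, cj_bot]

/-- Elements of `T` central in one group are trivial if the other centralises the centre of `T`. -/
theorem no_central {β : Bool}
    (hβ : S.M β ≤ centralizer (omegaOne 2 (S.T ⊓ centralizer (S.T : Set G)) : Set G)) :
    ∀ (k : ℕ) {y : G}, y ∈ S.T → (∀ m ∈ S.M (!β), Commute m y) → y ^ 2 ^ k = 1 → y = 1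
  | 0, y, _, _, h => by simpa using h
  | k + 1, y, hy, hcy, h => by
    have hsq : y ^ 2 = 1 := no_central hβ k (pow_mem hy 2)
      (fun m hm => (hcy m hm).pow_right 2) (by rw [← pow_mul, ← pow_succ']; exact h)
    have hyZ : y ∈ omegaOne 2 (S.T ⊓ centralizer (S.T : Set G)) := Subgroup.subset_closure
      ⟨⟨hy, mem_centralizer_iff.2 fun t ht => (hcy t (S.T_le _ ht)).eq⟩, hsq⟩
    have bot : zpowers y = ⊥ := S.core _ (zpowers_le.2 hy) fun j m hm n hn => by
      obtain ⟨l, rfl⟩ := Subgroup.mem_zpowers_iff.1 hn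
      have h1 : Commute m y := by
        rcases eq_or_ne j β with rfl | e
        · exact (mem_centralizer_iff.1 (hβ hm) y hyZ).symm
        · rw [show j = !β by cases β <;> cases j <;> simp_all] at hm
          exact hcy m hm
      rw [(h1.zpow_right l).eq, mul_inv_cancel_right]
      exact hn
    exact Subgroup.zpowers_eq_bot.1 bot

/-- One side centralising the centre of `T` gives the graph with central involutions. -/
noncomputable def ctx (β : Bool) (z : G) (hzT : z ∈ S.T) (hzc : ∀ t ∈ S.T, t * z = z * t)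
    (hz1 : z ≠ 1) (hz2 : z * z = 1)
    (hβ : S.M β ≤ centralizer (omegaOne 2 (S.T ⊓ centralizer (S.T : Set G)) : Set G)) :
    Ctx G S.Vert where
  toTri := S.tri β
  c v := v.2.out * z * (v.2.out)⁻¹
  c_ne {v} _ h := hz1 (by simpa using h)
  c_sq {v} _ := by
    rw [show v.2.out * z * v.2.out⁻¹ * (v.2.out * z * v.2.out⁻¹) = v.2.out * (z * z) * v.2.out⁻¹
      by group, hz2, mul_one, mul_inv_cancel]
  c_smul g v hv := by
    obtain ⟨i, x⟩ := v
    obtain rfl : i = β := hv
    have hm : (g * x.out)⁻¹ * (g • x).out ∈ S.M i := QuotientGroup.eq.1 (by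
      conv_rhs => rw [QuotientGroup.out_eq', ← QuotientGroup.out_eq' x]
      rfl)
    obtain ⟨m, hm', e⟩ : ∃ m ∈ S.M i, (g • x).out = g * x.out * m :=
      ⟨_, hm, (mul_inv_cancel_left _ _).symm⟩
    have hzm : z * m = m * z := mem_centralizer_iff.1 (hβ hm') z (Subgroup.subset_closure
      ⟨⟨hzT, mem_centralizer_iff.2 hzc⟩, by rw [pow_two, hz2]⟩)
    show g * (x.out * z * x.out⁻¹) * g⁻¹ = (g • x).out * z * ((g • x).out)⁻¹
    rw [e, show g * x.out * m * z * (g * x.out * m)⁻¹ =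
      g * x.out * (m * z * m⁻¹) * (g * x.out)⁻¹ by group, ← hzm, mul_inv_cancel_right]
    group
  c_adj {v w} hv h := by
    obtain ⟨i, g, rfl, rfl⟩ := h
    obtain rfl : i = β := hv
    obtain ⟨m, hm, e⟩ : ∃ m ∈ S.M i, (S.vx i g).2.out = g * m := by
      have : g⁻¹ * (S.vx i g).2.out ∈ S.M i :=
        QuotientGroup.eq.1 (QuotientGroup.out_eq' _).symm
      exact ⟨_, this, (mul_inv_cancel_left _ _).symm⟩
    have hzm : z * m = m * z := mem_centralizer_iff.1 (hβ hm) z (Subgroup.subset_closure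
      ⟨⟨hzT, mem_centralizer_iff.2 hzc⟩, by rw [pow_two, hz2]⟩)
    rw [e, show g * m * z * (g * m)⁻¹ = g * (m * z * m⁻¹) * g⁻¹ by group, ← hzm,
      mul_inv_cancel_right]
    exact ⟨S.fix_of_T hzT, S.fix_of_T hzT⟩
  noZ {a u} ha hau {x} xa xu hc := by
    obtain ⟨i, g, rfl, rfl⟩ := hau
    have hi : i = !β := by
      have : i ≠ β := ha
      cases i <;> cases β <;> simp_all
    subst hi
    rw [Bool.not_not] at xu
    have hy : g⁻¹ * x * g ∈ S.T := S.stab_edge xa (by rwa [Bool.not_not])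
    set y := g⁻¹ * x * g with hy_def
    have hcy : ∀ m ∈ S.M (!β), Commute m y := fun m hm => by
      have := hc (g * m * g⁻¹) (S.fix_vx.2 (by simpa [mul_assoc] using hm))
      calc m * y = g⁻¹ * (g * m * g⁻¹ * x) * g := by rw [hy_def]; group
        _ = g⁻¹ * (x * (g * m * g⁻¹)) * g := by rw [this.eq]
        _ = y * m := by rw [hy_def]; group
    by_contra hx
    have hy1 : y ≠ 1 := fun e => hx (by
      rw [hy_def, mul_assoc, inv_mul_eq_one] at e
      simpa using e.symm)
    obtain ⟨k, hk⟩ := S.hp ⟨y, hy⟩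
    exact hy1 (S.no_central hβ k hy hcy (congrArg Subtype.val hk))

/-- Goldschmidt's bound. -/
theorem bound : Nat.card S.T ≤ 2 ^ 7 := by
  haveI := S.finite_T
  by_cases hC : ∀ i, S.M i ⊓ centralizer (S.Q i : Set G) ≤ S.Q i
  swap
  · push Not at hC
    obtain ⟨i, hi⟩ := hC
    exact S.small_of_charFree hi
  by_cases act : ∀ i, ¬ S.M i ≤ centralizer (omegaOne 2 (S.T ⊓ centralizer (S.T : Set G)) : Set G)
  · exact S.active hC act
  push Not at act
  obtain ⟨β, hβ⟩ := act
  by_cases hT : S.T = ⊥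
  · rw [hT, Subgroup.card_bot]; norm_num
  haveI : Fact (Nat.Prime 2) := ⟨Nat.prime_two⟩
  haveI : Nontrivial S.T := (Subgroup.nontrivial_iff_ne_bot _).2 hT
  obtain ⟨n, hn⟩ := IsPGroup.iff_card.1 (S.hp.to_subgroup (Subgroup.center S.T))
  have hn0 : n ≠ 0 := by
    rintro rfl
    haveI := S.hp.center_nontrivial
    have := Finite.one_lt_card (α := Subgroup.center S.T)
    omega
  obtain ⟨z, hz⟩ := exists_prime_orderOf_dvd_card' (G := Subgroup.center S.T) 2
    (hn ▸ dvd_pow_self 2 hn0)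
  have hz2 : ((z : S.T) : G) * ((z : S.T) : G) = 1 := by
    have h2 : z ^ 2 = 1 := hz ▸ pow_orderOf_eq_one z
    simpa [pow_two] using congrArg (fun w : Subgroup.center S.T => ((w : S.T) : G)) h2
  have hz1 : ((z : S.T) : G) ≠ 1 := fun e => by
    have : z = 1 := Subtype.ext (Subtype.ext e)
    rw [this, orderOf_one] at hz
    exact absurd hz (by omega)
  let C := S.ctx β ((z : S.T) : G) (z : S.T).2
    (fun t ht => congrArg Subtype.val (Subgroup.mem_center_iff.1 z.2 ⟨t, ht⟩)) hz1 hz2 hβ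
  have h1 := C.card_le (u := S.vx β 1) (a := S.vx (!β) 1) rfl ⟨β, 1, rfl, rfl⟩
  have e : (stabilizer G (S.vx β 1) ⊓ stabilizer G (S.vx (!β) 1) : Subgroup G) = S.T := by
    refine le_antisymm (fun x hx => by simpa using S.stab_edge hx.1 hx.2) fun t ht => ?_
    have := fun i => S.fix_of_T (i := i) (g := (1 : G)) ht
    exact ⟨by simpa using this β, by simpa using this (!β)⟩
  rw [e] at h1
  exact h1

end Cfsg.Agent.Class49.Trivalent.Setup
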