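import Cfsg.Agent.Class49.Trivalent.Odd
import Cfsg.Agent.Class49.Trivalent.Natural

/-!
Critical pairs at even radius and their translates along a line.
-/

set_option autoImplicit false
set_option linter.unusedSectionVars false
set_option linter.unusedVariables false
set_option linter.unusedSimpArgs false

open Subgroup MulAction

namespace Cfsg.Agent.Class49.Trivalent.Ctx

variable {G : Type*} {V : Type*} [Group G] [MulAction G V] (C : Ctx G V) {R : ℕ}

/-- A walk of length `R + 2` with noncommuting involutions at its ends. -/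
def Crit (R : ℕ) (w : ℕ → V) : Prop :=
  C.Walk w (R + 2) ∧ C.P (w 0) ∧ ¬ Commute (C.c (w 0)) (C.c (w (R + 2)))

theorem Crit.congr {w w' : ℕ → V} (hc : C.Crit R w) (e : ∀ i, i ≤ R + 2 → w i = w' i) :
    C.Crit R w' :=
  ⟨hc.1.congr C.toTri e, e 0 (by omega) ▸ hc.2.1,
    by rw [← e 0 (by omega), ← e (R + 2) le_rfl]; exact hc.2.2⟩

/-- A line along which consecutive windows are critical. -/
def Line (R k : ℕ) (L : ℕ → V) : Prop := ∀ j, j ≤ k → C.Crit R (fun i => L (2 * j + i))

section

variable (h : C.Rad R) (hR : 6 ≤ R) (hev : R % 2 = 0)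
include h hR hev

theorem Crit.P_even {w : ℕ → V} (hc : C.Crit R w) {i : ℕ} (hi : i ≤ R + 2) (he : i % 2 = 0) :
    C.P (w i) :=
  (Tri.Walk.parity C.toTri hc.1 i hi).2 (iff_of_true he hc.2.1)

theorem Crit.P_odd {w : ℕ → V} (hc : C.Crit R w) {i : ℕ} (hi : i ≤ R + 2) (ho : i % 2 = 1) :
    ¬ C.P (w i) := fun e => by
  have := ((Tri.Walk.parity C.toTri hc.1 i hi).1 e).2 hc.2.1
  omega

theorem Crit.rev {w : ℕ → V} (hc : C.Crit R w) : C.Crit R (fun i => w (R + 2 - i)) :=
  ⟨hc.1.rev C.toTri, Crit.P_even C h hR hev hc (by omega) (by omega), by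
    simpa using fun e => hc.2.2 (Commute.symm e)⟩

theorem crit_of_moved {w : ℕ → V} (hw : C.Walk w (R + 2)) (h0 : C.P (w 0))
    (hm : C.c (w 0) • w (R + 1) ≠ w (R + 1)) : C.Crit R w :=
  ⟨hw, h0, C.not_comm_branch h (by omega)
    ((Tri.Walk.parity C.toTri hw R (by omega)).2 (iff_of_true hev h0)) (hw.1 R (by omega))
    (hw.1 (R + 1) (by omega)) (hw.2 R le_rfl)
    (Rad.fix_walk C h hw h0 (by omega) (by omega) (by omega) (by omega)) hm⟩

theorem Crit.move_right {w : ℕ → V} (hc : C.Crit R w) :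
    C.c (w 0) • w (R + 1) ≠ w (R + 1) := by
  obtain ⟨hw, h0, hn⟩ := hc
  intro e
  have hy := Crit.P_even C h hR hev ⟨hw, h0, hn⟩ (i := R + 2) le_rfl (by omega)
  have hm : C.c (w 0) • w (R + 1 + 1) ≠ w (R + 1 + 1) := fun e' => hn (C.comm hy e')
  refine C.exact_of_off h (n := R + 1) (by omega) hw (fun i hi => ?_) hm
    (iff_of_false (Crit.P_odd C h hR hev ⟨hw, h0, hn⟩ (by omega) (by omega)) (by omega)) w
    (hw.mono C.toTri (by omega)) h0 e
  rcases Nat.lt_or_ge i (R + 1) with h1 | h1
  · exact Rad.fix_walk C h hw h0 (by omega) (by omega) (by omega) (by omega)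
  · rw [show i = R + 1 by omega]; exact e

theorem Crit.move_left {w : ℕ → V} (hc : C.Crit R w) : C.c (w (R + 2)) • w 1 ≠ w 1 := by
  have := Crit.move_right C h hR hev (Crit.rev C h hR hev hc)
  simpa using this

theorem exists_crit : ∃ w, C.Crit R w := by
  obtain ⟨w, hw, h0, hm⟩ := h.move
  obtain ⟨y, hy, hyR⟩ := C.exists_other (C.symm (hw.1 R (by omega)))
  have hu := hw.snoc C.toTri (z := y) hy (Or.inr (by simpa using hyR))
  exact ⟨_, C.crit_of_moved h hR hev hu (by simpa using h0) (by simpa using hm)⟩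

theorem mem_ball_split {a w : V} : ∀ {r : ℕ}, w ∈ C.ball a (r + 1) →
    w = a ∨ ∃ z, C.Adj a z ∧ w ∈ C.ball z r
  | 0, hw => by
    rcases C.mem_ball_one hw with e | e
    · exact Or.inl e
    · exact Or.inr ⟨w, e, rfl⟩
  | r + 1, ⟨u, hu, hw⟩ => by
    rcases mem_ball_split hu with rfl | ⟨z, hz, huz⟩
    · rcases hw with rfl | hw
      · exact Or.inl rfl
      · exact Or.inr ⟨w, hw, C.self_mem_ball w _⟩
    · exact Or.inr ⟨z, hz, ⟨u, huz, hw⟩⟩

/-- A critical walk extends backwards to a further critical window. -/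
theorem Crit.shift {w : ℕ → V} (hc : C.Crit R w) :
    ∃ L, C.Line R 1 L ∧ ∀ i, 1 ≤ i → i ≤ R + 2 → L (i + 2) = w i := by
  obtain ⟨hw, h0, hn⟩ := id hc
  have P2 := Crit.P_even C h hR hev hc (show 2 ≤ R + 2 by omega) rfl
  have n1 := C.notP_of_adj (hw.1 0 (by omega)) h0
  have hy := Crit.P_even C h hR hev hc (i := R + 2) le_rfl (by omega)
  have fy : ∀ i, 2 ≤ i → i ≤ R + 2 → C.c (w (R + 2)) • w i = w i := fun i hi hi' =>
    Rad.fix_walk C h hw hy le_rfl (by omega) (by omega) (by omega)
  have f0 : ∀ i, i ≤ R → C.c (w 0) • w i = w i := fun i hi =>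
    Rad.fix_walk C h hw h0 (by omega) (by omega) (by omega) (by omega)
  by_cases hex : ∃ z a b, C.Adj (w 1) z ∧ z ≠ w 2 ∧ C.Adj z a ∧ a ≠ w 1 ∧ C.Adj a b ∧ b ≠ z ∧
      C.c b • w (R - 1) ≠ w (R - 1)
  · obtain ⟨z, a, b, hz, hz2, ha, ha1, hb, hbz, hm⟩ := hex
    have Pz := C.P_of_adj hz n1
    have hzw : C.Walk (fun i => if i = 0 then z else w i) (R + 2) := by
      refine ⟨fun i hi => ?_, fun i hi => ?_⟩
      · rcases i with _ | i
        · simpa using C.symm hz
        · simpa using hw.1 (i + 1) hi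
      · rcases i with _ | i
        · simpa using Ne.symm hz2
        · simpa using hw.2 (i + 1) hi
    have hcz : C.Crit R (fun i => if i = 0 then z else w i) := by
      refine ⟨hzw, by simpa using Pz, fun e => hn ?_⟩
      simp at e
      rcases C.sib_mul h (by omega) P2 (C.symm (hw.1 1 (by omega))) hz hz2
          (C.symm (hw.1 0 (by omega))) (hw.2 0 (by omega)).symm with e1 | e1
      · exact e1 ▸ e
      · exact e1 ▸ e.mul_left (Rad.comm_walk C h hw P2 hy (by omega) le_rfl (by omega) (by omega))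
    have hu := (hzw.cons C.toTri (z := a) (by simpa using C.symm ha)
      (Or.inr (by simpa using ha1))).cons C.toTri (z := b) (by simpa using C.symm hb)
      (Or.inr (by simpa using hbz))
    set L : ℕ → V := fun i => if i = 0 then b else
      if i - 1 = 0 then a else if i - 1 - 1 = 0 then z else w (i - 1 - 1) with hL
    refine ⟨L, fun j hj => ?_, fun i h1 h2 => by
      simp [hL, show i ≠ 0 by omega]⟩
    rcases (show j = 0 ∨ j = 1 by omega) with rfl | rfl
    · refine Crit.congr C (C.crit_of_moved h hR hev (hu.mono C.toTri (by omega))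
        (by simpa [hL] using C.P_of_adj hb (C.notP_of_adj ha Pz)) ?_) (fun i _ => by simp [hL])
      simpa [hL, show R + 1 - 1 - 1 = R - 1 by omega, show R ≠ 0 by omega, show R - 1 ≠ 0 by omega]
        using hm
    · refine Crit.congr C hcz (fun i _ => ?_)
      simp [hL, show 2 + i - 1 - 1 = i by omega, show 2 + i - 1 ≠ 0 by omega]
  push Not at hex
  exfalso
  set N := closure (C.c '' {q | C.P q ∧ q ∈ C.ball (w 1) 3}) with hN
  have gen : ∀ q, C.P q → q ∈ C.ball (w 1) 3 → C.c q ∈ N := fun q h1 h2 =>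
    subset_closure ⟨q, ⟨h1, h2⟩, rfl⟩
  have in2 : ∀ q, C.P q → q ∈ C.ball (w 2) 2 →
      C.c (w (R + 2)) * C.c q * C.c (w (R + 2)) ∈ N := fun q Pq hq => by
    rw [C.c_conj hy Pq]
    refine gen _ ((C.P_smul _ q).2 Pq)
      (C.ball_trans (r := 1) (s := 2) (C.adj_mem_ball_one (hw.1 1 (by omega))) ?_)
    have := C.smul_mem_ball (C.c (w (R + 2))) hq
    rwa [fy 2 le_rfl (by omega)] at this
  have key : ∀ x ∈ N, C.c (w (R + 2)) * x * (C.c (w (R + 2)))⁻¹ ∈ N := by
    rw [hN]
    refine closure_conj ?_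
    rintro _ ⟨q, ⟨Pq, hq⟩, rfl⟩
    rw [C.c_inv hy, ← hN]
    rcases C.mem_ball_split h hR hev hq with e1 | ⟨z, hz, hqz⟩
    · exact absurd (e1 ▸ Pq) n1
    by_cases hz2 : z = w 2
    · exact in2 q Pq (hz2 ▸ hqz)
    have nbr : ∀ {q}, C.Adj (w 1) q → q ∈ C.ball (w 2) 2 := fun hq =>
      C.adj_ball (C.adj_mem_ball_one (C.symm (hw.1 1 (by omega)))) hq
    rcases C.mem_ball_two (C.P_of_adj hz n1) Pq hqz with e1 | ⟨a, ha, hqa⟩
    · exact in2 q Pq (nbr (e1 ▸ hz))
    by_cases ha1 : a = w 1
    · exact in2 q Pq (nbr (ha1 ▸ hqa))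
    by_cases qz : q = z
    · exact in2 q Pq (nbr (qz ▸ hz))
    have hfix := hex z a q hz hz2 ha ha1 hqa qz
    have hzw : C.Walk (fun i => if i = 0 then z else w i) (R + 2) := by
      refine ⟨fun i hi => ?_, fun i hi => ?_⟩
      · rcases i with _ | i
        · simpa using C.symm hz
        · simpa using hw.1 (i + 1) hi
      · rcases i with _ | i
        · simpa using Ne.symm hz2
        · simpa using hw.2 (i + 1) hi
    have hu := (hzw.cons C.toTri (z := a) (by simpa using C.symm ha)
      (Or.inr (by simpa using ha1))).cons C.toTri (z := q) (by simpa using C.symm hqa)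
      (Or.inr (by simpa using qz))
    set u : ℕ → V := fun i => if i = 0 then q else
      if i - 1 = 0 then a else if i - 1 - 1 = 0 then z else w (i - 1 - 1) with hu_def
    have hu' : C.Walk u (R + 2 + 1 + 1) := hu.congr C.toTri (fun i _ => by simp [hu_def])
    have uval : ∀ i, 1 ≤ i → u (i + 2) = w i := fun i hi => by
      simp [hu_def, show i ≠ 0 by omega]
    have u0 : C.P (u 0) := by simpa [hu_def] using Pq
    have uP : ∀ i, i ≤ R + 4 → i % 2 = 1 → ¬ C.P (u i) := fun i hi ho e => by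
      have := ((Tri.Walk.parity C.toTri hu' i (by omega)).1 e).2 u0
      omega
    have xu : ∀ i, i ≤ R + 1 → C.c q • u i = u i := fun i hi => by
      rcases Nat.lt_or_ge i (R + 1) with e | e
      · have := Rad.fix_walk C h hu' (i := 0) (j := i) u0 (by omega) (by omega) (by omega)
          (by omega)
        simpa [hu_def] using this
      · rw [show i = (R - 1) + 2 by omega, uval _ (by omega)]; exact hfix
    have noExact : ¬ C.Exact R := fun he => he u (hu'.mono C.toTri (by omega)) u0
      (by simpa [hu_def] using xu (R + 1) le_rfl)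
    have xR : C.c q • w R = w R := by
      by_contra e
      rw [← uval R (by omega)] at e
      exact noExact (C.exact_of_off h (n := R + 1) (by omega) (hu'.mono C.toTri (by omega)) xu e
        (iff_of_false (uP _ (by omega) (by omega)) (by omega)))
    have xw : ∀ i, i ≤ R → C.c q • w i = w i := fun i hi => by
      rcases Nat.eq_zero_or_pos i with rfl | hpos
      · exact h.fix Pq (C.ball_mono (show 2 + (1 + 1) ≤ R by omega) (C.ball_trans
          (C.ball_symm hqz) (C.adj_ball (C.adj_mem_ball_one (C.symm hz))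
            (C.symm (hw.1 0 (by omega))))))
      · rcases Nat.lt_or_ge i R with e | e
        · have := xu (i + 2) (by omega)
          rwa [uval i hpos] at this
        · rw [show i = R by omega]; exact xR
    have gq : C.c q ∈ N := gen q Pq hq
    by_cases x1 : C.c q • w (R + 1) = w (R + 1)
    · have xy : C.c q • w (R + 2) = w (R + 2) := by
        by_contra e
        exact noExact (C.exact_of_off h (n := R + 1) (by omega) hw
          (fun i hi => by
            rcases Nat.lt_or_ge i (R + 1) with e | e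
            · exact xw i (by omega)
            · rw [show i = R + 1 by omega]; exact x1) e
          (iff_of_false (Crit.P_odd C h hR hev hc (by omega) (by omega)) (by omega)))
      rw [← (C.comm hy xy).eq, mul_assoc, C.c_sq hy, mul_one]
      exact gq
    obtain ⟨r, rfl⟩ : ∃ r, R = r + 1 := ⟨R - 1, by omega⟩
    have e1 := C.same_image (xw (r + 1) le_rfl) (f0 (r + 1) le_rfl) (xw r (by omega))
      (f0 r (by omega)) (C.symm (hw.1 r (by omega))) (hw.1 (r + 1) (by omega))
      (hw.2 r (by omega)).symm x1 (Crit.move_right C h hR hev hc)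
    have ey : C.c q • w (r + 1 + 2) = C.c (w 0) • w (r + 1 + 2) := by
      by_contra e
      have hne : (C.c (w 0) * C.c q) • w (r + 1 + 1 + 1) ≠ w (r + 1 + 1 + 1) := fun e' => e (by
        rw [mul_smul] at e'
        have e2 : C.c q • w (r + 1 + 2) = (C.c (w 0))⁻¹ • w (r + 1 + 2) :=
          eq_inv_smul_iff.2 e'
        rwa [C.c_inv h0] at e2)
      refine noExact (C.exact_of_off h (n := r + 1 + 1) (by omega) hw (fun i hi => ?_) hne
        (iff_of_false (Crit.P_odd C h hR hev hc (by omega) (by omega)) (by omega)))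
      rw [mul_smul]
      rcases Nat.lt_or_ge i (r + 1 + 1) with e' | e'
      · rw [xw i (by omega), f0 i (by omega)]
      · rw [show i = r + 1 + 1 by omega, e1, C.c_smul_smul h0]
    have e2 : C.c q * C.c (w (r + 1 + 2)) * C.c q = C.c (w 0) * C.c (w (r + 1 + 2)) * C.c (w 0) := by
      rw [C.c_conj Pq hy, ey, ← C.c_conj h0 hy]
    have e3 : C.c (w (r + 1 + 2)) * C.c q * C.c (w (r + 1 + 2)) =
        C.c q * (C.c (w 0) * (C.c (w (r + 1 + 2)) * C.c (w 0) * C.c (w (r + 1 + 2)))) :=
      calc C.c (w (r + 1 + 2)) * C.c q * C.c (w (r + 1 + 2))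
          = C.c q * (C.c q * C.c (w (r + 1 + 2)) * C.c q) * C.c (w (r + 1 + 2)) := by
            simp [← mul_assoc, C.c_sq Pq]
        _ = _ := by rw [e2]; simp only [mul_assoc]
    rw [e3]
    exact mul_mem gq (mul_mem (gen _ h0 (C.ball_mono (by omega)
      (C.adj_mem_ball_one (C.symm (hw.1 0 (by omega))))))
      (in2 _ h0 (nbr (C.symm (hw.1 0 (by omega))))))
  have bot : N = ⊥ := by
    refine C.core_of_nor (hw.1 1 (by omega)) ?_ (stab_le_Nor fun g hg => closure_conj ?_)
      (fy 2 le_rfl (by omega)) (Crit.move_left C h hR hev hc)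
      ⟨key, fun x hx => by simpa [C.c_inv hy] using key x hx⟩
    · rw [hN, closure_le]
      rintro _ ⟨q, ⟨Pq, hq⟩, rfl⟩
      exact ⟨h.fix Pq (C.ball_mono (by omega) (C.ball_symm hq)),
        h.fix Pq (C.ball_mono (show 3 + 1 ≤ R by omega)
          (C.ball_trans (C.ball_symm hq) (C.adj_mem_ball_one (hw.1 1 (by omega)))))⟩
    · rintro _ ⟨q, ⟨Pq, hq⟩, rfl⟩
      rw [C.c_smul g Pq]
      exact gen _ ((C.P_smul g q).2 Pq) (hg ▸ C.smul_mem_ball g hq)
  exact C.c_ne h0 ((Subgroup.mem_bot).1 (bot ▸ gen _ h0 (C.ball_mono (by omega)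
    (C.adj_mem_ball_one (C.symm (hw.1 0 (by omega)))))))

theorem exists_line : ∀ k, ∃ L, C.Line R k L
  | 0 => by
    obtain ⟨w, hw⟩ := C.exists_crit h hR hev
    exact ⟨w, fun j hj => Crit.congr C hw fun i _ => by rw [show 2 * j + i = i by omega]⟩
  | k + 1 => by
    obtain ⟨M, hM⟩ := exists_line k
    obtain ⟨L, hL, hLv⟩ := Crit.shift C h hR hev (hM 0 (by omega))
    refine ⟨fun i => if i < 3 then L i else M (i - 2), fun j hj => ?_⟩
    rcases (show j = 0 ∨ j = 1 ∨ 2 ≤ j by omega) with rfl | rfl | h2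
    · refine Crit.congr C (hL 0 (by omega)) fun i hi => ?_
      by_cases hi3 : i < 3
      · simp [hi3]
      · have := hLv (i - 2) (by omega) (by omega)
        simp [hi3]
        simpa [show i - 2 + 2 = i by omega] using this
    · refine Crit.congr C (hL 1 le_rfl) fun i hi => ?_
      by_cases hi3 : 2 + i < 3
      · simp [hi3]
      · have := hLv i (by omega) hi
        simp [hi3]
        simpa [Nat.add_comm] using this
    · refine Crit.congr C (hM (j - 1) (by omega)) fun i hi => ?_
      simp [show ¬ 2 * j + i < 3 by omega]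
      congr 1
      omega

theorem Line.walk {k : ℕ} {L : ℕ → V} (hL : C.Line R k L) : C.Walk L (2 * k + R + 2) := by
  refine ⟨fun m hm => ?_, fun m hm => ?_⟩
  · have hj := hL (min k (m / 2)) (min_le_left _ _)
    have := hj.1.1 (m - 2 * min k (m / 2)) (by omega)
    simpa [show 2 * min k (m / 2) + (m - 2 * min k (m / 2)) = m by omega,
      show 2 * min k (m / 2) + (m - 2 * min k (m / 2) + 1) = m + 1 by omega] using this
  · have hj := hL (min k (m / 2)) (min_le_left _ _)
    have := hj.1.2 (m - 2 * min k (m / 2)) (by omega)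
    simpa [show 2 * min k (m / 2) + (m - 2 * min k (m / 2)) = m by omega,
      show 2 * min k (m / 2) + (m - 2 * min k (m / 2) + 2) = m + 2 by omega] using this

theorem Line.even_P {k : ℕ} {L : ℕ → V} (hL : C.Line R k L) {i : ℕ} (hi : i ≤ 2 * k + R + 2)
    (he : i % 2 = 0) : C.P (L i) :=
  (Tri.Walk.parity C.toTri (Line.walk C h hR hev hL) i hi).2
    (iff_of_true he (by simpa using (hL 0 (by omega)).2.1))

theorem Line.walk_fix {k : ℕ} {L : ℕ → V} (hL : C.Line R k L) {i j : ℕ} (hi : i ≤ j + R)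
    (hj : j ≤ i + R) (hin : i ≤ 2 * k + R + 2) (hjn : j ≤ 2 * k + R + 2) (he : i % 2 = 0) :
    C.c (L i) • L j = L j :=
  Rad.fix_walk C h (Line.walk C h hR hev hL) (Line.even_P C h hR hev hL hin he) hin hjn hi hj

theorem Line.ncomm {k : ℕ} {L : ℕ → V} (hL : C.Line R k L) {i n : ℕ} (hi : i % 2 = 0)
    (hik : i ≤ 2 * k) (hn : n = i + R + 2) : ¬ Commute (C.c (L i)) (C.c (L n)) := by
  have := (hL (i / 2) (by omega)).2.2
  simpa [show 2 * (i / 2) = i by omega, show i + (R + 2) = n by omega] using this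

theorem Line.right {k : ℕ} {L : ℕ → V} (hL : C.Line R k L) {i n : ℕ} (hi : i % 2 = 0)
    (hik : i ≤ 2 * k) (hn : n = i + R + 1) : C.c (L i) • L n ≠ L n := by
  have := Crit.move_right C h hR hev (hL (i / 2) (by omega))
  simpa [show 2 * (i / 2) = i by omega, show i + (R + 1) = n by omega] using this

theorem Line.left {k : ℕ} {L : ℕ → V} (hL : C.Line R k L) {i n : ℕ} (hi : i % 2 = 0)
    (hik : i ≤ 2 * k) (hn : n = i + R + 2) : C.c (L n) • L (i + 1) ≠ L (i + 1) := by
  have := Crit.move_left C h hR hev (hL (i / 2) (by omega))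
  simpa [show 2 * (i / 2) = i by omega, show i + (R + 2) = n by omega] using this

end

end Cfsg.Agent.Class49.Trivalent.Ctx
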