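import Cfsg.Agent.Class49.Trivalent.Odd

/-!
Bounds for the edge stabiliser when the radius is at most 3.
-/

set_option autoImplicit false
set_option linter.unusedSectionVars false
set_option linter.unusedVariables false
set_option linter.style.haveILetI false
set_option linter.unusedSimpArgs false

open Subgroup MulAction

namespace Cfsg.Agent.Class49.Trivalent

variable {G : Type*} {V : Type*} [Group G] [MulAction G V]

namespace Tri

variable (A : Tri G V)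

/-- Fixing the ball of radius one at one further vertex costs at most a factor 2. -/
theorem card_inter_B {a b : V} (hab : A.Adj a b) {H : Subgroup G}
    (hH : H ≤ stabilizer G a ⊓ stabilizer G b) {v u : V} (hvu : A.Adj v u)
    (hfix : ∀ x ∈ H, x • v = v ∧ x • u = u) :
    Nat.card H ≤ 2 * Nat.card (H ⊓ A.B v 1 : Subgroup G) :=
  haveI := A.finite_le hab hH
  A.card_le_two_mul inf_le_left hvu hfix fun x hx hall => ⟨hx, A.mem_B.2 fun w hw => by
    rcases A.mem_ball_one hw with rfl | e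
    · exact (hfix x hx).1
    · exact hall w e⟩

theorem fix_nbr {x : G} {v w : V} (hx : x ∈ A.B v 1) (h : A.Adj v w) : x • w = w :=
  A.mem_B.1 hx w (A.adj_mem_ball_one h)

theorem B_one_of_fix {x : G} {v a b : V} (xv : x • v = v) (ha : A.Adj v a) (hb : A.Adj v b)
    (hab : a ≠ b) (xa : x • a = a) (xb : x • b = b) : x ∈ A.B v 1 :=
  A.mem_B.2 fun w hw => by
    rcases A.mem_ball_one hw with rfl | e
    · exact xv
    · exact A.fix_third xv ha hb hab xa xb e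

theorem mem_B_succ {x : G} {v : V} {r : ℕ} :
    x ∈ A.B v (r + 1) ↔ ∀ u ∈ A.ball v r, x ∈ A.B u 1 := by
  simp only [mem_B]
  refine ⟨fun h u hu w hw => h w ?_, fun h w ⟨u, hu, hw⟩ => ?_⟩
  · have := A.ball_trans hu hw
    exact this
  · rcases hw with rfl | hw
    · exact h w hu w (A.self_mem_ball w 1)
    · exact h u hu w (A.adj_mem_ball_one hw)

theorem mem_B_of_nbrs {x : G} {v : V} {r : ℕ} (h0 : x • v = v)
    (h : ∀ a, A.Adj v a → x ∈ A.B a r) : x ∈ A.B v (r + 1) := by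
  have key : ∀ r w, w ∈ A.ball v (r + 1) → w = v ∨ ∃ a, A.Adj v a ∧ w ∈ A.ball a r := by
    intro r
    induction r with
    | zero =>
      intro w hw
      rcases A.mem_ball_one hw with e | e
      · exact Or.inl e
      · exact Or.inr ⟨w, e, rfl⟩
    | succ r ih =>
      rintro w ⟨u, hu, hw⟩
      rcases ih u hu with rfl | ⟨a, ha, hua⟩
      · rcases hw with rfl | hw
        · exact Or.inl rfl
        · exact Or.inr ⟨w, hw, A.self_mem_ball w _⟩
      · exact Or.inr ⟨a, ha, ⟨u, hua, hw⟩⟩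
  refine A.mem_B.2 fun w hw => ?_
  rcases key r w hw with rfl | ⟨a, ha, hwa⟩
  · exact h0
  · exact A.mem_B.1 (h a ha) w hwa

theorem conj_fix_B {x g : G} (hc : Commute g x) {v : V} {r : ℕ} (hx : x ∈ A.B v r) :
    x ∈ A.B (g • v) r := by
  have := A.conj_mem_B g hx
  rwa [hc.eq, mul_inv_cancel_right] at this

end Tri

namespace Ctx

variable (C : Ctx G V) {R : ℕ}

theorem step_one {p : V} (hp : C.P p) : C.Step 1 := by
  obtain ⟨q, hq⟩ := C.exists_adj p
  obtain ⟨r, hr, hrp⟩ := C.exists_other (C.symm hq)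
  obtain ⟨x, xq, xp, xr⟩ := C.swap (C.symm hq) hr hrp
  refine ⟨fun i => if i = 0 then p else if i = 1 then q else r, x, ⟨?_, ?_⟩, by simpa, ?_, by
    simpa⟩
  · intro i hi
    rcases (show i = 0 ∨ i = 1 by omega) with rfl | rfl <;> simp [hq, hr]
  · intro i hi
    obtain rfl : i = 0 := by omega
    simpa using hrp
  · intro i hi
    rcases (show i = 0 ∨ i = 1 by omega) with rfl | rfl <;> simp [xp, xq]

theorem step_two {p : V} (hp : C.P p) : C.Step 2 := by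
  obtain ⟨q, hq⟩ := C.exists_adj p
  obtain ⟨r, hr, hrp⟩ := C.exists_other (C.symm hq)
  obtain ⟨s, hs, hsq⟩ := C.exists_other (C.symm hr)
  obtain ⟨x, hx, xs⟩ := C.exists_fix_nbrs_move hr hs hsq
  refine ⟨fun i => if i = 0 then p else if i = 1 then q else if i = 2 then r else s, x, ⟨?_, ?_⟩,
    by simpa, ?_, by simpa⟩
  · intro i hi
    rcases (show i = 0 ∨ i = 1 ∨ i = 2 by omega) with rfl | rfl | rfl <;> simp [hq, hr, hs]
  · intro i hi
    rcases (show i = 0 ∨ i = 1 by omega) with rfl | rfl <;> simp [hrp, hsq]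
  · intro i hi
    rcases (show i = 0 ∨ i = 1 ∨ i = 2 by omega) with rfl | rfl | rfl
    · simpa using C.fix_nbr hx (C.symm hq)
    · simpa using C.mem_B.1 hx _ (C.self_mem_ball q 1)
    · simpa using C.fix_nbr hx hr

theorem exact_le_three (h : C.Rad R) (hR : R ≤ 3) : C.Exact R := by
  obtain ⟨w, -, h0, -⟩ := h.move
  refine C.exact_of_steps h fun j h1 h2 => ?_
  rcases (show j = 1 ∨ j = 2 by omega) with rfl | rfl
  · exact C.step_one h0
  · exact C.step_two h0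

theorem walk_two {a b c : V} (h1 : C.Adj a b) (h2 : C.Adj b c) (hne : c ≠ a) :
    C.Walk (fun i => if i = 0 then a else if i = 1 then b else c) 2 :=
  ⟨fun i hi => by rcases (show i = 0 ∨ i = 1 by omega) with rfl | rfl <;> simp [h1, h2],
    fun i hi => by obtain rfl : i = 0 := by omega
                   simpa using hne⟩

theorem exact_three (he : C.Exact 2) {a b c d : V} (ha : C.P a) (h1 : C.Adj a b)
    (h2 : C.Adj b c) (h3 : C.Adj c d) (hac : c ≠ a) (hbd : d ≠ b) : C.c a • d ≠ d := by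
  have := he _ ((C.walk_two h1 h2 hac).snoc C.toTri (z := d) (by simpa using h3)
    (Or.inr (by simpa using hbd))) (by simpa using ha)
  simpa using this

theorem exact_four (he : C.Exact 3) {a b c d e : V} (ha : C.P a) (h1 : C.Adj a b)
    (h2 : C.Adj b c) (h3 : C.Adj c d) (h4 : C.Adj d e) (hac : c ≠ a) (hbd : d ≠ b)
    (hce : e ≠ c) : C.c a • e ≠ e := by
  have := he _ (((C.walk_two h1 h2 hac).snoc C.toTri (z := d) (by simpa using h3)
    (Or.inr (by simpa using hbd))).snoc C.toTri (z := e) (by simpa using h4)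
    (Or.inr (by simpa using hce))) (by simpa using ha)
  simpa using this

theorem bound_one (h : C.Rad 1) {m a : V} (hm : C.P m) (hma : C.Adj m a) :
    Nat.card (stabilizer G m ⊓ stabilizer G a : Subgroup G) ≤ 2 ^ 7 := by
  have he := C.exact_le_three h (by omega)
  have na := C.notP_of_adj hma hm
  obtain ⟨v, hv, hvm⟩ := C.exists_other (C.symm hma)
  obtain ⟨a₂, ha₂, ha₂'⟩ := C.exists_other hma
  obtain ⟨a₃, ha₃, ha₃1, ha₃2, hall⟩ := C.exists_third hma ha₂ ha₂'.symm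
  have bot : C.B m (1 + 1) = ⊥ := by
    refine C.B_eq_bot hma (C.c_adj (C.P_of_adj hv na) (C.symm hv)).1 ?_ fun x hx =>
      (C.comm (C.P_of_adj hv na) (C.mem_B.1 hx v (C.adj_ball (C.adj_mem_ball_one hma) hv))).symm
    have := he _ (C.walk_two (C.symm hv) (C.symm hma) (Ne.symm hvm)) (by
      simpa using C.P_of_adj hv na)
    simpa using this
  set S := stabilizer G m ⊓ stabilizer G a
  set H₁ := S ⊓ C.B m 1
  set H₂ := H₁ ⊓ C.B a 1
  set H₃ := H₂ ⊓ C.B a₂ 1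
  set H₄ := H₃ ⊓ C.B a₃ 1
  have fm : ∀ {b : V}, C.Adj m b → ∀ x ∈ H₁, x • b = b ∧ x • m = m := fun hb x hx =>
    ⟨C.fix_nbr hx.2 hb, hx.1.1⟩
  have c1 : Nat.card S ≤ 2 * Nat.card H₁ :=
    C.card_inter_B (H := S) hma (le_refl _) hma fun x hx => ⟨hx.1, hx.2⟩
  have c2 : Nat.card H₁ ≤ 2 * Nat.card H₂ :=
    C.card_inter_B (H := H₁) hma inf_le_left (C.symm hma) fun x hx => fm hma x hx
  have c3 : Nat.card H₂ ≤ 2 * Nat.card H₃ :=
    C.card_inter_B (H := H₂) hma (inf_le_left.trans inf_le_left) (C.symm ha₂) fun x hx => fm ha₂ x hx.1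
  have c4 : Nat.card H₃ ≤ 2 * Nat.card H₄ :=
    C.card_inter_B (H := H₃) hma (inf_le_left.trans (inf_le_left.trans inf_le_left)) (C.symm ha₃)
      fun x hx => fm ha₃ x hx.1.1
  have c5 : H₄ ≤ ⊥ := bot ▸ fun x hx => C.mem_B_of_nbrs hx.1.1.1.1.1 fun b hb => by
    rcases hall b hb with rfl | rfl | rfl
    · exact hx.1.1.2
    · exact hx.1.2
    · exact hx.2
  rw [le_bot_iff.1 c5, Subgroup.card_bot] at c4
  omega

theorem bound_two (h : C.Rad 2) {m a : V} (hm : C.P m) (hma : C.Adj m a) :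
    Nat.card (stabilizer G m ⊓ stabilizer G a : Subgroup G) ≤ 2 ^ 7 := by
  have he := C.exact_le_three h (by omega)
  have na := C.notP_of_adj hma hm
  have bot : C.B a (2 + 1) = ⊥ := by
    obtain ⟨a', ha', ha'a⟩ := C.exists_other hma
    obtain ⟨q, hq, hqm⟩ := C.exists_other (C.symm ha')
    have Pq := C.P_of_adj hq (C.notP_of_adj ha' hm)
    refine C.B_eq_bot (C.symm hma)
      (h.fix Pq (C.adj_ball (C.adj_mem_ball_one (C.symm hq)) (C.symm ha')))
      (C.exact_three he Pq (C.symm hq) (C.symm ha') hma (Ne.symm hqm) (Ne.symm ha'a))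
      fun x hx => (C.comm Pq (C.mem_B.1 hx q
        (C.adj_ball (C.adj_ball (C.adj_mem_ball_one (C.symm hma)) ha') hq))).symm
  obtain ⟨b₂, hb₂, hb₂'⟩ := C.exists_other (C.symm hma)
  obtain ⟨b₃, hb₃, hb₃1, hb₃2, hall⟩ := C.exists_third (C.symm hma) hb₂ hb₂'.symm
  obtain ⟨a₁, ha₁, ha₁'⟩ := C.exists_other hma
  obtain ⟨a₂, ha₂, ha₂'⟩ := C.exists_other (C.symm hb₂)
  obtain ⟨a₃, ha₃, ha₃'⟩ := C.exists_other (C.symm hb₃)
  set S := stabilizer G m ⊓ stabilizer G a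
  set H₁ := S ⊓ C.B a 1
  set H₂ := H₁ ⊓ C.B m 1
  set H₃ := H₂ ⊓ C.B b₂ 1
  set H₄ := H₃ ⊓ C.B b₃ 1
  set H₅ := H₄ ⊓ C.B a₁ 1
  set H₆ := H₅ ⊓ C.B a₂ 1
  set H₇ := H₆ ⊓ C.B a₃ 1
  have c1 : Nat.card S ≤ 2 * Nat.card H₁ :=
    C.card_inter_B (H := S) hma (le_refl _) (C.symm hma) fun x hx => ⟨hx.2, hx.1⟩
  have c2 : Nat.card H₁ ≤ 2 * Nat.card H₂ :=
    C.card_inter_B (H := H₁) hma (fun x hx => hx.1) hma fun x hx => ⟨hx.1.1, hx.1.2⟩
  have c3 : Nat.card H₂ ≤ 2 * Nat.card H₃ :=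
    C.card_inter_B (H := H₂) hma (fun x hx => hx.1.1) (C.symm hb₂) fun x hx =>
      ⟨C.fix_nbr hx.1.2 hb₂, hx.1.1.2⟩
  have c4 : Nat.card H₃ ≤ 2 * Nat.card H₄ :=
    C.card_inter_B (H := H₃) hma (fun x hx => hx.1.1.1) (C.symm hb₃) fun x hx =>
      ⟨C.fix_nbr hx.1.1.2 hb₃, hx.1.1.1.2⟩
  have c5 : Nat.card H₄ ≤ 2 * Nat.card H₅ :=
    C.card_inter_B (H := H₄) hma (fun x hx => hx.1.1.1.1) (C.symm ha₁) fun x hx =>
      ⟨C.fix_nbr hx.1.1.2 ha₁, hx.1.1.1.1.1⟩
  have c6 : Nat.card H₅ ≤ 2 * Nat.card H₆ :=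
    C.card_inter_B (H := H₅) hma (fun x hx => hx.1.1.1.1.1) (C.symm ha₂) fun x hx =>
      ⟨C.fix_nbr hx.1.1.2 ha₂, C.fix_nbr hx.1.1.1.1.2 hb₂⟩
  have c7 : Nat.card H₆ ≤ 2 * Nat.card H₇ :=
    C.card_inter_B (H := H₆) hma (fun x hx => hx.1.1.1.1.1.1) (C.symm ha₃) fun x hx =>
      ⟨C.fix_nbr hx.1.1.2 ha₃, C.fix_nbr hx.1.1.1.1.1.2 hb₃⟩
  have c8 : H₇ ≤ ⊥ := by
    rw [← bot]
    intro x ⟨⟨⟨⟨⟨⟨⟨xS, xa⟩, xm⟩, x2⟩, x3⟩, y1⟩, y2⟩, y3⟩
    refine C.mem_B_of_nbrs xS.2 fun b hb => ?_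
    have Pb := C.P_of_adj hb na
    have key : ∀ a' : V, C.Adj b a' → a' ≠ a → x ∈ C.B b 1 → x ∈ C.B a' 1 →
        x ∈ C.B b (1 + 1) := fun a' ha' ne xb xa' => by
      refine C.mem_B_of_nbrs (C.mem_B.1 xb _ (C.self_mem_ball b 1)) fun d hd => ?_
      by_cases da : d = a
      · exact da ▸ xa
      by_cases da' : d = a'
      · exact da' ▸ xa'
      obtain ⟨q, hq, hqb⟩ := C.exists_other hb
      have Pq := C.P_of_adj hq na
      have hqb2 : C.c q • b = b :=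
        h.fix Pq (C.adj_ball (C.adj_mem_ball_one (C.symm hq)) hb)
      have e := C.moved_eq_third hqb2 (C.c_adj Pq (C.symm hq)).1 (C.symm hb) ha' hd ne.symm
        (Ne.symm da) (Ne.symm da')
        (C.exact_three he Pq (C.symm hq) hb ha' (Ne.symm hqb) ne)
      exact e ▸ C.conj_fix_B (C.comm Pq (C.fix_nbr xa hq)).symm xa'
    rcases hall b hb with rfl | rfl | rfl
    · exact key a₁ ha₁ ha₁' xm y1
    · exact key a₂ ha₂ ha₂' x2 y2
    · exact key a₃ ha₃ ha₃' x3 y3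
  rw [le_bot_iff.1 c8, Subgroup.card_bot] at c7
  omega

section Three

variable (h : C.Rad 3) (he : C.Exact 3)
include h he

theorem comm_three {m a a' p q : V} (hm : C.P m) (ha : C.Adj m a) (ha' : C.Adj m a')
    (hne : a' ≠ a) (hq : C.Adj a q) (hqm : q ≠ m) (hp : C.Adj a' p) (hpm : p ≠ m) :
    C.c q * C.c p * C.c q = C.c p * C.c m := by
  have Pp := C.P_of_adj hp (C.notP_of_adj ha' hm)
  have hw := ((C.walk_two (C.symm hp) (C.symm ha') (Ne.symm hpm)).snoc C.toTri (z := a)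
    (by simpa using ha) (Or.inr (by simpa using Ne.symm hne))).snoc C.toTri (z := q)
    (by simpa using hq) (Or.inr (by simpa using hqm))
  obtain ⟨-, -, -, -, hl, -⟩ := C.odd_formula h (by omega) rfl hw (by simpa using Pp)
    (he _ hw (by simpa using Pp))
  simpa using hl

theorem fix_other_fibre {m a : V} (hm : C.P m) (ha : C.Adj m a) {x : G} (hx : x ∈ C.B m 2)
    {q : V} (hq : C.Adj a q) (hqm : q ≠ m) (hxq : x ∈ C.B q 1) : x ∈ C.B a 2 := by
  have xa : x • a = a := C.mem_B.1 hx _ (C.ball_mono (by omega) (C.adj_mem_ball_one ha))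
  refine C.mem_B_of_nbrs xa fun b hb => ?_
  by_cases bm : b = m
  · exact bm ▸ C.B_anti m (by omega) hx
  by_cases bq : b = q
  · exact bq ▸ hxq
  obtain ⟨a', ha', ha'a⟩ := C.exists_other ha
  obtain ⟨p, hp, hpm⟩ := C.exists_other (C.symm ha')
  have Pp := C.P_of_adj hp (C.notP_of_adj ha' hm)
  have xp : x • p = p := C.mem_B.1 hx p (C.adj_ball (C.adj_mem_ball_one ha') hp)
  have pa : C.c p • a = a :=
    h.fix Pp (C.adj_ball (C.adj_ball (C.adj_mem_ball_one (C.symm hp)) (C.symm ha')) ha)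
  have pm : C.c p • m = m :=
    h.fix Pp (C.ball_mono (by omega) (C.adj_ball (C.adj_mem_ball_one (C.symm hp)) (C.symm ha')))
  have e := C.moved_eq_third pa pm (C.symm ha) hq hb (Ne.symm hqm) (Ne.symm bm) (Ne.symm bq)
    (C.exact_four he Pp (C.symm hp) (C.symm ha') ha hq (Ne.symm hpm) (Ne.symm ha'a) hqm)
  exact e ▸ C.conj_fix_B (C.comm Pp xp).symm hxq

theorem B_four_bot {m a : V} (hm : C.P m) (ha : C.Adj m a) : C.B m (3 + 1) = ⊥ := by
  obtain ⟨q, hq, hqm⟩ := C.exists_other (C.symm ha)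
  obtain ⟨e, he', hea⟩ := C.exists_other (C.symm hq)
  obtain ⟨f, hf, hfq⟩ := C.exists_other (C.symm he')
  have nq := C.P_of_adj hq (C.notP_of_adj ha hm)
  have Pf := C.P_of_adj hf (C.notP_of_adj he' nq)
  refine C.B_eq_bot ha (g := C.c f)
    (h.fix Pf (C.adj_ball (C.adj_ball (C.adj_mem_ball_one (C.symm hf)) (C.symm he')) (C.symm hq)))
    (C.exact_four he Pf (C.symm hf) (C.symm he') (C.symm hq) (C.symm ha) (Ne.symm hfq)
      (Ne.symm hea) (Ne.symm hqm)) fun x hx => (C.comm Pf (C.mem_B.1 hx f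
      (C.adj_ball (C.adj_ball (C.adj_ball (C.adj_mem_ball_one ha) hq) he') hf))).symm

theorem B_three_sq {m a : V} (hm : C.P m) (ha : C.Adj m a) {x : G} (hx : x ∈ C.B m 3) :
    x * x = 1 := by
  have : x * x ∈ C.B m (3 + 1) := by
    refine C.mem_B.2 fun w ⟨u, hu, hw⟩ => ?_
    have xu := C.mem_B.1 hx u hu
    rcases hw with rfl | hw
    · rw [mul_smul, xu, xu]
    obtain ⟨t, ht, htu⟩ := hu
    rw [mul_smul]
    rcases htu with rfl | htu
    · rw [C.mem_B.1 hx w ⟨u, ht, Or.inr hw⟩, C.mem_B.1 hx w ⟨u, ht, Or.inr hw⟩]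
    by_cases wt : w = t
    · rw [wt, C.mem_B.1 hx t (C.ball_mono (show 2 ≤ 3 by omega) ht),
        C.mem_B.1 hx t (C.ball_mono (show 2 ≤ 3 by omega) ht)]
    exact C.twice_image xu (C.mem_B.1 hx t (C.ball_mono (show 2 ≤ 3 by omega) ht)) (C.symm htu) hw
      (Ne.symm wt)
  rw [C.B_four_bot h he hm ha] at this
  exact (Subgroup.mem_bot).1 this

/-- The product of involutions from the three branches at `m`. -/
theorem prod_facts {m a₁ a₂ a₃ q₁ q₂ q₃ : V} (hm : C.P m) (h1 : C.Adj m a₁) (h2 : C.Adj m a₂)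
    (h3 : C.Adj m a₃) (n12 : a₁ ≠ a₂) (n13 : a₁ ≠ a₃) (n23 : a₂ ≠ a₃) (k1 : C.Adj a₁ q₁)
    (k2 : C.Adj a₂ q₂) (k3 : C.Adj a₃ q₃) (l1 : q₁ ≠ m) (l2 : q₂ ≠ m) (l3 : q₃ ≠ m) :
    C.c q₁ * C.c q₂ * C.c q₃ ∈ C.B m 2 ∧ C.c q₁ * C.c q₂ * C.c q₃ ∉ C.B a₁ 2 := by
  set W := C.c q₁ * C.c q₂ * C.c q₃ with hW
  have P1 := C.P_of_adj k1 (C.notP_of_adj h1 hm)
  have P2 := C.P_of_adj k2 (C.notP_of_adj h2 hm)
  have P3 := C.P_of_adj k3 (C.notP_of_adj h3 hm)
  have fixa : ∀ {a q b : V}, C.Adj m a → C.Adj a q → C.Adj m b → C.c q • b = b :=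
    fun ha hq hb => h.fix (C.P_of_adj hq (C.notP_of_adj ha hm))
      (C.adj_ball (C.adj_ball (C.adj_mem_ball_one (C.symm hq)) (C.symm ha)) hb)
  have fixm : ∀ {a q : V}, C.Adj m a → C.Adj a q → C.c q • m = m := fun ha hq =>
    h.fix (C.P_of_adj hq (C.notP_of_adj ha hm))
      (C.ball_mono (show 2 ≤ 3 by omega) (C.adj_ball (C.adj_mem_ball_one (C.symm hq)) (C.symm ha)))
  have hWm : W • m = m := by rw [hW, mul_smul, mul_smul, fixm h3 k3, fixm h2 k2, fixm h1 k1]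
  have two : ∀ {a p p' q : V} {s s' : V}, C.Adj m a → C.Adj m s → C.Adj m s' → s ≠ a → s' ≠ a →
      C.Adj s p → p ≠ m → C.Adj s' p' → p' ≠ m → C.Adj a q → q ≠ m →
      C.c p • C.c p' • q = q := by
    intro a p p' q s s' ha hs hs' sa s'a hp pm hp' p'm hq qm
    have Pp := C.P_of_adj hp (C.notP_of_adj hs hm)
    have Pp' := C.P_of_adj hp' (C.notP_of_adj hs' hm)
    rw [C.same_image (fixa hs' hp' ha) (fixa hs hp ha) (fixm hs' hp') (fixm hs hp) (C.symm ha) hq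
      (Ne.symm qm)
      (C.exact_four he Pp' (C.symm hp') (C.symm hs') ha hq (Ne.symm p'm) (Ne.symm s'a) qm)
      (C.exact_four he Pp (C.symm hp) (C.symm hs) ha hq (Ne.symm pm) (Ne.symm sa) qm),
      C.c_smul_smul Pp]
  have hWmem : W ∈ C.B m 2 := by
    refine C.mem_B_of_nbrs hWm fun b hb => ?_
    obtain ⟨q, hq, hqm⟩ := C.exists_other (C.symm hb)
    refine C.B_one_of_fix ?_ (C.symm hb) hq (Ne.symm hqm) hWm ?_
    · rw [hW, mul_smul, mul_smul, fixa h3 k3 hb, fixa h2 k2 hb, fixa h1 k1 hb]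
    rw [hW, mul_smul, mul_smul]
    have self : ∀ {p : V}, C.Adj b p → C.c p • q = q := fun hp =>
      h.fix (C.P_of_adj hp (C.notP_of_adj hb hm))
        (C.ball_mono (show 2 ≤ 3 by omega) (C.adj_ball (C.adj_mem_ball_one (C.symm hp)) hq))
    rcases C.eq_third h1 h2 h3 n12 n13 n23 hb with rfl | rfl | rfl
    · rw [two h1 h2 h3 n12.symm n13.symm k2 l2 k3 l3 hq hqm, self k1]
    · have e : C.c q₃ • q ∈ ({q' | C.Adj b q' ∧ q' ≠ m} : Set V) :=
        ⟨C.adj_fix (fixa h3 k3 hb) hq, fun e => hqm (MulAction.injective (C.c q₃)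
          (e.trans (fixm h3 k3).symm))⟩
      rw [h.fix P2 (C.ball_mono (show 2 ≤ 3 by omega)
        (C.adj_ball (C.adj_mem_ball_one (C.symm k2)) e.1)), two h2 h1 h3 n12 n23.symm k1 l1 k3 l3 hq
        hqm]
    · rw [self k3, two h3 h1 h2 n13 n23 k1 l1 k2 l2 hq hqm]
  refine ⟨hWmem, fun hcon => ?_⟩
  have inv : ∀ {p : V}, C.P p → (C.c p)⁻¹ = C.c p := fun hp => C.c_inv hp
  have sq : W * W = C.c m := by
    have e21 : C.c q₂ * C.c q₁ = C.c q₁ * C.c m * C.c q₂ := by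
      rw [← C.comm_three h he hm h2 h1 n12 k2 l2 k1 l1, mul_assoc (C.c q₂ * C.c q₁), C.c_sq P2,
        mul_one]
    have e31 : C.c q₃ * C.c q₁ = C.c q₁ * C.c m * C.c q₃ := by
      rw [← C.comm_three h he hm h3 h1 n13 k3 l3 k1 l1, mul_assoc (C.c q₃ * C.c q₁), C.c_sq P3,
        mul_one]
    have e32 : C.c q₃ * C.c q₂ = C.c q₂ * C.c m * C.c q₃ := by
      rw [← C.comm_three h he hm h3 h2 n23 k3 l3 k2 l2, mul_assoc (C.c q₃ * C.c q₂), C.c_sq P3,
        mul_one]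
    have cm2 : Commute (C.c q₂) (C.c m) := C.comm hm (fixm h2 k2)
    have cm3 : Commute (C.c q₃) (C.c m) := C.comm hm (fixm h3 k3)
    calc W * W = C.c q₁ * C.c q₂ * (C.c q₃ * C.c q₁) * C.c q₂ * C.c q₃ := by
          simp only [hW, mul_assoc]
      _ = C.c q₁ * (C.c q₂ * C.c q₁) * C.c m * (C.c q₃ * C.c q₂) * C.c q₃ := by
          rw [e31]; simp only [mul_assoc]
      _ = (C.c q₁ * C.c q₁) * C.c m * (C.c q₂ * C.c m) * C.c q₂ * C.c m * (C.c q₃ * C.c q₃) := by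
          rw [e21, e32]; simp only [mul_assoc]
      _ = C.c m := by
          rw [C.c_sq P1, C.c_sq P3, cm2.eq, one_mul, mul_one, ← mul_assoc, C.c_sq hm, one_mul,
            C.c_sq P2, one_mul]
  have cmW : Commute (C.c m) W := (C.comm hm hWm).symm
  have cmB : ∀ b, C.Adj m b → C.c m ∈ C.B b 2 := fun b hb => Rad.mem_B C h hm
    (C.adj_mem_ball_one hb) (by omega)
  obtain ⟨g, gm, g1, g2, g3⟩ := C.exists_cycle h1 h2 h3 n12 n13 n23
  have img : ∀ {b b' q q' : V}, C.Adj m b → C.Adj m b' → g • b = b' → C.Adj b q → q ≠ m →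
      C.Adj b' q' → q' ≠ m → C.c (g • q) = C.c q' ∨ C.c (g • q) = C.c q' * C.c m := by
    intro b b' q q' hb hb' gb hq hqm hq' hq'm
    have hgq : C.Adj b' (g • q) := gb ▸ C.adj_smul g hq
    by_cases e : g • q = q'
    · exact Or.inl (congrArg C.c e)
    · exact Or.inr (C.star h (by omega) (C.notP_of_adj hb' hm) hq' (C.symm hb') hgq hq'm
        (Ne.symm e) (fun e' => hqm (MulAction.injective g (e'.symm.trans gm.symm)))).symm
  have hrot : W ∈ C.B (g • a₁) 2 ∧ W ∈ C.B (g • g • a₁) 2 := by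
    have central : ∀ {p : V}, C.c p • m = m → Commute (C.c m) (C.c p) := fun hp =>
      (C.comm hm hp).symm
    have conjW : g * W * g⁻¹ = C.c q₁ * W * C.c q₁ ∨
        g * W * g⁻¹ = C.c q₁ * W * C.c q₁ * C.c m := by
      have e0 : g * W * g⁻¹ = C.c (g • q₁) * C.c (g • q₂) * C.c (g • q₃) := by
        rw [← C.c_smul g P1, ← C.c_smul g P2, ← C.c_smul g P3, hW]; group
      have e1 : C.c q₁ * W * C.c q₁ = C.c q₂ * C.c q₃ * C.c q₁ := by
        rw [hW, ← mul_assoc, ← mul_assoc, C.c_sq P1, one_mul]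
      have c1 := central (fixm h1 k1)
      have c3 := central (fixm h3 k3)
      have m2 : C.c m * C.c m = 1 := C.c_sq hm
      rw [e0, e1]
      have M : ∀ z, C.c m * (C.c m * z) = z := fun z => by rw [← mul_assoc, m2, one_mul]
      have L1 : ∀ z, C.c m * (C.c q₁ * z) = C.c q₁ * (C.c m * z) := fun z => by
        rw [← mul_assoc, c1.eq, mul_assoc]
      have L3 : ∀ z, C.c m * (C.c q₃ * z) = C.c q₃ * (C.c m * z) := fun z => by
        rw [← mul_assoc, c3.eq, mul_assoc]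
      rcases img h1 h2 g1 k1 l1 k2 l2 with a | a <;> rcases img h2 h3 g2 k2 l2 k3 l3 with b | b <;>
        rcases img h3 h1 g3 k3 l3 k1 l1 with d | d <;> rw [a, b, d] <;>
        simp [mul_assoc, c1.eq, c3.eq, L1, L3, m2, M]
    have step : ∀ {b : V}, C.Adj m b → W ∈ C.B b 2 → W ∈ C.B (g • b) 2 := by
      intro b hb hWb
      have hgb := C.adj_fix gm hb
      have h4 : g * W * g⁻¹ ∈ C.B (g • b) 2 := C.conj_mem_B g hWb
      have h5 : C.c q₁ * W * C.c q₁ ∈ C.B (g • b) 2 := by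
        rcases conjW with e | e
        · rwa [e] at h4
        · have := mul_mem h4 (inv_mem (cmB _ hgb))
          rwa [e, mul_inv_cancel_right] at this
      have := C.conj_mem_B_of_fix (fixa h1 k1 hgb) h5
      rwa [C.c_inv P1, ← mul_assoc, ← mul_assoc, C.c_sq P1, one_mul, mul_assoc, C.c_sq P1,
        mul_one] at this
    exact ⟨step h1 hcon, step (C.adj_fix gm h1) (step h1 hcon)⟩
  rw [g1, g2] at hrot
  refine C.c_ne hm (sq ▸ C.B_three_sq h he hm h1 (C.mem_B_of_nbrs hWm fun b hb => ?_))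
  rcases C.eq_third h1 h2 h3 n12 n13 n23 hb with rfl | rfl | rfl
  · exact hcon
  · exact hrot.1
  · exact hrot.2

theorem exists_prod {m a : V} (hm : C.P m) (ha : C.Adj m a) : ∃ W : G, W ∈ C.B m 2 ∧
    W ∉ C.B a 2 ∧ ∀ x ∈ C.B m 2, Commute W x := by
  obtain ⟨a₂, h2, n2⟩ := C.exists_other ha
  obtain ⟨a₃, h3, n31, n32, -⟩ := C.exists_third ha h2 n2.symm
  obtain ⟨q₁, k1, l1⟩ := C.exists_other (C.symm ha)
  obtain ⟨q₂, k2, l2⟩ := C.exists_other (C.symm h2)
  obtain ⟨q₃, k3, l3⟩ := C.exists_other (C.symm h3)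
  obtain ⟨e1, e2⟩ := C.prod_facts h he hm ha h2 h3 n2.symm n31.symm n32.symm k1 k2 k3 l1 l2 l3
  refine ⟨_, e1, e2, fun x hx => ?_⟩
  have cc : ∀ {b q : V}, C.Adj m b → C.Adj b q → Commute (C.c q) x := fun hb hq =>
    (C.comm (C.P_of_adj hq (C.notP_of_adj hb hm))
      (C.mem_B.1 hx _ (C.adj_ball (C.adj_mem_ball_one hb) hq))).symm
  exact ((cc ha k1).mul_left (cc h2 k2)).mul_left (cc h3 k3)

/-- The common geometry of the two transport lemmas. -/
theorem transport {m a a' : V} (hm : C.P m) (ha : C.Adj m a) (ha' : C.Adj m a') (hne : a' ≠ a) :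
    ∃ q e f p : V, C.Adj a q ∧ q ≠ m ∧ C.Adj q e ∧ e ≠ a ∧ C.Adj e f ∧ f ≠ q ∧ C.Adj a' p ∧
      p ≠ m ∧ (C.c p * C.c f) • a = a ∧ (C.c p * C.c f) • m = q := by
  obtain ⟨q, hq, hqm⟩ := C.exists_other (C.symm ha)
  obtain ⟨e, he', hea⟩ := C.exists_other (C.symm hq)
  obtain ⟨f, hf, hfq⟩ := C.exists_other (C.symm he')
  obtain ⟨p, hp, hpm⟩ := C.exists_other (C.symm ha')
  obtain ⟨q', hq', hq'q, hq'm, -⟩ := C.exists_third hq (C.symm ha) hqm
  have Pq := C.P_of_adj hq (C.notP_of_adj ha hm)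
  have Pf := C.P_of_adj hf (C.notP_of_adj he' Pq)
  have Pp := C.P_of_adj hp (C.notP_of_adj ha' hm)
  have fa : C.c f • a = a :=
    h.fix Pf (C.adj_ball (C.adj_ball (C.adj_mem_ball_one (C.symm hf)) (C.symm he')) (C.symm hq))
  have fq : C.c f • q = q :=
    h.fix Pf (C.ball_mono (by omega) (C.adj_ball (C.adj_mem_ball_one (C.symm hf)) (C.symm he')))
  have pa : C.c p • a = a :=
    h.fix Pp (C.adj_ball (C.adj_ball (C.adj_mem_ball_one (C.symm hp)) (C.symm ha')) ha)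
  have pm : C.c p • m = m :=
    h.fix Pp (C.ball_mono (by omega) (C.adj_ball (C.adj_mem_ball_one (C.symm hp)) (C.symm ha')))
  have e1 := C.moved_eq_third fa fq hq (C.symm ha) hq' hqm hq'q.symm hq'm.symm
    (C.exact_four he Pf (C.symm hf) (C.symm he') (C.symm hq) (C.symm ha) (Ne.symm hfq)
      (Ne.symm hea) (Ne.symm hqm))
  have e2 := C.moved_eq_third pa pm (C.symm ha) hq' hq hq'm.symm (Ne.symm hqm) hq'q
    (C.exact_four he Pp (C.symm hp) (C.symm ha') ha hq' (Ne.symm hpm) (Ne.symm hne) hq'm)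
  exact ⟨q, e, f, p, hq, hqm, he', hea, hf, hfq, hp, hpm, by rw [mul_smul, fa, pa],
    by rw [mul_smul, e1, e2]⟩

theorem three_delta {m a a' a'' : V} (hm : C.P m) (ha : C.Adj m a) (ha' : C.Adj m a')
    (ha'' : C.Adj m a'') (n1 : a' ≠ a) (n2 : a'' ≠ a) (n3 : a'' ≠ a') {x : G}
    (hx : x ∈ C.B m 2) (xa : x ∈ C.B a 2) (xa' : x ∈ C.B a' 2) : x ∈ C.B a'' 2 := by
  obtain ⟨q, e, f, p, hq, hqm, he', hea, hf, hfq, hp, hpm, ga, gm⟩ :=
    C.transport h he hm ha ha' n1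
  have Pq := C.P_of_adj hq (C.notP_of_adj ha hm)
  have Pf := C.P_of_adj hf (C.notP_of_adj he' Pq)
  have Pp := C.P_of_adj hp (C.notP_of_adj ha' hm)
  have cB : ∀ b, C.Adj m b → C.c m ∈ C.B b 2 := fun b hb => Rad.mem_B C h hm
    (C.adj_mem_ball_one hb) (by omega)
  have cBm : C.c m ∈ C.B m 2 := Rad.mem_B C h hm (C.self_mem_ball m 0) (by omega)
  have xq : x • q = q := C.mem_B.1 hx q (C.adj_ball (C.adj_mem_ball_one ha) hq)
  have xe : x • e = e := C.mem_B.1 xa e (C.adj_ball (C.adj_mem_ball_one hq) he')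
  obtain ⟨y, hy, hyf, back⟩ : ∃ y, (y = x ∨ y = C.c m * x) ∧ y • f = f ∧
      ∀ b, C.Adj m b → y ∈ C.B b 2 → x ∈ C.B b 2 := by
    by_cases xf : x • f = f
    · exact ⟨x, Or.inl rfl, xf, fun b _ hb => hb⟩
    · refine ⟨C.c m * x, Or.inr rfl, ?_, fun b hb hyb => by
        have := mul_mem (cB b hb) hyb
        rwa [← mul_assoc, C.c_sq hm, one_mul] at this⟩
      have me : C.c m • e = e := h.fix hm
        (C.adj_ball (C.adj_ball (C.adj_mem_ball_one ha) hq) he')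
      have mq : C.c m • q = q := h.fix hm
        (C.ball_mono (by omega) (C.adj_ball (C.adj_mem_ball_one ha) hq))
      rw [mul_smul, C.same_image xe me xq mq (C.symm he') hf (Ne.symm hfq) xf
        (C.exact_four he hm ha hq he' hf hqm hea hfq), C.c_smul_smul hm]
  have hyB : y ∈ C.B m 2 := by
    rcases hy with rfl | rfl
    · exact hx
    · exact mul_mem cBm hx
  have hya' : y ∈ C.B a' 2 := by
    rcases hy with rfl | rfl
    · exact xa'
    · exact mul_mem (cB a' ha') xa'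
  have hyp : y • p = p := C.mem_B.1 hyB p (C.adj_ball (C.adj_mem_ball_one ha') hp)
  set g := C.c p * C.c f
  have hg : Commute g y := ((C.comm Pp hyp).symm).mul_left (C.comm Pf hyf).symm
  obtain ⟨W, hW, hWa, hWc⟩ := C.exists_prod h he hm ha
  have Wq : W • q = q := C.mem_B.1 hW q (C.adj_ball (C.adj_mem_ball_one ha) hq)
  have Wa : W • a = a := C.mem_B.1 hW a (C.ball_mono (by omega) (C.adj_mem_ball_one ha))
  have hga' : C.Adj q (g • a') := gm ▸ C.adj_smul g ha'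
  have hga'' : C.Adj q (g • a'') := gm ▸ C.adj_smul g ha''
  have na' : g • a' ≠ a := fun e' => n1 (MulAction.injective g (e'.trans ga.symm))
  have Wmove : W • g • a' ≠ g • a' := fun e' => hWa (C.fix_other_fibre h he hm ha hW hq hqm
    (C.B_one_of_fix Wq (C.symm hq) hga' na'.symm Wa e'))
  have e3 := C.moved_eq_third Wq Wa (C.symm hq) hga' hga'' na'.symm
    (fun e' => n2 (MulAction.injective g (e'.symm.trans ga.symm)))
    (fun e' => n3 (MulAction.injective g e'.symm)) Wmove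
  have k1 := C.conj_fix_B hg hya'
  have k2 : y ∈ C.B (W • g • a') 2 := C.conj_fix_B (hWc y hyB) k1
  rw [e3] at k2
  have k3 := C.conj_fix_B hg.inv_left k2
  rw [inv_smul_smul] at k3
  exact back a'' ha'' k3

theorem three_eps {m a a' a'' : V} (hm : C.P m) (ha : C.Adj m a) (ha' : C.Adj m a')
    (ha'' : C.Adj m a'') (n1 : a' ≠ a) (n2 : a'' ≠ a) (n3 : a'' ≠ a') {x : G}
    (hx : x ∈ C.B m 3) (xa : x ∈ C.B a 3) (xa' : x ∈ C.B a' 3) : x ∈ C.B a'' 3 := by
  obtain ⟨q, e, f, p, hq, hqm, he', hea, hf, hfq, hp, hpm, ga, gm⟩ :=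
    C.transport h he hm ha ha' n1
  have Pq := C.P_of_adj hq (C.notP_of_adj ha hm)
  have Pf := C.P_of_adj hf (C.notP_of_adj he' Pq)
  have Pp := C.P_of_adj hp (C.notP_of_adj ha' hm)
  have hx2 := C.B_anti m (show 2 ≤ 3 by omega) hx
  have hyp : x • p = p := C.mem_B.1 hx2 p (C.adj_ball (C.adj_mem_ball_one ha') hp)
  have xf : x • f = f := C.mem_B.1 xa f
    (C.adj_ball (C.adj_ball (C.adj_mem_ball_one hq) he') hf)
  set g := C.c p * C.c f
  have hg : Commute g x := ((C.comm Pp hyp).symm).mul_left (C.comm Pf xf).symm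
  obtain ⟨W, hW, hWa, hWc⟩ := C.exists_prod h he hm ha
  have Wq : W • q = q := C.mem_B.1 hW q (C.adj_ball (C.adj_mem_ball_one ha) hq)
  have Wa : W • a = a := C.mem_B.1 hW a (C.ball_mono (by omega) (C.adj_mem_ball_one ha))
  have hga' : C.Adj q (g • a') := gm ▸ C.adj_smul g ha'
  have hga'' : C.Adj q (g • a'') := gm ▸ C.adj_smul g ha''
  have na' : g • a' ≠ a := fun e' => n1 (MulAction.injective g (e'.trans ga.symm))
  have Wmove : W • g • a' ≠ g • a' := fun e' => hWa (C.fix_other_fibre h he hm ha hW hq hqm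
    (C.B_one_of_fix Wq (C.symm hq) hga' na'.symm Wa e'))
  have e3 := C.moved_eq_third Wq Wa (C.symm hq) hga' hga'' na'.symm
    (fun e' => n2 (MulAction.injective g (e'.symm.trans ga.symm)))
    (fun e' => n3 (MulAction.injective g e'.symm)) Wmove
  have k2 : x ∈ C.B (W • g • a') 3 := C.conj_fix_B (hWc x hx2) (C.conj_fix_B hg xa')
  rw [e3] at k2
  have k3 := C.conj_fix_B hg.inv_left k2
  rwa [inv_smul_smul] at k3

theorem eps_move {m a : V} (hm : C.P m) (ha : C.Adj m a) : C.c m ∉ C.B a 3 := by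
  obtain ⟨q, hq, hqm⟩ := C.exists_other (C.symm ha)
  obtain ⟨e, he', hea⟩ := C.exists_other (C.symm hq)
  obtain ⟨f, hf, hfq⟩ := C.exists_other (C.symm he')
  exact fun hc => C.exact_four he hm ha hq he' hf hqm hea hfq
    (C.mem_B.1 hc f (C.adj_ball (C.adj_ball (C.adj_mem_ball_one hq) he') hf))

theorem eps_branch {m a q e f : V} (hm : C.P m) (ha : C.Adj m a) (hq : C.Adj a q) (hqm : q ≠ m)
    (he' : C.Adj q e) (hea : e ≠ a) (hf : C.Adj e f) (hfq : f ≠ q) {x : G} (hx : x ∈ C.B m 3)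
    (xf : x • f = f) : x ∈ C.B a 3 := by
  have hx2 := C.B_anti m (show 2 ≤ 3 by omega) hx
  have xq : x • q = q := C.mem_B.1 hx2 q (C.adj_ball (C.adj_mem_ball_one ha) hq)
  have xe : x • e = e :=
    C.mem_B.1 hx e (C.adj_ball (C.adj_ball (C.adj_mem_ball_one ha) hq) he')
  have xa : x • a = a := C.mem_B.1 hx2 a (C.ball_mono (by omega) (C.adj_mem_ball_one ha))
  have one : x ∈ C.B e 1 := C.B_one_of_fix xe (C.symm he') hf (Ne.symm hfq) xq xf
  obtain ⟨W, hW, hWa, hWc⟩ := C.exists_prod h he hm ha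
  have Wq : W • q = q := C.mem_B.1 hW q (C.adj_ball (C.adj_mem_ball_one ha) hq)
  have Wa : W • a = a := C.mem_B.1 hW a (C.ball_mono (by omega) (C.adj_mem_ball_one ha))
  obtain ⟨e₂, he₂, he₂a, he₂e, hall⟩ := C.exists_third (C.symm hq) he' (Ne.symm hea)
  have xq2 : x ∈ C.B q 2 := by
    refine C.mem_B_of_nbrs xq fun b hb => ?_
    rcases hall b hb with e1 | e1 | e1
    · exact e1 ▸ C.mem_B_succ.1 hx2 a (C.adj_mem_ball_one ha)
    · exact e1 ▸ one
    · have Wmove : W • e ≠ e := fun e' => hWa (C.fix_other_fibre h he hm ha hW hq hqm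
        (C.B_one_of_fix Wq (C.symm hq) he' (Ne.symm hea) Wa e'))
      have k := C.moved_eq_third Wq Wa (C.symm hq) he' he₂ (Ne.symm hea) he₂a.symm he₂e.symm
        Wmove
      exact e1 ▸ k ▸ C.conj_fix_B (hWc x hx2) one
  refine C.mem_B_of_nbrs xa fun b hb => ?_
  by_cases bm : b = m
  · exact bm ▸ hx2
  by_cases bq : b = q
  · exact bq ▸ xq2
  obtain ⟨a', ha', ha'a⟩ := C.exists_other ha
  obtain ⟨p, hp, hpm⟩ := C.exists_other (C.symm ha')
  have Pp := C.P_of_adj hp (C.notP_of_adj ha' hm)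
  have xp : x • p = p := C.mem_B.1 hx2 p (C.adj_ball (C.adj_mem_ball_one ha') hp)
  have pa : C.c p • a = a :=
    h.fix Pp (C.adj_ball (C.adj_ball (C.adj_mem_ball_one (C.symm hp)) (C.symm ha')) ha)
  have pm : C.c p • m = m :=
    h.fix Pp (C.ball_mono (by omega) (C.adj_ball (C.adj_mem_ball_one (C.symm hp)) (C.symm ha')))
  have k := C.moved_eq_third pa pm (C.symm ha) hq hb (Ne.symm hqm) (Ne.symm bm) (Ne.symm bq)
    (C.exact_four he Pp (C.symm hp) (C.symm ha') ha hq (Ne.symm hpm) (Ne.symm ha'a) hqm)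
  exact k ▸ C.conj_fix_B (C.comm Pp xp).symm xq2

end Three

theorem bound_three (h : C.Rad 3) {m a : V} (hm : C.P m) (hma : C.Adj m a) :
    Nat.card (stabilizer G m ⊓ stabilizer G a : Subgroup G) ≤ 2 ^ 7 := by
  have he := C.exact_le_three h (by omega)
  obtain ⟨a₂, h2, n2⟩ := C.exists_other hma
  obtain ⟨a₃, h3, n31, n32, hall⟩ := C.exists_third hma h2 n2.symm
  obtain ⟨q, hq, hqm⟩ := C.exists_other (C.symm hma)
  obtain ⟨e, he', hea⟩ := C.exists_other (C.symm hq)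
  obtain ⟨f, hf, hfq⟩ := C.exists_other (C.symm he')
  set S := stabilizer G m ⊓ stabilizer G a
  set H₁ := S ⊓ C.B m 1
  set H₂ := H₁ ⊓ C.B a 1
  set H₃ := H₂ ⊓ C.B a₂ 1
  set H₄ := H₃ ⊓ C.B a₃ 1
  set H₅ := H₄ ⊓ C.B q 1
  set H₆ := H₅ ⊓ C.B e 1
  have c1 : Nat.card S ≤ 2 * Nat.card H₁ :=
    C.card_inter_B (H := S) hma (le_refl _) hma fun x hx => ⟨hx.1, hx.2⟩
  have c2 : Nat.card H₁ ≤ 2 * Nat.card H₂ :=
    C.card_inter_B (H := H₁) hma inf_le_left (C.symm hma) fun x hx => ⟨hx.1.2, hx.1.1⟩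
  have c3 : Nat.card H₂ ≤ 2 * Nat.card H₃ :=
    C.card_inter_B (H := H₂) hma (fun x hx => hx.1.1) (C.symm h2) fun x hx =>
      ⟨C.fix_nbr hx.1.2 h2, hx.1.1.1⟩
  have c4 : Nat.card H₃ ≤ 2 * Nat.card H₄ :=
    C.card_inter_B (H := H₃) hma (fun x hx => hx.1.1.1) (C.symm h3) fun x hx =>
      ⟨C.fix_nbr hx.1.1.2 h3, hx.1.1.1.1⟩
  have c5 : Nat.card H₄ ≤ 2 * Nat.card H₅ :=
    C.card_inter_B (H := H₄) hma (fun x hx => hx.1.1.1.1) (C.symm hq) fun x hx =>
      ⟨C.fix_nbr hx.1.1.2 hq, hx.1.1.1.1.2⟩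
  have mem4 : ∀ x ∈ H₄, x ∈ C.B m 2 := fun x ⟨⟨⟨⟨xS, _⟩, x1⟩, x2⟩, x3⟩ =>
    C.mem_B_of_nbrs xS.1 fun b hb => by
      rcases hall b hb with rfl | rfl | rfl
      · exact x1
      · exact x2
      · exact x3
  have mem5 : ∀ x ∈ H₅, x ∈ C.B m 3 := by
    intro x hx
    have hx2 := mem4 x hx.1
    have xa := C.fix_other_fibre h he hm hma hx2 hq hqm hx.2
    refine C.mem_B_of_nbrs hx.1.1.1.1.1.1 fun b hb => ?_
    obtain ⟨W, hW, hWa, -⟩ := C.exists_prod h he hm hma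
    by_cases x2 : x ∈ C.B a₂ 2
    · rcases hall b hb with rfl | rfl | rfl
      · exact xa
      · exact x2
      · exact C.three_delta h he hm hma h2 h3 n2 n31 n32 hx2 xa x2
    exfalso
    obtain ⟨q₂, hq₂, hq₂m⟩ := C.exists_other (C.symm h2)
    obtain ⟨q₃, hq₃, hq₃m⟩ := C.exists_other (C.symm h3)
    have x3 : x ∉ C.B a₃ 2 := fun h' =>
      x2 (C.three_delta h he hm hma h3 h2 n31 n2 n32.symm hx2 xa h')
    obtain ⟨r₁, k1, l1⟩ := C.exists_other (C.symm hma)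
    obtain ⟨W2, hW2, hW2a, -⟩ := C.exists_prod h he hm h2
    have key : ∀ {b p : V} {y z : G}, C.Adj m b → C.Adj b p → p ≠ m → y ∈ C.B m 2 → z ∈ C.B m 2 →
        y ∉ C.B b 2 → z ∉ C.B b 2 → y * z ∈ C.B b 2 := by
      intro b p y z hb hp hpm hy hz hyb hzb
      have yp : y • p = p := C.mem_B.1 hy p (C.adj_ball (C.adj_mem_ball_one hb) hp)
      have zp : z • p = p := C.mem_B.1 hz p (C.adj_ball (C.adj_mem_ball_one hb) hp)
      have yb : y • b = b := C.mem_B.1 hy b (C.ball_mono (by omega) (C.adj_mem_ball_one hb))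
      have zb : z • b = b := C.mem_B.1 hz b (C.ball_mono (by omega) (C.adj_mem_ball_one hb))
      obtain ⟨d, hd, hdb⟩ := C.exists_other (C.symm hp)
      obtain ⟨d', hd', hd'b, hd'd, -⟩ := C.exists_third (C.symm hp) hd hdb.symm
      have zm : z • d ≠ d := fun e' => hzb (C.fix_other_fibre h he hm hb hz hp hpm
        (C.B_one_of_fix zp (C.symm hp) hd hdb.symm zb e'))
      have ym : y • d' ≠ d' := fun e' => hyb (C.fix_other_fibre h he hm hb hy hp hpm
        (C.B_one_of_fix yp (C.symm hp) hd' hd'b.symm yb e'))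
      refine C.fix_other_fibre h he hm hb (mul_mem hy hz) hp hpm
        (C.B_one_of_fix (by rw [mul_smul, zp, yp]) (C.symm hp) hd hdb.symm
          (by rw [mul_smul, zb, yb]) ?_)
      rw [mul_smul, C.moved_eq_third zp zb (C.symm hp) hd hd' hdb.symm hd'b.symm hd'd.symm zm,
        C.moved_eq_third yp yb (C.symm hp) hd' hd hd'b.symm hdb.symm hd'd ym]
    obtain ⟨eW, eWa⟩ := C.prod_facts h he hm hma h2 h3 n2.symm n31.symm n32.symm k1 hq₂ hq₃ l1
      hq₂m hq₃m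
    set W₀ := C.c r₁ * C.c q₂ * C.c q₃
    have both : W₀ ∉ C.B a₂ 2 ∧ W₀ ∉ C.B a₃ 2 := by
      have r2 := C.prod_facts h he hm h2 h3 hma n32.symm n2 n31 hq₂ hq₃ k1 hq₂m hq₃m l1
      have r3 := C.prod_facts h he hm h3 hma h2 n31 n32 n2.symm hq₃ k1 hq₂ hq₃m l1 hq₂m
      have P1 := C.P_of_adj k1 (C.notP_of_adj hma hm)
      have P3 := C.P_of_adj hq₃ (C.notP_of_adj h3 hm)
      have cf : ∀ {s b p : V}, C.Adj m s → C.Adj s p → C.Adj m b → C.c p • b = b :=
        fun hs hp hb => h.fix (C.P_of_adj hp (C.notP_of_adj hs hm))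
          (C.adj_ball (C.adj_ball (C.adj_mem_ball_one (C.symm hp)) (C.symm hs)) hb)
      constructor
      · intro hW'
        have := C.conj_mem_B (C.c r₁) hW'
        rw [cf hma k1 h2, C.c_inv P1] at this
        apply r2.2
        convert this using 1
        simp only [W₀, ← mul_assoc, C.c_sq P1, one_mul]
      · intro hW'
        have := C.conj_mem_B (C.c q₃) hW'
        rw [cf h3 hq₃ h3, C.c_inv P3] at this
        apply r3.2
        convert this using 1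
        simp only [W₀, mul_assoc, C.c_sq P3, mul_one]
    have y2 := key h2 hq₂ hq₂m hx2 eW x2 both.1
    have y3 := key h3 hq₃ hq₃m hx2 eW x3 both.2
    have y1 := C.three_delta h he hm h2 h3 hma n32 n2.symm n31.symm (mul_mem hx2 eW) y2 y3
    have := mul_mem (inv_mem xa) y1
    rw [inv_mul_cancel_left] at this
    exact eWa this
  have c6 : Nat.card H₅ ≤ 2 * Nat.card H₆ :=
    C.card_inter_B (H := H₅) hma (fun x hx => hx.1.1.1.1.1) (C.symm he') fun x hx =>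
      ⟨C.mem_B.1 (mem5 x hx) e (C.adj_ball (C.adj_ball (C.adj_mem_ball_one hma) hq) he'),
        C.mem_B.1 (mem5 x hx) q (C.ball_mono (by omega) (C.adj_ball (C.adj_mem_ball_one hma) hq))⟩
  have c7 : H₆ ≤ ⊥ := by
    rw [← C.B_four_bot h he hm hma]
    intro x hx
    have hx3 := mem5 x hx.1
    have hxa := C.eps_branch h he hm hma hq hqm he' hea hf hfq hx3 (C.fix_nbr hx.2 hf)
    refine C.mem_B_of_nbrs hx.1.1.1.1.1.1.1 fun b hb => ?_
    by_cases x2 : x ∈ C.B a₂ 3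
    · rcases hall b hb with rfl | rfl | rfl
      · exact hxa
      · exact x2
      · exact C.three_eps h he hm hma h2 h3 n2 n31 n32 hx3 hxa x2
    exfalso
    have x3 : x ∉ C.B a₃ 3 := fun h' =>
      x2 (C.three_eps h he hm hma h3 h2 n31 n2 n32.symm hx3 hxa h')
    have cB3 : C.c m ∈ C.B m 3 := Rad.mem_B C h hm (C.self_mem_ball m 0) (by omega)
    have key : ∀ {b : V}, C.Adj m b → x ∉ C.B b 3 → x * C.c m ∈ C.B b 3 := by
      intro b hb hxb
      obtain ⟨p, hp, hpm⟩ := C.exists_other (C.symm hb)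
      obtain ⟨d, hd, hdb⟩ := C.exists_other (C.symm hp)
      obtain ⟨r, hr, hrp⟩ := C.exists_other (C.symm hd)
      have dmem : d ∈ C.ball m 3 := C.adj_ball (C.adj_ball (C.adj_mem_ball_one hb) hp) hd
      have pmem : p ∈ C.ball m 3 :=
        C.ball_mono (by omega) (C.adj_ball (C.adj_mem_ball_one hb) hp)
      refine C.eps_branch h he hm hb hp hpm hd hdb hr hrp (mul_mem hx3 cB3) ?_
      have e1 := C.same_image (C.mem_B.1 cB3 d dmem) (C.mem_B.1 hx3 d dmem)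
        (C.mem_B.1 cB3 p pmem) (C.mem_B.1 hx3 p pmem) (C.symm hd) hr (Ne.symm hrp)
        (C.exact_four he hm hb hp hd hr hpm hdb hrp)
        (fun e' => hxb (C.eps_branch h he hm hb hp hpm hd hdb hr hrp hx3 e'))
      rw [mul_smul, e1]
      exact C.twice_image (C.mem_B.1 hx3 d dmem) (C.mem_B.1 hx3 p pmem) (C.symm hd) hr
        (Ne.symm hrp)
    have y1 := C.three_eps h he hm h2 h3 hma n32 n2.symm n31.symm (mul_mem hx3 cB3)
      (key h2 x2) (key h3 x3)
    have := mul_mem (inv_mem hxa) y1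
    rw [inv_mul_cancel_left] at this
    exact C.eps_move h he hm hma this
  rw [le_bot_iff.1 c7, Subgroup.card_bot] at c6
  omega

end Ctx

end Cfsg.Agent.Class49.Trivalent
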