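import Cfsg.Agent.Class49.Trivalent.Critical
import Cfsg.Agent.Class49.Trivalent.Small

/-!
Even radius: a bend of a path of length four forces the natural module.
-/

set_option autoImplicit false
set_option linter.unusedSectionVars false
set_option linter.unusedVariables false
set_option linter.unusedSimpArgs false

open Subgroup MulAction

namespace Cfsg.Agent.Class49.Trivalent.Ctx

variable {G : Type*} {V : Type*} [Group G] [MulAction G V] (C : Ctx G V) {R : ℕ}

/-- Fixing the neighbours of two vertices of a path never bends it. -/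
def Stuck : Prop :=
  ∀ a m b, C.P m → C.Adj m a → C.Adj m b → a ≠ b → ∀ x ∈ C.B a 1, x ∈ C.B m 1 → x ∈ C.B b 1

/-- Any such path can be bent. -/
def Flip : Prop :=
  ∀ a m b w, C.P m → C.Adj m a → C.Adj m b → a ≠ b → C.Adj b w → w ≠ m →
    ∃ x, x ∈ C.B a 1 ∧ x ∈ C.B m 1 ∧ x • w ≠ w

theorem stuck_or_flip : C.Stuck ∨ C.Flip := by
  rw [or_iff_not_imp_left]
  intro hns
  simp only [Stuck, not_forall] at hns
  obtain ⟨a, m, b, hm, ha, hb, hab, x, xa, xm, xb⟩ := hns
  intro a' m' b' w hm' ha' hb' hab' hw hwm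
  obtain ⟨g, ga, gm, gb⟩ := C.trans2 (C.symm ha) hb hab.symm (C.symm ha') hb' hab'.symm
    (iff_of_false (C.notP_of_adj ha hm) (C.notP_of_adj ha' hm'))
  have ya : g * x * g⁻¹ ∈ C.B a' 1 := ga ▸ C.conj_mem_B g xa
  have ym : g * x * g⁻¹ ∈ C.B m' 1 := gm ▸ C.conj_mem_B g xm
  refine ⟨_, ya, ym, fun e => xb ?_⟩
  have yb : g * x * g⁻¹ ∈ C.B b' 1 := C.B_one_of_fix (C.fix_nbr ym hb') (C.symm hb') hw hwm.symm
    (C.mem_B.1 ym _ (C.self_mem_ball _ _)) e
  have := C.conj_mem_B g⁻¹ yb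
  rw [← gb, inv_smul_smul] at this
  simpa [mul_assoc] using this

/-- The commutator of the involutions at the ends of a window. -/
def U (R : ℕ) (w : ℕ → V) : G :=
  C.c (w 0) * C.c (w (R + 2)) * C.c (w 0) * C.c (w (R + 2))

theorem step_three (hf : C.Flip) {p : V} (hp : C.P p) : C.Step 3 := by
  obtain ⟨a, ha⟩ := C.exists_adj p
  obtain ⟨m, hm, hmp⟩ := C.exists_other (C.symm ha)
  obtain ⟨b, hb, hba⟩ := C.exists_other (C.symm hm)
  obtain ⟨w, hw, hwm⟩ := C.exists_other (C.symm hb)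
  obtain ⟨x, xa, xm, xw⟩ := hf a m b w (C.P_far hp ha hm) (C.symm hm) hb hba.symm hw hwm
  have hwalk := ((C.walk_two ha hm hmp).snoc C.toTri (z := b) (by simpa using hb)
    (Or.inr (by simpa using hba))).snoc C.toTri (z := w) (by simpa using hw)
    (Or.inr (by simpa using hwm))
  refine ⟨_, x, hwalk, by simpa using hp, fun i hi => ?_, by simpa using xw⟩
  rcases (show i = 0 ∨ i = 1 ∨ i = 2 ∨ i = 3 by omega) with rfl | rfl | rfl | rfl
  · simpa using C.fix_nbr xa (C.symm ha)
  · simpa using C.mem_B.1 xa _ (C.self_mem_ball _ _)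
  · simpa using C.fix_nbr xa hm
  · simpa using C.fix_nbr xm hb

/-- A path `n, b, m, b', n'` as a function. -/
def path5 (n b m b' n' : V) : ℕ → V := fun i =>
  if i = 0 then n else if i = 1 then b else if i = 2 then m else if i = 3 then b' else n'

theorem walk_path5 {n b m b' n' : V} (h1 : C.Adj n b) (h2 : C.Adj b m) (h3 : C.Adj m b')
    (h4 : C.Adj b' n') (e1 : m ≠ n) (e2 : b' ≠ b) (e3 : n' ≠ m) :
    C.Walk (path5 n b m b' n') 4 := by
  refine ⟨fun i hi => ?_, fun i hi => ?_⟩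
  · rcases (show i = 0 ∨ i = 1 ∨ i = 2 ∨ i = 3 by omega) with rfl | rfl | rfl | rfl <;>
      simp [path5, h1, h2, h3, h4]
  · rcases (show i = 0 ∨ i = 1 ∨ i = 2 by omega) with rfl | rfl | rfl <;>
      simp [path5, e1, e2, e3]

section

variable (h : C.Rad R) (hR : 6 ≤ R) (hev : R % 2 = 0)
include h hR hev

theorem Crit.lifts {w : ℕ → V} (hc : C.Crit R w) :
    C.Lift (w 2) (w 3) (C.U R w) ∧ C.Lift (w R) (w (R - 1)) (C.U R w) :=
  C.even_formula h (by omega) hev hc.1 hc.2.1 (Crit.move_right C h hR hev hc)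
    (Crit.move_left C h hR hev hc)

/-- The origin of a line commutes with the commutator of the following window. -/
theorem Line.comm_U {k : ℕ} {L : ℕ → V} (hL : C.Line R k L) (hk : 1 ≤ k) :
    Commute (C.c (L 0)) (C.U R (fun i => L (2 + i))) := by
  have hw := Line.walk C h hR hev hL
  have P0 := Line.even_P C h hR hev hL (i := 0) (by omega) rfl
  have P2 := Line.even_P C h hR hev hL (i := 2) (by omega) rfl
  have P4 := Line.even_P C h hR hev hL (i := R + 4) (by omega) (by omega)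
  have hz : C.c (L (R + 4)) • L 2 ∈ C.ball (L 0) R := by
    have h1 : L 4 ∈ C.ball (L 0) 4 :=
      Tri.Walk.near C.toTri hw (by omega) (by omega) (by omega) (by omega)
    have h2 := C.smul_mem_ball (C.c (L (R + 4)))
      (Tri.Walk.near C.toTri hw (i := 4) (j := 2) (r := 2) (by omega) (by omega) (by omega) (by omega))
    rw [Line.walk_fix C h hR hev hL (by omega) (by omega) (by omega) (by omega) (by omega)] at h2
    exact C.ball_mono (show 4 + 2 ≤ R by omega) (C.ball_trans h1 h2)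
  have e : C.U R (fun i => L (2 + i)) = C.c (L 2) * C.c (C.c (L (R + 4)) • L 2) := by
    show C.c (L (2 + 0)) * C.c (L (2 + (R + 2))) * C.c (L (2 + 0)) * C.c (L (2 + (R + 2))) = _
    rw [← C.c_conj P4 P2, show 2 + (R + 2) = R + 4 by omega]
    simp only [Nat.add_zero, mul_assoc]
  rw [e]
  exact (Rad.comm_walk C h hw P0 P2 (by omega) (by omega) (by omega) (by omega)).mul_right
    (Rad.comm_ball C h P0 ((C.P_smul _ _).2 P2) hz)

/-- Bends make the module natural. -/
theorem natural_of_flip (hf : C.Flip) : C.Natural := by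
  obtain ⟨L, hL⟩ := C.exists_line h hR hev 1
  have P0 := Line.even_P C h hR hev hL (i := 0) (by omega) rfl
  have Pm := Line.even_P C h hR hev hL (i := R) (by omega) hev
  have Pn := Line.even_P C h hR hev hL (i := R + 2) (by omega) (by omega)
  have hw := Line.walk C h hR hev hL
  have hu := (Crit.lifts C h hR hev (hL 1 le_rfl)).2
  simp only [show 2 * 1 + R = R + 2 by omega, show 2 * 1 + (R - 1) = R + 1 by omega,
    show (2 : ℕ) * 1 = 2 by omega] at hu
  set u := C.U R (fun i => L (2 + i))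
  set x := C.c (L 0)
  have xu : Commute x u := Line.comm_U C h hR hev hL le_rfl
  have xm : x • L R = L R :=
    Line.walk_fix C h hR hev hL (by omega) (by omega) (by omega) (by omega) rfl
  have xb : x • L (R + 1) ≠ L (R + 1) :=
    Line.right C h hR hev hL (by omega) (by omega) (by omega)
  have hu' := Lift.smul C Pn hu x
  rw [xu.eq, mul_inv_cancel_right] at hu'
  have h12 : C.Adj (L (R + 1)) (L (R + 2)) := hw.1 (R + 1) (by omega)
  have hwalk : C.Walk (path5 (L (R + 2)) (L (R + 1)) (L R) (x • L (R + 1)) (x • L (R + 2))) 4 :=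
    C.walk_path5 (C.symm h12) (C.symm (hw.1 R (by omega))) (C.adj_fix xm (hw.1 R (by omega)))
      (C.adj_smul x h12) (hw.2 R (by omega)).symm xb
      (fun e => hw.2 R (by omega) (MulAction.injective x (e.trans xm.symm)))
  have common : ∀ {p a m b q : V}, C.P p → C.Adj p a → C.Adj a m → C.Adj m b → C.Adj b q →
      m ≠ p → b ≠ a → q ≠ m → ∃ M, C.Lift p a M ∧ C.Lift q b M := by
    intro p a m b q hp h1 h2 h3 h4 e1 e2 e3
    obtain ⟨g, hg⟩ := C.conj_walk (k := 4) (fun j h1 h2 => by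
        rcases (show j = 1 ∨ j = 2 ∨ j = 3 by omega) with rfl | rfl | rfl
        · exact C.step_one hp
        · exact C.step_two hp
        · exact C.step_three hf hp)
      hwalk (C.walk_path5 h1 h2 h3 h4 e1 e2 e3) (by simpa [path5] using Pn)
      (by simpa [path5] using hp)
    have g0 := hg 0 (by omega)
    have g1 := hg 1 (by omega)
    have g3 := hg 3 (by omega)
    have g4 := hg 4 (by omega)
    simp [path5] at g0 g1 g3 g4
    refine ⟨g * u * g⁻¹, ?_, ?_⟩
    · have := Lift.smul C Pn hu g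
      rwa [g0, g1] at this
    · have := Lift.smul C ((C.P_smul x _).2 Pn) hu' g
      rwa [g3, g4] at this
  refine C.natural_of_congr h (by omega) P0 fun b n n' M M' nb hn hn' hne hM hM' => ?_
  obtain ⟨m, hm, hmn, hmn', -⟩ := C.exists_third hn hn' hne.symm
  have Pn₁ := C.P_of_adj hn nb
  have Pn₂ := C.P_of_adj hn' nb
  have Pm₁ := C.P_of_adj hm nb
  obtain ⟨b', hb', hb'b⟩ := C.exists_other (C.symm hm)
  obtain ⟨b'', hb'', hb''b, hb''b', -⟩ := C.exists_third (C.symm hm) hb' hb'b.symm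
  obtain ⟨q', hq', hq'm⟩ := C.exists_other (C.symm hb')
  obtain ⟨q'', hq'', hq''m⟩ := C.exists_other (C.symm hb'')
  have s1 : C.c n * C.c n' = C.c m := C.star h (by omega) nb hn hn' hm hne.symm hmn.symm hmn'.symm
  have s2 : C.c n * C.c m = C.c n' := C.star h (by omega) nb hn hm hn' hmn.symm hne.symm hmn'
  have s3 : C.c n' * C.c m = C.c n := C.star h (by omega) nb hn' hm hn hmn'.symm hne hmn
  have near : ∀ {p q}, C.Adj b p → C.Adj b q → Commute (C.c p) (C.c q) := fun hp hq =>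
    Rad.comm_ball C h (C.P_of_adj hp nb) (C.P_of_adj hq nb)
      (C.ball_mono (show 2 ≤ R by omega) (C.adj_ball (C.adj_mem_ball_one (C.symm hp)) hq))
  have s1' : C.c n' * C.c n = C.c m := (near hn' hn).eq.trans s1
  have s2' : C.c m * C.c n = C.c n' := (near hm hn).eq.trans s2
  have s3' : C.c m * C.c n' = C.c n := (near hm hn').eq.trans s3
  let Z : Set G := {z | z = 1 ∨ z = C.c n ∨ z = C.c n' ∨ z = C.c m}
  have key : ∀ {e q}, C.Adj m e → e ≠ b → C.Adj e q → q ≠ m →
      ∃ z ∈ Z, M' = M * z ∨ M' = M * z * C.c q := by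
    intro e q he heb hq hqm
    have Pq := C.P_far Pm₁ he hq
    obtain ⟨M₁, a₁, b₁⟩ := common Pn₁ (C.symm hn) hm he hq hmn heb hqm
    obtain ⟨M₂, a₂, b₂⟩ := common Pn₂ (C.symm hn') hm he hq hmn' heb hqm
    have cq : Commute (C.c n') (C.c q) :=
      C.comm_two h (by omega) Pm₁ (C.symm hm) hn' he hq
    rcases C.lift_unique h (by omega) Pn₁ (C.symm hn) hM a₁ with e1 | e1 <;>
      rcases C.lift_unique h (by omega) Pq (C.symm hq) b₁ b₂ with e2 | e2 <;>
      rcases C.lift_unique h (by omega) Pn₂ (C.symm hn') a₂ hM' with e3 | e3 <;>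
      rw [e3, e2, e1]
    · exact ⟨1, Or.inl rfl, Or.inl (mul_one M).symm⟩
    · exact ⟨C.c n', Or.inr (Or.inr (Or.inl rfl)), Or.inl rfl⟩
    · exact ⟨1, Or.inl rfl, Or.inr (by rw [mul_one])⟩
    · exact ⟨C.c n', Or.inr (Or.inr (Or.inl rfl)), Or.inr (by rw [mul_assoc, ← cq.eq, mul_assoc])⟩
    · exact ⟨C.c n, Or.inr (Or.inl rfl), Or.inl rfl⟩
    · exact ⟨C.c m, Or.inr (Or.inr (Or.inr rfl)), Or.inl (by rw [mul_assoc, s1])⟩
    · exact ⟨C.c n, Or.inr (Or.inl rfl), Or.inr rfl⟩
    · exact ⟨C.c m, Or.inr (Or.inr (Or.inr rfl)), Or.inr (by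
        rw [mul_assoc (M * C.c n), ← cq.eq, ← mul_assoc, mul_assoc M, s1])⟩
  have fin : ∀ z ∈ Z, M' = M * z →
      M' = M ∨ M' = M * C.c n ∨ M' = M * C.c n' ∨ M' = M * (C.c n * C.c n') := by
    intro z hz e
    rcases hz with rfl | rfl | rfl | rfl
    · exact Or.inl (by rw [e, mul_one])
    · exact Or.inr (Or.inl e)
    · exact Or.inr (Or.inr (Or.inl e))
    · exact Or.inr (Or.inr (Or.inr (by rw [s1, e])))
  obtain ⟨z, hz, e | e⟩ := key hb' hb'b hq' hq'm
  · exact fin z hz e
  obtain ⟨z', hz', e' | e'⟩ := key hb'' hb''b hq'' hq''m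
  · exact fin z' hz' e'
  rw [e, mul_assoc, mul_assoc M, mul_right_inj] at e'
  have Pq'' := C.P_far Pm₁ hb'' hq''
  have hlift : C.Lift m b (C.c q' * C.c q'') :=
    ⟨b', b'', q', q'', hb', hb'', hb'b, hb''b, hb''b', hq', hq'm, hq'', hq''m, rfl⟩
  have ee : C.c q' * C.c q'' = z⁻¹ * z' := by
    rw [eq_inv_mul_of_mul_eq e', mul_assoc, mul_assoc, C.c_sq Pq'', mul_one]
  have hnat := C.natural_of h (by omega) Pm₁ (C.symm hm) hn hmn.symm hlift
  suffices H : C.c q' * C.c q'' = 1 ∨ C.c q' * C.c q'' = C.c m ∨ C.c q' * C.c q'' = C.c n ∨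
      C.c q' * C.c q'' = C.c n * C.c m by
    obtain h1 := hnat H
    rcases h1 n b m Pn₁ (C.symm hn) hm hmn M hM with e1 | e1 <;>
      rcases h1 n' b m Pn₂ (C.symm hn') hm hmn' M' hM' with e2 | e2
    · exact Or.inl (e2.trans e1.symm)
    · exact Or.inr (Or.inr (Or.inl (by rw [e2, e1])))
    · exact Or.inr (Or.inl (by rw [e2, e1, mul_assoc, C.c_sq Pn₁, mul_one]))
    · exact Or.inr (Or.inr (Or.inr (by
        rw [e2, e1, mul_assoc, ← mul_assoc (C.c n), C.c_sq Pn₁, one_mul])))
  rw [ee, s2]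
  rcases hz with rfl | rfl | rfl | rfl <;> rcases hz' with rfl | rfl | rfl | rfl <;>
    simp [C.c_inv Pn₁, C.c_inv Pn₂, C.c_inv Pm₁, C.c_sq Pn₁, C.c_sq Pn₂, C.c_sq Pm₁,
      s1, s2, s3, s1', s2', s3']

/-- Natural modules do not occur with radius at least 8. -/
theorem not_natural (hN : C.Natural) (hR8 : 8 ≤ R) : False := by
  obtain ⟨L, hL⟩ := C.exists_line h hR hev 3
  have hw := Line.walk C h hR hev hL
  have Pi : ∀ i, i ≤ 2 * 3 + R + 2 → i % 2 = 0 → C.P (L i) := fun i => Line.even_P C h hR hev hL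
  have cm : ∀ i j, i % 2 = 0 → j % 2 = 0 → i ≤ 2 * 3 + R + 2 → j ≤ 2 * 3 + R + 2 → i ≤ j + R →
      j ≤ i + R → Commute (C.c (L i)) (C.c (L j)) := fun i j hi hj h1 h2 h3 h4 =>
    Rad.comm_walk C h hw (Pi i h1 hi) (Pi j h2 hj) h1 h2 h3 h4
  obtain ⟨l1, l2⟩ := Crit.lifts C h hR hev (hL 1 (by omega))
  simp only [show (2 : ℕ) * 1 + 2 = 4 by omega, show (2 : ℕ) * 1 + 3 = 5 by omega,
    show 2 * 1 + R = R + 2 by omega, show 2 * 1 + (R - 1) = R + 1 by omega] at l1 l2
  have e1 := hN (L 4) (L 5) (L 6) (Pi 4 (by omega) rfl) (hw.1 4 (by omega)) (hw.1 5 (by omega))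
    (hw.2 4 (by omega)) _ l1
  have e2 := hN (L (R + 2)) (L (R + 1)) (L R) (Pi _ (by omega) (by omega))
    (C.symm (hw.1 (R + 1) (by omega))) (C.symm (hw.1 R (by omega))) (hw.2 R (by omega)).symm _ l2
  set u := C.U R (fun i => L (2 * 1 + i))
  have xu : Commute (C.c (L 0)) u := by
    have c6 := cm 0 6 rfl rfl (by omega) (by omega) (by omega) (by omega)
    rcases e1 with e | e <;> rw [e]
    · exact c6
    · exact c6.mul_right (cm 0 4 rfl rfl (by omega) (by omega) (by omega) (by omega))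
  have eR : u = C.c (L R) := by
    refine e2.resolve_right fun e => Line.ncomm C h hR hev hL (i := 0) (n := R + 2) rfl (by omega)
      (by omega) ?_
    have he : C.c (L (R + 2)) = C.c (L R) * u := by
      rw [e, ← mul_assoc, C.c_sq (Pi R (by omega) hev), one_mul]
    rw [he]
    exact (cm 0 R rfl hev (by omega) (by omega) (by omega) (by omega)).mul_right xu
  have e6 : u = C.c (L 6) := by
    refine e1.resolve_right fun e => ?_
    have hz : Commute (C.c (L (R + 6))) u := by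
      rw [eR]; exact cm _ _ (by omega) hev (by omega) (by omega) (by omega) (by omega)
    have he : C.c (L 4) = C.c (L 6) * u := by
      rw [e, ← mul_assoc, C.c_sq (Pi 6 (by omega) rfl), one_mul]
    refine Line.ncomm C h hR hev hL (i := 4) (n := R + 6) rfl (by omega) (by omega) ?_
    rw [he]
    exact ((cm _ 6 (by omega) rfl (by omega) (by omega) (by omega) (by omega)).mul_right hz).symm
  refine Line.ncomm C h hR hev hL (i := 6) (n := R + 8) rfl (by omega) (by omega) ?_
  rw [← e6, eR]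
  exact cm _ _ hev (by omega) (by omega) (by omega) (by omega) (by omega)

end

end Cfsg.Agent.Class49.Trivalent.Ctx
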