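import Cfsg.Agent.Class49.Trivalent.Stuck

/-!
Radius six does not occur.
-/

set_option autoImplicit false
set_option linter.unusedSectionVars false
set_option linter.unusedVariables false
set_option linter.unusedSimpArgs false

open Subgroup MulAction

namespace Cfsg.Agent.Class49.Trivalent.Ctx

variable {G : Type*} {V : Type*} [Group G] [MulAction G V] (C : Ctx G V)

section

variable (h : C.Rad 6)
include h

theorem six_U {w : ℕ → V} (hc : C.Crit 6 w) (hN : C.Natural) : C.U 6 w = C.c (w 4) := by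
  obtain ⟨hw, h0, hn⟩ := id hc
  have P : ∀ i, i ≤ 8 → i % 2 = 0 → C.P (w i) := fun i hi he =>
    Crit.P_even C h le_rfl rfl hc hi he
  obtain ⟨l1, l2⟩ := Crit.lifts C h le_rfl rfl hc
  have e1 := hN (w 2) (w 3) (w 4) (P 2 (by omega) rfl) (hw.1 2 (by omega)) (hw.1 3 (by omega))
    (hw.2 2 (by omega)) _ l1
  have e2 := hN (w 6) (w 5) (w 4) (P 6 (by omega) rfl) (C.symm (hw.1 5 (by omega)))
    (C.symm (hw.1 4 (by omega))) (hw.2 4 (by omega)).symm _ l2
  refine e1.resolve_right fun e => ?_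
  rcases e2 with e' | e' <;> rw [e] at e'
  · exact C.c_ne (P 2 (by omega) rfl) (mul_eq_left.1 e')
  · exact (C.branch_ne h (by omega) (P 4 (by omega) rfl) (C.symm (hw.1 3 (by omega)))
      (hw.1 4 (by omega)) (hw.2 3 (by omega)).symm (C.symm (hw.1 2 (by omega)))
      (hw.2 2 (by omega)).symm (hw.1 5 (by omega)) (hw.2 4 (by omega))).1 (mul_left_cancel e')

/-- The walk joining `w 10` to its image under the involution of `w 0`. -/
def turn (w : ℕ → V) : ℕ → V := fun i =>
  if i ≤ 4 then w (10 - i) else C.c (w 0) • w (i + 2)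

theorem turn_walk {w : ℕ → V} (hL : C.Line 6 2 w) : C.Walk (C.turn w) 8 := by
  have hw := Line.walk C h le_rfl rfl hL
  have f0 : ∀ i, i ≤ 6 → C.c (w 0) • w i = w i := fun i hi =>
    Line.walk_fix C h le_rfl rfl hL (by omega) (by omega) (by omega) (by omega) rfl
  refine ⟨fun i hi => ?_, fun i hi => ?_⟩
  · rcases Nat.lt_or_ge i 4 with hi4 | hi4
    · have := hw.1 (10 - (i + 1)) (by omega)
      rw [show 10 - (i + 1) + 1 = 10 - i by omega] at this
      simpa [turn, show i ≤ 4 by omega, show i + 1 ≤ 4 by omega] using C.symm this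
    · by_cases e : i = 4
      · subst e
        simpa [turn, f0 6 le_rfl] using C.adj_smul (C.c (w 0)) (hw.1 6 (by omega))
      · simpa [turn, show ¬ i ≤ 4 by omega, show ¬ i + 1 ≤ 4 by omega] using
          C.adj_smul (C.c (w 0)) (hw.1 (i + 2) (by omega))
  · rcases Nat.lt_or_ge i 3 with hi3 | hi3
    · have := hw.2 (10 - (i + 2)) (by omega)
      rw [show 10 - (i + 2) + 2 = 10 - i by omega] at this
      simpa [turn, show i ≤ 4 by omega, show i + 2 ≤ 4 by omega] using this.symm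
    · rcases (show i = 3 ∨ i = 4 ∨ 5 ≤ i by omega) with rfl | rfl | h5
      · simpa [turn] using Line.right C h le_rfl rfl hL (i := 0) rfl (by omega)
          (show 7 = 0 + 6 + 1 by rfl)
      · have := hw.2 6 (by omega)
        simp [turn]
        intro e
        exact this (MulAction.injective (C.c (w 0)) (e.trans (f0 6 le_rfl).symm))
      · simp [turn, show ¬ i ≤ 4 by omega, show ¬ i + 2 ≤ 4 by omega]
        exact hw.2 (i + 2) (by omega)

theorem turn_crit {w : ℕ → V} (hL : C.Line 6 2 w)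
    (hm : C.c (w 10) • C.c (w 0) • w 9 ≠ C.c (w 0) • w 9) :
    C.Crit 6 (C.turn w) ∧ C.U 6 (C.turn w) = (C.c (w 10) * C.c (w 0)) ^ 4 := by
  have P0 := Line.even_P C h le_rfl rfl hL (i := 0) (by omega) rfl
  have P10 := Line.even_P C h le_rfl rfl hL (i := 10) (by omega) rfl
  refine ⟨C.crit_of_moved h le_rfl rfl (C.turn_walk h hL) (by simpa [turn] using P10)
    (by simpa [turn] using hm), ?_⟩
  simp [U, turn, ← C.c_conj P0 P10, pow_succ, mul_assoc]

/-- The two bends of a line at its middle agree. -/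
theorem turn_meet {w : ℕ → V} (hL : C.Line 6 2 w) :
    C.c (w 12) • w 5 = C.c (w 0) • w 7 ∧ C.c (w 0) • w 7 ≠ w 5 ∧ C.c (w 0) • w 7 ≠ w 7 := by
  have hw := Line.walk C h le_rfl rfl hL
  have wf : ∀ i j, i % 2 = 0 → i ≤ 12 → j ≤ 12 → i ≤ j + 6 → j ≤ i + 6 →
      C.c (w i) • w j = w j := fun i j h1 h2 h3 h4 h5 =>
    Line.walk_fix C h le_rfl rfl hL h4 h5 h2 h3 h1
  have e0 : C.c (w 0) • w 5 = w 5 := wf 0 5 rfl (by omega) (by omega) (by omega) (by omega)
  have m0 := Line.right C h le_rfl rfl hL (i := 0) rfl (by omega) (show 7 = 0 + 6 + 1 from rfl)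
  have m12 := Line.left C h le_rfl rfl hL (i := 4) rfl (by omega) (show 12 = 4 + 6 + 2 from rfl)
  have a5 : C.Adj (w 6) (w 5) := C.symm (hw.1 5 (by omega))
  have a7 : C.Adj (w 6) (w 7) := hw.1 6 (by omega)
  have ne57 : w 5 ≠ w 7 := (hw.2 5 (by omega)).symm
  have f6 := wf 0 6 rfl (by omega) (by omega) (by omega) (by omega)
  have ne1 : C.c (w 0) • w 7 ≠ w 5 := fun e =>
    ne57 (MulAction.injective (C.c (w 0)) (e0.trans e.symm))
  exact ⟨C.moved_eq_third (wf 12 6 rfl le_rfl (by omega) (by omega) (by omega))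
    (wf 12 7 rfl le_rfl (by omega) (by omega) (by omega)) a7 a5 (C.adj_fix f6 a7) ne57.symm
    m0.symm ne1.symm m12, ne1, m0⟩

theorem six_natural (hN : C.Natural) (hf : C.Flip) {w : ℕ → V} (hL : C.Line 6 2 w) :
    (C.c (w 10) * C.c (w 0)) ^ 4 = C.c (w 6) := by
  suffices hm : C.c (w 10) • C.c (w 0) • w 9 ≠ C.c (w 0) • w 9 by
    obtain ⟨hc, hU⟩ := C.turn_crit h hL hm
    rw [← hU, C.six_U h hc hN]
    simp [turn]
  have hw := Line.walk C h le_rfl rfl hL
  have P : ∀ i, i ≤ 12 → i % 2 = 0 → C.P (w i) := fun i hi he =>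
    Line.even_P C h le_rfl rfl hL hi he
  have wf : ∀ i j, i % 2 = 0 → i ≤ 12 → j ≤ 12 → i ≤ j + 6 → j ≤ i + 6 →
      C.c (w i) • w j = w j := fun i j h1 h2 h3 h4 h5 =>
    Line.walk_fix C h le_rfl rfl hL h4 h5 h2 h3 h1
  obtain ⟨he, he5, he7⟩ := C.turn_meet h hL
  set e := C.c (w 0) • w 7
  have f6 := wf 0 6 rfl (by omega) (by omega) (by omega) (by omega)
  have ae : C.Adj (w 6) e := C.adj_fix f6 (hw.1 6 (by omega))
  set g := C.c (w 12)
  set y := C.c (w 10)
  set e' := C.c (w 0) • w 8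
  set e'' := C.c (w 0) • w 9
  have ge' : C.Adj e (g • w 4) := he ▸ C.adj_smul g (C.symm (hw.1 4 (by omega)))
  have ge'' : C.Adj (g • w 4) (g • w 3) := C.adj_smul g (C.symm (hw.1 3 (by omega)))
  have gne : g • w 4 ≠ w 6 := fun e1 => hw.2 4 (by omega) (MulAction.injective g
    ((wf 12 6 rfl le_rfl (by omega) (by omega) (by omega)).trans e1.symm))
  have gne' : g • w 3 ≠ e := fun e1 => hw.2 3 (by omega) (MulAction.injective g (he.trans e1.symm))
  have ye : ∀ {j}, j ≤ 12 → 4 ≤ j → y • g • w j = g • w j := fun {j} hj hj' => by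
    rw [C.smul_eq_of_fix (P 10 (by omega) rfl) (wf 12 10 rfl le_rfl (by omega) (by omega) (by omega)),
      wf 10 j rfl (by omega) hj (by omega) (by omega)]
  have ym : y • g • w 3 ≠ g • w 3 := fun e1 => by
    rw [C.smul_eq_of_fix (P 10 (by omega) rfl)
      (wf 12 10 rfl le_rfl (by omega) (by omega) (by omega))] at e1
    exact Line.left C h le_rfl rfl hL (i := 2) rfl (by omega) (show 10 = 2 + 6 + 2 from rfl)
      (MulAction.injective g e1)
  have a8 : C.Adj e e' := C.adj_smul _ (hw.1 7 (by omega))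
  have a9 : C.Adj e' e'' := C.adj_smul _ (hw.1 8 (by omega))
  have n8 : e' ≠ w 6 := fun e1 =>
    hw.2 6 (by omega) (MulAction.injective (C.c (w 0)) (e1.trans f6.symm))
  have n9 : e'' ≠ e := fun e1 => hw.2 7 (by omega) (MulAction.injective (C.c (w 0)) e1)
  intro hy
  by_cases hcase : g • w 4 = e'
  · refine ym (C.fix_third (ye (by omega) le_rfl) (C.symm ge') (hcase.symm ▸ a9) n9.symm ?_ hy
      ge'')
    rw [← he]; exact ye (by omega) (by omega)
  obtain ⟨t, t7, t6, tm⟩ := hf (w 7) (w 6) e (g • w 4) (P 6 (by omega) rfl) (hw.1 6 (by omega)) ae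
    he7.symm ge' gne
  have t4 : t • g • w 4 = e' := C.moved_eq_third (C.fix_nbr t6 ae)
    (C.mem_B.1 t6 _ (C.self_mem_ball _ _)) (C.symm ae) ge' a8 gne.symm n8.symm hcase tm
  have te : t • e = e := C.fix_nbr t6 ae
  have t8 : t • w 8 = w 8 := C.fix_nbr t7 (hw.1 7 (by omega))
  have P8 := P 8 (by omega) rfl
  have P10 := P 10 (by omega) rfl
  have P6 := P 6 (by omega) rfl
  have hT : t * y * t⁻¹ = C.c (t • w 10) := C.c_smul t P10
  have z8 : C.c (w 8) • e'' = e'' := h.fix P8 (C.ball_mono (show 5 ≤ 6 by omega)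
    (C.adj_ball (C.adj_ball (C.adj_ball (C.adj_ball (C.adj_mem_ball_one
      (C.symm (hw.1 7 (by omega)))) (C.symm (hw.1 6 (by omega)))) ae) a8) a9))
  have z6 : C.c (w 6) • e'' = e'' := h.fix P6 (C.ball_mono (show 3 ≤ 6 by omega)
    (C.adj_ball (C.adj_ball (C.adj_mem_ball_one ae) a8) a9))
  have a10 : C.Adj (t • w 9) (t • w 10) := C.adj_smul t (hw.1 9 (by omega))
  have n10 : t • w 10 ≠ w 8 := fun e1 =>
    hw.2 8 (by omega) (MulAction.injective t (e1.trans t8.symm))
  have TT : C.c (t • w 10) • e'' = e'' := by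
    by_cases e9 : t • w 9 = w 9
    · rcases C.sib_mul h (by omega) P8 (hw.1 8 (by omega)) (hw.1 9 (by omega))
          (hw.2 8 (by omega)) (e9 ▸ a10) n10 with e1 | e1 <;> rw [e1]
      · exact hy
      · rw [mul_smul, z8]; exact hy
    · have hl : C.Lift (w 8) (w 7) (C.c (w 10) * C.c (t • w 10)) :=
        ⟨w 9, t • w 9, w 10, t • w 10, hw.1 8 (by omega), C.adj_fix t8 (hw.1 8 (by omega)),
          hw.2 7 (by omega), fun e1 => hw.2 7 (by omega) (MulAction.injective t
            (e1.trans (C.mem_B.1 t7 _ (C.self_mem_ball _ _)).symm)), e9, hw.1 9 (by omega),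
          hw.2 8 (by omega), a10, n10, rfl⟩
      rcases hN (w 8) (w 7) (w 6) P8 (C.symm (hw.1 7 (by omega))) (C.symm (hw.1 6 (by omega)))
          (hw.2 6 (by omega)).symm _ hl with e1 | e1 <;>
        rw [← mul_right_inj (C.c (w 10)), ← mul_assoc, C.c_sq P10, one_mul] at e1 <;> rw [e1]
      · rw [mul_smul, z6]; exact hy
      · rw [mul_smul, mul_smul, z8, z6]; exact hy
  have Te : C.c (t • w 10) • e' = e' := by
    rw [← hT, ← t4, smul_conj, inv_smul_smul, ye (by omega) le_rfl]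
  have Te0 : C.c (t • w 10) • e = e := by
    conv_lhs => rw [← hT, ← te, smul_conj, inv_smul_smul, ← he, ye (by omega) (by omega), he, te]
  have at3 : C.Adj e' (t • g • w 3) := t4 ▸ C.adj_smul t ge''
  have := C.fix_third Te (C.symm a8) a9 n9.symm Te0 TT at3
  rw [← hT, smul_conj, inv_smul_smul] at this
  exact ym (MulAction.injective t this)

theorem six_stuck (hs : C.Stuck) {w : ℕ → V} (hL : C.Line 6 2 w) {L : G}
    (hP : C.PL (w 4) (w 5) L) : (C.c (w 10) * C.c (w 0)) ^ 4 = L := by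
  have hw := Line.walk C h le_rfl rfl hL
  have P : ∀ i, i ≤ 12 → i % 2 = 0 → C.P (w i) := fun i hi he =>
    Line.even_P C h le_rfl rfl hL hi he
  have wf : ∀ i j, i % 2 = 0 → i ≤ 12 → j ≤ 12 → i ≤ j + 6 → j ≤ i + 6 →
      C.c (w i) • w j = w j := fun i j h1 h2 h3 h4 h5 =>
    Line.walk_fix C h le_rfl rfl hL h4 h5 h2 h3 h1
  obtain ⟨he, he5, he7⟩ := C.turn_meet h hL
  set e := C.c (w 0) • w 7
  have f6 := wf 0 6 rfl (by omega) (by omega) (by omega) (by omega)
  have a5 : C.Adj (w 6) (w 5) := C.symm (hw.1 5 (by omega))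
  have a7 : C.Adj (w 6) (w 7) := hw.1 6 (by omega)
  have ae : C.Adj (w 6) e := C.adj_fix f6 a7
  have ne57 : w 5 ≠ w 7 := (hw.2 5 (by omega)).symm
  obtain ⟨t, te, t5⟩ := C.exists_fix_nbrs_move (C.symm ae) a5 he5.symm
  have t6 : t • w 6 = w 6 := C.fix_nbr te (C.symm ae)
  have tee : t • e = e := C.mem_B.1 te _ (C.self_mem_ball _ _)
  have t57 : t • w 5 = w 7 :=
    C.moved_eq_third t6 tee ae a5 a7 he5 he7 ne57 t5
  -- the middle window
  obtain ⟨u4, u8⟩ := PL.of_crit C hs h le_rfl rfl (hL 1 (by omega))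
  simp only [show (2 : ℕ) * 1 + 2 = 4 from rfl, show (2 : ℕ) * 1 + 3 = 5 from rfl,
    show (2 : ℕ) * 1 + 6 = 8 from rfl, show (2 : ℕ) * 1 + (6 - 1) = 7 from rfl] at u4 u8
  set u := C.U 6 (fun i => w (2 * 1 + i))
  obtain rfl : L = u := PL.unique C hs h le_rfl rfl (P 4 (by omega) rfl) (hw.1 4 (by omega)) u4 hP
  have t4 : t • w 4 = w 8 := by
    by_contra hne
    have hu : Commute t u := C.pl_move hs h le_rfl rfl (P 6 (by omega) rfl) ae a5 he5.symm
      (C.symm (hw.1 4 (by omega))) (hw.2 4 (by omega)).symm te t5 u4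
    have e1 := PL.smul C (P 4 (by omega) rfl) u4 t
    rw [hu.eq, mul_inv_cancel_right, t57] at e1
    exact C.pl_sib_ne hs h le_rfl rfl (C.notP_of_adj a7 (P 6 (by omega) rfl))
      (t57 ▸ C.adj_smul t (C.symm (hw.1 4 (by omega)))) (hw.1 7 (by omega)) hne e1 u8
  set s := C.c (w 0) * t * (C.c (w 0))⁻¹
  have s7 : s ∈ C.B (w 7) 1 := by
    have := C.conj_mem_B (C.c (w 0)) te
    rwa [C.c_smul_smul (P 0 (by omega) rfl)] at this
  have c5 := wf 0 5 rfl (by omega) (by omega) (by omega) (by omega)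
  have s5 : s • w 5 ≠ w 5 := by
    rw [smul_conj, smul_inv_of_fix c5, t57]; exact he5
  have g7 : C.c (w 12) ∈ C.B (w 7) 1 := Rad.mem_B C h (s := 5) (P 12 le_rfl rfl)
    (Tri.Walk.near C.toTri hw (by omega) (by omega) (by omega) (by omega)) le_rfl
  have g5 : C.c (w 12) • w 5 ≠ w 5 := by rw [he]; exact he5
  have act := (C.stuck_act hs (P 6 (by omega) rfl) a7 a5 ne57 g7 s7 g5 s5).2.2 (w 4)
    (C.symm (hw.1 4 (by omega)))
  have c4 := wf 0 4 rfl (by omega) (by omega) (by omega) (by omega)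
  rw [smul_conj, smul_inv_of_fix c4, t4] at act
  -- the bend is critical
  have ye : ∀ {j}, j ≤ 12 → 4 ≤ j →
      C.c (w 10) • C.c (w 12) • w j = C.c (w 12) • w j := fun {j} hj hj' => by
    rw [C.smul_eq_of_fix (P 10 (by omega) rfl) (wf 12 10 rfl le_rfl (by omega) (by omega) (by omega)),
      wf 10 j rfl (by omega) hj (by omega) (by omega)]
  have hm : C.c (w 10) • C.c (w 0) • w 9 ≠ C.c (w 0) • w 9 := by
    intro hy
    refine Line.left C h le_rfl rfl hL (i := 2) rfl (by omega) (show 10 = 2 + 6 + 2 from rfl)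
      (MulAction.injective (C.c (w 12)) ?_)
    simp only
    rw [← C.smul_eq_of_fix (P 10 (by omega) rfl)
      (wf 12 10 rfl le_rfl (by omega) (by omega) (by omega))]
    have a8 : C.Adj (C.c (w 12) • w 4) (C.c (w 0) • w 9) := by
      rw [act]; exact C.adj_smul _ (hw.1 8 (by omega))
    have ha : C.Adj (C.c (w 12) • w 4) e := by
      rw [← he]; exact C.adj_smul _ (hw.1 4 (by omega))
    have hne : e ≠ C.c (w 0) • w 9 := fun e1 =>
      hw.2 7 (by omega) (MulAction.injective (C.c (w 0)) e1).symm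
    refine C.fix_third (ye (by omega) le_rfl) ha a8 hne ?_ hy
      (C.adj_smul _ (C.symm (hw.1 3 (by omega))))
    rw [← he]; exact ye (by omega) (by omega)
  obtain ⟨hc, hU⟩ := C.turn_crit h hL hm
  obtain ⟨v, -⟩ := PL.of_crit C hs h le_rfl rfl hc
  rw [hU] at v
  simp [turn] at v
  exact PL.unique C hs h le_rfl rfl (P 8 (by omega) rfl) (C.symm (hw.1 7 (by omega))) u8 v

theorem not_six : False := by
  obtain ⟨L, hL⟩ := C.exists_line h le_rfl rfl 3
  have hw := Line.walk C h le_rfl rfl hL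
  have P : ∀ i, i ≤ 14 → i % 2 = 0 → C.P (L i) := fun i hi he =>
    Line.even_P C h le_rfl rfl hL hi he
  have l1 : C.Line 6 2 (fun i => L (2 + i)) := fun j hj =>
    Crit.congr C (hL (j + 1) (by omega)) fun i _ => congrArg L (by omega)
  have l2 : C.Line 6 2 (fun i => L (12 - i)) := fun j hj =>
    Crit.congr C (Crit.rev C h le_rfl rfl (hL (2 - j) (by omega))) fun i hi =>
      congrArg L (by omega)
  have sym : ∀ {a b : G}, a * a = 1 → b * b = 1 → (a * b) ^ 4 = ((b * a) ^ 4)⁻¹ := fun ha hb => by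
    rw [← inv_pow, mul_inv_rev, inv_eq_of_mul_eq_one_right ha, inv_eq_of_mul_eq_one_right hb]
  have key := sym (C.c_sq (P 12 (by omega) rfl)) (C.c_sq (P 2 (by omega) rfl))
  rcases C.stuck_or_flip with hs | hf
  · obtain ⟨M, hM⟩ := C.exists_PL (hw.1 6 (by omega))
    obtain ⟨M', hM'⟩ := C.exists_PL (C.symm (hw.1 7 (by omega)))
    have e1 := C.six_stuck h hs l1 (L := M) hM
    have e2 := C.six_stuck h hs l2 (L := M') hM'
    simp at e1 e2
    rw [e1, e2, inv_eq_of_mul_eq_one_right (PL.sq C hs h le_rfl rfl (P 8 (by omega) rfl)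
      (C.symm (hw.1 7 (by omega))) hM')] at key
    exact C.pl_sib_ne hs h le_rfl rfl (C.notP_of_adj (hw.1 6 (by omega)) (P 6 (by omega) rfl))
      (C.symm (hw.1 6 (by omega))) (hw.1 7 (by omega)) (hw.2 6 (by omega)).symm hM (key ▸ hM')
  · have hN := C.natural_of_flip h le_rfl rfl hf
    have e1 := C.six_natural h hN hf l1
    have e2 := C.six_natural h hN hf l2
    simp at e1 e2
    rw [e1, e2, C.c_inv (P 6 (by omega) rfl)] at key
    exact C.sib_ne (C.notP_of_adj (hw.1 6 (by omega)) (P 6 (by omega) rfl))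
      (hw.1 7 (by omega)) (C.symm (hw.1 6 (by omega))) (hw.2 6 (by omega)) key

end

end Cfsg.Agent.Class49.Trivalent.Ctx
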