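import Mathlib

/-!
Groups acting edge-transitively on bipartite trivalent graphs: balls, walks, stabilisers, counting.
-/

set_option autoImplicit false
set_option linter.unusedSectionVars false
set_option linter.unusedVariables false
set_option linter.style.haveILetI false
set_option linter.unusedTactic false
set_option linter.unreachableTactic false

open Subgroup MulAction

namespace Cfsg.Agent.Class49.Trivalent

/-- An edge transitive action on a bipartite trivalent graph, the two classes being the orbits. -/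
structure Tri (G : Type*) (V : Type*) [Group G] [MulAction G V] where
  P : V → Prop
  Adj : V → V → Prop
  P_smul : ∀ (g : G) (v : V), P (g • v) ↔ P v
  symm : ∀ {u v : V}, Adj u v → Adj v u
  adj_smul : ∀ (g : G) {u v : V}, Adj u v → Adj (g • u) (g • v)
  flip : ∀ {u v : V}, Adj u v → (P u ↔ ¬ P v)
  nbrs : ∀ v : V, ∃ a b c, a ≠ b ∧ a ≠ c ∧ b ≠ c ∧ ∀ w, Adj v w ↔ w = a ∨ w = b ∨ w = c
  trans : ∀ {u v u' v' : V}, Adj u v → Adj u' v' → (P u ↔ P u') → ∃ g : G, g • u = u' ∧ g • v = v'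
  swap : ∀ {v u w : V}, Adj v u → Adj v w → w ≠ u → ∃ x : G, x • v = v ∧ x • u = u ∧ x • w ≠ w
  fin : ∀ {u v : V}, Adj u v → Finite ↥(stabilizer G u ⊓ stabilizer G v)
  core : ∀ {u v : V}, Adj u v → ∀ N : Subgroup G, N ≤ stabilizer G u ⊓ stabilizer G v →
    (∀ g ∈ stabilizer G u, ∀ x ∈ N, g * x * g⁻¹ ∈ N) →
    (∀ g ∈ stabilizer G v, ∀ x ∈ N, g * x * g⁻¹ ∈ N) → N = ⊥

variable {G : Type*} {V : Type*} [Group G] [MulAction G V]

/-- The pointwise stabiliser of a set. -/
def Fix (s : Set V) : Subgroup G := fixingSubgroup G s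

theorem mem_Fix {s : Set V} {g : G} : g ∈ (Fix s : Subgroup G) ↔ ∀ v ∈ s, g • v = v :=
  mem_fixingSubgroup_iff G

theorem Fix_anti {s t : Set V} (h : s ⊆ t) : (Fix t : Subgroup G) ≤ Fix s := fun g hg =>
  mem_Fix.2 fun v hv => mem_Fix.1 hg v (h hv)

theorem smul_inv_of_fix {g : G} {v : V} (h : g • v = v) : g⁻¹ • v = v := inv_smul_eq_iff.2 h.symm

theorem smul_conj (g x : G) (v : V) : (g * x * g⁻¹) • v = g • x • g⁻¹ • v := by
  rw [mul_smul, mul_smul]

namespace Tri

variable (A : Tri G V)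

theorem ne_of_adj {u v : V} (h : A.Adj u v) : u ≠ v := fun e => by
  have := A.flip h; rw [e] at this; tauto

theorem notP_of_adj {u v : V} (h : A.Adj u v) (hu : A.P u) : ¬ A.P v := (A.flip h).1 hu

theorem P_of_adj {u v : V} (h : A.Adj u v) (hu : ¬ A.P u) : A.P v := by
  have := A.flip h; tauto

theorem adj_smul_iff (g : G) {u v : V} : A.Adj (g • u) (g • v) ↔ A.Adj u v :=
  ⟨fun h => by simpa using A.adj_smul g⁻¹ h, A.adj_smul g⟩

theorem exists_third {v a b : V} (ha : A.Adj v a) (hb : A.Adj v b) (hab : a ≠ b) :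
    ∃ c, A.Adj v c ∧ c ≠ a ∧ c ≠ b ∧ ∀ w, A.Adj v w → w = a ∨ w = b ∨ w = c := by
  obtain ⟨p, q, r, hpq, hpr, hqr, h⟩ := A.nbrs v
  rcases (h a).1 ha with rfl | rfl | rfl <;> rcases (h b).1 hb with rfl | rfl | rfl <;>
    first
    | exact absurd rfl hab
    | (refine ⟨r, (h _).2 (Or.inr (Or.inr rfl)), ?_, ?_, fun w hw => ?_⟩ <;>
        first | (have := (h w).1 hw; tauto) | (simp_all [eq_comm]; done))
    | (refine ⟨q, (h _).2 (Or.inr (Or.inl rfl)), ?_, ?_, fun w hw => ?_⟩ <;>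
        first | (have := (h w).1 hw; tauto) | (simp_all [eq_comm]; done))
    | (refine ⟨p, (h _).2 (Or.inl rfl), ?_, ?_, fun w hw => ?_⟩ <;>
        first | (have := (h w).1 hw; tauto) | (simp_all [eq_comm]; done))

theorem eq_third {v a b c : V} (ha : A.Adj v a) (hb : A.Adj v b) (hc : A.Adj v c) (hab : a ≠ b)
    (hac : a ≠ c) (hbc : b ≠ c) {w : V} (hw : A.Adj v w) : w = a ∨ w = b ∨ w = c := by
  obtain ⟨d, hd, hda, hdb, h⟩ := A.exists_third ha hb hab
  rcases h c hc with e | e | e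
  · exact absurd e.symm hac
  · exact absurd e.symm hbc
  · rw [e]; exact h w hw

theorem exists_other {v a : V} (ha : A.Adj v a) : ∃ b, A.Adj v b ∧ b ≠ a := by
  obtain ⟨p, q, r, hpq, hpr, hqr, h⟩ := A.nbrs v
  by_cases e : p = a
  · exact ⟨q, (h _).2 (Or.inr (Or.inl rfl)), fun e' => hpq (e.trans e'.symm)⟩
  · exact ⟨p, (h _).2 (Or.inl rfl), e⟩

theorem exists_adj (v : V) : ∃ a, A.Adj v a := by
  obtain ⟨p, q, r, -, -, -, h⟩ := A.nbrs v
  exact ⟨p, (h _).2 (Or.inl rfl)⟩

theorem adj_fix {v : V} {x : G} (hv : x • v = v) {w : V} (hw : A.Adj v w) : A.Adj v (x • w) := by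
  simpa [hv] using A.adj_smul x hw

theorem fix_third {v a b : V} {x : G} (hv : x • v = v) (ha : A.Adj v a) (hb : A.Adj v b)
    (hab : a ≠ b) (xa : x • a = a) (xb : x • b = b) {w : V} (hw : A.Adj v w) : x • w = w := by
  obtain ⟨c, hc, hca, hcb, h⟩ := A.exists_third ha hb hab
  rcases h w hw with rfl | rfl | rfl
  · exact xa
  · exact xb
  · rcases h _ (A.adj_fix hv hw) with e | e | e
    · exact absurd (MulAction.injective x (e.trans xa.symm)) hca
    · exact absurd (MulAction.injective x (e.trans xb.symm)) hcb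
    · exact e

theorem moved_eq_third {v a b c : V} {x : G} (hv : x • v = v) (xa : x • a = a) (ha : A.Adj v a)
    (hb : A.Adj v b) (hc : A.Adj v c) (hab : a ≠ b) (hac : a ≠ c) (hbc : b ≠ c)
    (hm : x • b ≠ b) : x • b = c := by
  rcases A.eq_third ha hb hc hab hac hbc (A.adj_fix hv hb) with e | e | e
  · exact absurd (MulAction.injective x (e.trans xa.symm)) hab.symm
  · exact absurd e hm
  · exact e

theorem same_image {v a b : V} {x y : G} (xv : x • v = v) (yv : y • v = v) (xa : x • a = a)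
    (ya : y • a = a) (ha : A.Adj v a) (hb : A.Adj v b) (hab : a ≠ b) (hx : x • b ≠ b)
    (hy : y • b ≠ b) : x • b = y • b := by
  obtain ⟨c, hc, hca, hcb, h⟩ := A.exists_third ha hb hab
  rw [A.moved_eq_third xv xa ha hb hc hab hca.symm hcb.symm hx,
    A.moved_eq_third yv ya ha hb hc hab hca.symm hcb.symm hy]

theorem twice_image {v a b : V} {x : G} (xv : x • v = v) (xa : x • a = a)
    (ha : A.Adj v a) (hb : A.Adj v b) (hab : a ≠ b) : x • x • b = b := by
  by_cases hx : x • b = b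
  · rw [hx, hx]
  obtain ⟨c, hc, hca, hcb, h⟩ := A.exists_third ha hb hab
  have e := A.moved_eq_third xv xa ha hb hc hab hca.symm hcb.symm hx
  rw [e]
  refine A.moved_eq_third xv xa ha hc hb hca.symm hab hcb fun e' => hx ?_
  rw [e]; exact MulAction.injective x (e'.trans e.symm) ▸ rfl

/-- The stabiliser of `v` is generated by an edge stabiliser and any element moving that edge. -/
theorem stab_le {v u : V} (h : A.Adj v u) {H : Subgroup G}
    (hH : stabilizer G v ⊓ stabilizer G u ≤ H) {g : G} (hg : g ∈ H) (gv : g • v = v)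
    (gu : g • u ≠ u) : stabilizer G v ≤ H := by
  intro s hs
  rw [mem_stabilizer_iff] at hs
  have hgu := A.adj_fix gv h
  obtain ⟨x, xv, xu, xg⟩ := A.swap h hgu gu
  have hx : x ∈ H := hH ⟨xv, xu⟩
  obtain ⟨c, hc, hcu, hcg, h3⟩ := A.exists_third h hgu (Ne.symm gu)
  have ec : x • g • u = c := A.moved_eq_third xv xu h hgu hc (Ne.symm gu) hcu.symm hcg.symm xg
  have key : ∃ k ∈ H, k • v = v ∧ k • u = s • u := by
    rcases h3 _ (A.adj_fix hs h) with e | e | e
    · exact ⟨1, one_mem _, one_smul _ _, by rw [one_smul, e]⟩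
    · exact ⟨g, hg, gv, e.symm⟩
    · exact ⟨x * g, mul_mem hx hg, by rw [mul_smul, gv, xv], by rw [mul_smul, ec, e]⟩
  obtain ⟨k, hk, kv, ku⟩ := key
  have : k⁻¹ * s ∈ H := hH
    ⟨show (k⁻¹ * s) • v = v by rw [mul_smul, hs, smul_inv_of_fix kv],
      show (k⁻¹ * s) • u = u by rw [mul_smul, ← ku, inv_smul_smul]⟩
  simpa using mul_mem hk this

theorem exists_move {v u : V} (h : A.Adj v u) {w : V} (hw : A.Adj v w) :
    ∃ g : G, g • v = v ∧ g • u = w := A.trans h hw Iff.rfl

/-- Paths with two edges are conjugate. -/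
theorem trans2 {a b c a' b' c' : V} (h1 : A.Adj a b) (h2 : A.Adj b c) (hac : c ≠ a)
    (h1' : A.Adj a' b') (h2' : A.Adj b' c') (hac' : c' ≠ a') (hP : A.P a ↔ A.P a') :
    ∃ g : G, g • a = a' ∧ g • b = b' ∧ g • c = c' := by
  obtain ⟨g, ga, gb⟩ := A.trans h1 h1' hP
  by_cases e : g • c = c'
  · exact ⟨g, ga, gb, e⟩
  have hgc : A.Adj b' (g • c) := gb ▸ A.adj_smul g h2
  have hgne : g • c ≠ a' := fun e' => hac (MulAction.injective g (e'.trans ga.symm))
  obtain ⟨x, xb, xa, xc⟩ := A.swap (A.symm h1') hgc hgne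
  refine ⟨x * g, by rw [mul_smul, ga, xa], by rw [mul_smul, gb, xb], ?_⟩
  rw [mul_smul]
  exact A.moved_eq_third xb xa (A.symm h1') hgc h2' (Ne.symm hgne) (Ne.symm hac') e xc

/-- An element of the stabiliser of `v` permuting three given neighbours cyclically. -/
theorem exists_cycle {v a b c : V} (ha : A.Adj v a) (hb : A.Adj v b) (hc : A.Adj v c)
    (hab : a ≠ b) (hac : a ≠ c) (hbc : b ≠ c) :
    ∃ g : G, g • v = v ∧ g • a = b ∧ g • b = c ∧ g • c = a := by
  obtain ⟨g, g1, g2, g3⟩ := A.trans2 (A.symm ha) hb (Ne.symm hab) (A.symm hb) hc (Ne.symm hbc)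
    (iff_of_eq (by
      have h1 := A.flip ha
      have h2 := A.flip hb
      exact propext ⟨fun h => by tauto, fun h => by tauto⟩))
  refine ⟨g, g2, g1, g3, ?_⟩
  rcases A.eq_third ha hb hc hab hac hbc (A.adj_fix g2 hc) with e | e | e
  · exact e
  · exact absurd (MulAction.injective g (e.trans g1.symm)) hac.symm
  · exact absurd (MulAction.injective g (e.trans g3.symm)) hbc.symm

/-! ### Balls -/

/-- Vertices within distance `r`. -/
def ball (v : V) : ℕ → Set V
  | 0 => {v}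
  | r + 1 => {w | ∃ u ∈ ball v r, w = u ∨ A.Adj u w}

theorem ball_succ (v : V) (r : ℕ) :
    A.ball v (r + 1) = {w | ∃ u ∈ A.ball v r, w = u ∨ A.Adj u w} := rfl

theorem self_mem_ball (v : V) : ∀ r, v ∈ A.ball v r
  | 0 => rfl
  | r + 1 => ⟨v, self_mem_ball v r, Or.inl rfl⟩

theorem ball_mono {v : V} {r s : ℕ} (h : r ≤ s) : A.ball v r ⊆ A.ball v s := by
  induction h with
  | refl => exact subset_rfl
  | step _ ih => exact fun w hw => ⟨w, ih hw, Or.inl rfl⟩

theorem adj_ball {v u w : V} {r : ℕ} (hu : u ∈ A.ball v r) (h : A.Adj u w) :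
    w ∈ A.ball v (r + 1) := ⟨u, hu, Or.inr h⟩

theorem adj_mem_ball_one {v w : V} (h : A.Adj v w) : w ∈ A.ball v 1 :=
  A.adj_ball (A.self_mem_ball v 0) h

theorem mem_ball_one {v w : V} (h : w ∈ A.ball v 1) : w = v ∨ A.Adj v w := by
  obtain ⟨u, hu, hw⟩ := h
  rw [show u = v from hu] at hw
  exact hw

theorem ball_trans {v u : V} {r : ℕ} (hu : u ∈ A.ball v r) : ∀ {s : ℕ} {w : V},
    w ∈ A.ball u s → w ∈ A.ball v (r + s)
  | 0, w, hw => by rw [show w = u from hw]; exact hu
  | s + 1, w, ⟨x, hx, hw⟩ => ⟨x, ball_trans hu hx, hw⟩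

theorem ball_symm : ∀ {r : ℕ} {v w : V}, w ∈ A.ball v r → v ∈ A.ball w r
  | 0, v, w, hw => by rw [show w = v from hw]; rfl
  | r + 1, v, w, ⟨x, hx, hw⟩ => by
    have h2 : v ∈ A.ball x r := ball_symm hx
    rcases hw with rfl | hw
    · exact A.ball_mono (Nat.le_succ r) h2
    · have := A.ball_trans (A.adj_mem_ball_one (A.symm hw)) h2
      rwa [Nat.add_comm] at this

theorem smul_mem_ball (g : G) : ∀ {r : ℕ} {v w : V}, w ∈ A.ball v r → g • w ∈ A.ball (g • v) r
  | 0, v, w, hw => by rw [show w = v from hw]; rfl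
  | r + 1, v, w, ⟨x, hx, hw⟩ => ⟨g • x, smul_mem_ball g hx, by
      rcases hw with rfl | hw
      · exact Or.inl rfl
      · exact Or.inr (A.adj_smul g hw)⟩

/-- Pointwise stabiliser of the ball of radius `r`. -/
def B (v : V) (r : ℕ) : Subgroup G := Fix (A.ball v r)

theorem mem_B {v : V} {r : ℕ} {x : G} : x ∈ A.B v r ↔ ∀ w ∈ A.ball v r, x • w = w := mem_Fix

theorem conj_mem_B {v : V} {r : ℕ} {x : G} (g : G) (hx : x ∈ A.B v r) :
    g * x * g⁻¹ ∈ A.B (g • v) r := A.mem_B.2 fun w hw => by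
  have h1 : g⁻¹ • w ∈ A.ball v r := by simpa using A.smul_mem_ball g⁻¹ hw
  rw [smul_conj, A.mem_B.1 hx _ h1, smul_inv_smul]

theorem conj_mem_B_of_fix {v : V} {r : ℕ} {x g : G} (hg : g • v = v) (hx : x ∈ A.B v r) :
    g * x * g⁻¹ ∈ A.B v r := by simpa [hg] using A.conj_mem_B g hx

theorem B_le_stab {v u : V} {r : ℕ} (h : A.Adj v u) :
    A.B v (r + 1) ≤ stabilizer G v ⊓ stabilizer G u := fun x hx =>
  ⟨A.mem_B.1 hx _ (A.self_mem_ball v _),
    A.mem_B.1 hx _ (A.ball_mono (by omega) (A.adj_mem_ball_one h))⟩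

theorem B_anti (v : V) {r s : ℕ} (h : r ≤ s) : A.B v s ≤ A.B v r := Fix_anti (A.ball_mono h)

theorem finite_le {u v : V} (h : A.Adj u v) {H : Subgroup G}
    (hH : H ≤ stabilizer G u ⊓ stabilizer G v) : Finite H :=
  haveI := A.fin h
  Finite.of_injective _ (Subgroup.inclusion_injective hH)

/-- The key lemma: a ball stabiliser centralised by an element moving the adjacent vertex is
trivial. -/
theorem eq_bot_of_centralized {a b : V} (h : A.Adj a b) {N : Subgroup G}
    (hN : N ≤ stabilizer G a ⊓ stabilizer G b)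
    (hn : ∀ g ∈ stabilizer G a, ∀ x ∈ N, g * x * g⁻¹ ∈ N) {g : G} (gb : g • b = b)
    (ga : g • a ≠ a) (hg : ∀ x ∈ N, Commute g x) : N = ⊥ := by
  refine A.core h N hN hn ?_
  let H : Subgroup G :=
    { carrier := {g | (∀ x ∈ N, g * x * g⁻¹ ∈ N) ∧ ∀ x ∈ N, g⁻¹ * x * g ∈ N}
      one_mem' := ⟨fun x hx => by simpa using hx, fun x hx => by simpa using hx⟩
      mul_mem' := fun {p q} hp hq => ⟨fun x hx => by
          have := hp.1 _ (hq.1 x hx)
          simpa [mul_assoc] using this, fun x hx => by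
          have := hq.2 _ (hp.2 x hx)
          simpa [mul_assoc] using this⟩
      inv_mem' := fun {p} hp => ⟨fun x hx => by simpa using hp.2 x hx,
        fun x hx => by simpa using hp.1 x hx⟩ }
  have h1 : stabilizer G b ⊓ stabilizer G a ≤ H := fun p hp =>
    ⟨fun x hx => hn p hp.2 x hx, fun x hx => by
      simpa using hn p⁻¹ (inv_mem hp.2) x hx⟩
  have h2 : g ∈ H := ⟨fun x hx => by rw [(hg x hx).eq, mul_inv_cancel_right]; exact hx,
    fun x hx => by rw [mul_assoc, ← (hg x hx).eq, inv_mul_cancel_left]; exact hx⟩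
  exact fun p hp x hx => (A.stab_le (A.symm h) h1 h2 gb ga hp).1 x hx

theorem B_eq_bot {a b : V} (h : A.Adj a b) {r : ℕ} {g : G} (gb : g • b = b)
    (ga : g • a ≠ a) (hg : ∀ x ∈ A.B a (r + 1), Commute g x) : A.B a (r + 1) = ⊥ :=
  A.eq_bot_of_centralized h (A.B_le_stab h) (fun p hp x hx => A.conj_mem_B_of_fix hp hx) gb ga hg

/-- An element fixing everything reachable from an edge is trivial. -/
theorem eq_one_of_fix_all {u v : V} (h : A.Adj u v) {x : G}
    (hx : ∀ r, x ∈ A.B u r) : x = 1 := by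
  have hb : (⨅ r, A.B u r) = ⊥ := by
    refine A.core h _ (le_trans (iInf_le _ 1) (A.B_le_stab (r := 0) h))
      (fun g hg y hy => ?_) fun g hg y hy => ?_
    · rw [Subgroup.mem_iInf] at hy ⊢
      exact fun r => A.conj_mem_B_of_fix hg (hy r)
    · rw [Subgroup.mem_iInf] at hy ⊢
      refine fun r => A.mem_B.2 fun w hw => ?_
      have h1 : w ∈ A.ball (g • v) (1 + r) := by
        rw [mem_stabilizer_iff.1 hg]
        exact A.ball_trans (A.adj_mem_ball_one (A.symm h)) hw
      have h2 : g⁻¹ • w ∈ A.ball v (1 + r) := by simpa using A.smul_mem_ball g⁻¹ h1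
      have h3 : g⁻¹ • w ∈ A.ball u (1 + (1 + r)) :=
        A.ball_trans (A.adj_mem_ball_one h) h2
      rw [smul_conj, A.mem_B.1 (hy _) _ h3, smul_inv_smul]
  exact (Subgroup.mem_bot).1 (hb ▸ Subgroup.mem_iInf.2 hx)

/-! ### Counting -/

/-- Fixing the neighbours of one more vertex costs at most a factor 2. -/
theorem card_le_two_mul {H K : Subgroup G} [Finite H] (hKH : K ≤ H) {v u : V} (h : A.Adj v u)
    (hH : ∀ x ∈ H, x • v = v ∧ x • u = u)
    (hK : ∀ x ∈ H, (∀ w, A.Adj v w → x • w = w) → x ∈ K) : Nat.card H ≤ 2 * Nat.card K := by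
  haveI : Finite K := Finite.of_injective _ (Subgroup.inclusion_injective hKH)
  obtain ⟨w, hw, hwu⟩ := A.exists_other h
  have hKiff : ∀ x ∈ H, x • w = w → x ∈ K := fun x hx e =>
    hK x hx fun w' hw' => A.fix_third (hH x hx).1 h hw hwu.symm (hH x hx).2 e hw'
  by_cases h0 : ∀ x ∈ H, x • w = w
  · have : H = K := le_antisymm (fun x hx => hKiff x hx (h0 x hx)) hKH
    rw [this]; omega
  push Not at h0
  obtain ⟨x₀, hx₀, hm⟩ := h0
  classical
  have key : ∀ y : H, ¬ (y : G) • w = w → x₀⁻¹ * (y : G) ∈ K := fun y hy =>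
    hKiff _ (mul_mem (inv_mem hx₀) y.2) (by
      rw [mul_smul, A.same_image (hH _ y.2).1 (hH _ hx₀).1 (hH _ y.2).2 (hH _ hx₀).2 h hw
        hwu.symm hy hm, inv_smul_smul])
  let f : H → K × Bool := fun y =>
    if e : (y : G) • w = w then (⟨y, hKiff y y.2 e⟩, false)
    else (⟨x₀⁻¹ * y, key y e⟩, true)
  have hf : Function.Injective f := by
    intro y z hyz
    simp only [f] at hyz
    split_ifs at hyz with e1 e2 e2 <;>
      simp only [Prod.mk.injEq, Subtype.mk.injEq, mul_right_inj, and_true, and_false,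
        Bool.false_eq_true, Bool.true_eq_false] at hyz
    · exact Subtype.ext hyz
    · exact Subtype.ext hyz
  have := Nat.card_le_card_of_injective f hf
  rw [Nat.card_prod, Nat.card_eq_fintype_card (α := Bool), Fintype.card_bool] at this
  omega

theorem card_Fix_le {s : Set V} {v u : V} (h : A.Adj v u) (hv : v ∈ s) (hu : u ∈ s)
    {a b : V} (hab : A.Adj a b) (ha : a ∈ s) (hb : b ∈ s) {t : Set V}
    (ht : ∀ x : G, x ∈ (Fix s : Subgroup G) → (∀ w, A.Adj v w → x • w = w) →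
      ∀ w ∈ t, x • w = w) :
    Nat.card (Fix s : Subgroup G) ≤ 2 * Nat.card (Fix (s ∪ t) : Subgroup G) := by
  haveI : Finite (Fix s : Subgroup G) :=
    A.finite_le hab fun x hx => ⟨mem_Fix.1 hx a ha, mem_Fix.1 hx b hb⟩
  refine A.card_le_two_mul (Fix_anti Set.subset_union_left) h
    (fun x hx => ⟨mem_Fix.1 hx v hv, mem_Fix.1 hx u hu⟩) fun x hx hx' => mem_Fix.2 ?_
  rintro w (hw | hw)
  · exact mem_Fix.1 hx w hw
  · exact ht x hx hx' w hw

/-! ### Walks -/

/-- `w 0, …, w n` is a walk without backtracking. -/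
def Walk (w : ℕ → V) (n : ℕ) : Prop :=
  (∀ i, i < n → A.Adj (w i) (w (i + 1))) ∧ ∀ i, i + 2 ≤ n → w (i + 2) ≠ w i

theorem Walk.mono {w : ℕ → V} {m n : ℕ} (h : A.Walk w n) (hm : m ≤ n) : A.Walk w m :=
  ⟨fun i hi => h.1 i (by omega), fun i hi => h.2 i (by omega)⟩

theorem Walk.shift {w : ℕ → V} {m n k : ℕ} (h : A.Walk w n) (hm : k + m ≤ n) :
    A.Walk (fun i => w (k + i)) m :=
  ⟨fun i hi => h.1 (k + i) (by omega), fun i hi => h.2 (k + i) (by omega)⟩

theorem Walk.congr {w w' : ℕ → V} {n : ℕ} (h : A.Walk w n) (e : ∀ i, i ≤ n → w i = w' i) :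
    A.Walk w' n :=
  ⟨fun i hi => by rw [← e i (by omega), ← e (i + 1) (by omega)]; exact h.1 i hi,
    fun i hi => by rw [← e i (by omega), ← e (i + 2) hi]; exact h.2 i hi⟩

theorem Walk.smul {w : ℕ → V} {n : ℕ} (h : A.Walk w n) (g : G) : A.Walk (fun i => g • w i) n :=
  ⟨fun i hi => A.adj_smul g (h.1 i hi),
    fun i hi e => h.2 i hi (MulAction.injective g e)⟩

theorem Walk.rev {w : ℕ → V} {n : ℕ} (h : A.Walk w n) : A.Walk (fun i => w (n - i)) n :=
  ⟨fun i hi => by
    have := h.1 (n - (i + 1)) (by omega)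
    rw [show n - (i + 1) + 1 = n - i by omega] at this
    exact A.symm this,
  fun i hi => by
    have := h.2 (n - (i + 2)) (by omega)
    rw [show n - (i + 2) + 2 = n - i by omega] at this
    exact this.symm⟩

theorem Walk.mem_ball {w : ℕ → V} {n : ℕ} (h : A.Walk w n) :
    ∀ i j, i + j ≤ n → w (i + j) ∈ A.ball (w i) j
  | i, 0, _ => rfl
  | i, j + 1, hij =>
    A.adj_ball (Walk.mem_ball h i j (by omega)) (h.1 (i + j) (by omega))

theorem Walk.near {w : ℕ → V} {n : ℕ} (h : A.Walk w n) {i j r : ℕ} (hi : i ≤ n) (hj : j ≤ n)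
    (h1 : i ≤ j + r) (h2 : j ≤ i + r) : w j ∈ A.ball (w i) r := by
  rcases Nat.le_total i j with e | e
  · obtain ⟨k, rfl⟩ := Nat.exists_eq_add_of_le e
    exact A.ball_mono (by omega) (Walk.mem_ball A h i k hj)
  · obtain ⟨k, rfl⟩ := Nat.exists_eq_add_of_le e
    exact A.ball_mono (by omega) (A.ball_symm (Walk.mem_ball A h j k hi))

theorem Walk.parity {w : ℕ → V} {n : ℕ} (h : A.Walk w n) :
    ∀ i, i ≤ n → (A.P (w i) ↔ (i % 2 = 0 ↔ A.P (w 0)))
  | 0, _ => by simp
  | i + 1, hi => by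
    have h1 := A.flip (h.1 i (by omega))
    have h2 := Walk.parity h i (by omega)
    rcases Nat.mod_two_eq_zero_or_one i with e | e
    · rw [show (i + 1) % 2 = 1 by omega]; simp [e] at h2 ⊢; tauto
    · rw [show (i + 1) % 2 = 0 by omega]; simp [e] at h2 ⊢; tauto

/-- Extend a walk by one vertex. -/
theorem Walk.snoc {w : ℕ → V} {n : ℕ} (h : A.Walk w n) {z : V} (hz : A.Adj (w n) z)
    (hne : n = 0 ∨ z ≠ w (n - 1)) : A.Walk (fun i => if i ≤ n then w i else z) (n + 1) := by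
  refine ⟨fun i hi => ?_, fun i hi => ?_⟩
  · rcases Nat.lt_succ_iff_lt_or_eq.1 hi with e | rfl
    · simp [show i ≤ n by omega, show i + 1 ≤ n by omega]; exact h.1 i e
    · simp; exact hz
  · rcases Nat.lt_or_ge (i + 1) n with e | e
    · simp [show i ≤ n by omega, show i + 2 ≤ n by omega]; exact h.2 i (by omega)
    · have : i + 1 = n := by omega
      subst this
      rcases hne with e' | e'
      · omega
      · simpa using e'

/-- Put a vertex in front of a walk. -/
theorem Walk.cons {w : ℕ → V} {n : ℕ} (h : A.Walk w n) {z : V} (hz : A.Adj z (w 0))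
    (hne : n = 0 ∨ z ≠ w 1) : A.Walk (fun i => if i = 0 then z else w (i - 1)) (n + 1) := by
  refine ⟨fun i hi => ?_, fun i hi => ?_⟩
  · rcases i with _ | i
    · simpa using hz
    · simpa using h.1 i (by omega)
  · rcases i with _ | i
    · rcases hne with e | e
      · omega
      · simpa using Ne.symm e
    · simpa using h.2 i (by omega)

end Tri

end Cfsg.Agent.Class49.Trivalent
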