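import Cfsg.Agent.Class49.Trivalent.Central

/-!
The radius of the central involutions is not an odd number larger than 3.
-/

set_option autoImplicit false
set_option linter.unusedSectionVars false
set_option linter.unusedVariables false

open Subgroup MulAction

namespace Cfsg.Agent.Class49.Trivalent.Ctx

variable {G : Type*} {V : Type*} [Group G] [MulAction G V] (C : Ctx G V) {R : ℕ}

theorem mem_ball_two {v q : V} (hv : C.P v) (hq : C.P q) (h : q ∈ C.ball v 2) :
    q = v ∨ ∃ a, C.Adj v a ∧ C.Adj a q := by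
  obtain ⟨u, hu, hq'⟩ := h
  rcases C.mem_ball_one hu with rfl | hu
  · rcases hq' with rfl | e
    · exact Or.inl rfl
    · exact absurd hq (C.notP_of_adj e hv)
  · rcases hq' with rfl | e
    · exact absurd hq (C.notP_of_adj hu hv)
    · exact Or.inr ⟨u, hu, e⟩

/-- For odd radius, a critical walk identifies two inner involutions. -/
theorem odd_formula (h : C.Rad R) (hR : 2 ≤ R) (hodd : R % 2 = 1) {w : ℕ → V}
    (hw : C.Walk w (R + 1)) (h0 : C.P (w 0)) (hm : C.c (w 0) • w (R + 1) ≠ w (R + 1)) :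
    C.c (w 2) = C.c (w (R - 1)) ∧ ¬ Commute (C.c (w 0)) (C.c (w (R + 1))) ∧
      C.c (w (R + 1)) • w 1 = w 1 ∧ C.c (w (R + 1)) • w 0 ≠ w 0 ∧
      C.c (w (R + 1)) * C.c (w 0) * C.c (w (R + 1)) = C.c (w 0) * C.c (w 2) ∧
      C.c (w 0) * C.c (w (R + 1)) * C.c (w 0) = C.c (w (R - 1)) * C.c (w (R + 1)) := by
  obtain ⟨r, rfl⟩ : ∃ r, R = r + 1 := ⟨R - 1, by omega⟩
  have par := Tri.Walk.parity C.toTri hw
  have hy : C.P (w (r + 1 + 1)) := (par _ le_rfl).2 (iff_of_true (by omega) h0)
  have ha : ¬ C.P (w (r + 1)) := fun e => by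
    have := ((par _ (by omega)).1 e).2 h0; omega
  have h1 : ¬ C.P (w 1) := C.notP_of_adj (hw.1 0 (by omega)) h0
  have a1 : C.Adj (w (r + 1)) (w r) := C.symm (hw.1 r (by omega))
  have a2 : C.Adj (w (r + 1)) (w (r + 1 + 1)) := hw.1 (r + 1) (by omega)
  have f0 : ∀ i, i ≤ r + 1 → C.c (w 0) • w i = w i := fun i hi =>
    Rad.fix_walk C h hw h0 (by omega) (by omega) (by omega) (by omega)
  have fy : ∀ i, 1 ≤ i → i ≤ r + 1 + 1 → C.c (w (r + 1 + 1)) • w i = w i := fun i hi hi' =>
    Rad.fix_walk C h hw hy le_rfl (by omega) (by omega) (by omega)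
  have nc : ¬ Commute (C.c (w 0)) (C.c (w (r + 1 + 1))) :=
    C.not_comm_sib ha a2 (f0 _ le_rfl) hm
  have m0 : C.c (w (r + 1 + 1)) • w 0 ≠ w 0 := fun e => nc (C.comm h0 e).symm
  have right : C.c (w 0) * C.c (w (r + 1 + 1)) * C.c (w 0) =
      C.c (w r) * C.c (w (r + 1 + 1)) := by
    rw [C.c_conj h0 hy]
    refine (C.star h hR ha a1 a2 (C.adj_fix (f0 _ le_rfl) a2) (hw.2 r (by omega)).symm
      (fun e => ?_) hm.symm).symm
    exact hw.2 r (by omega) (MulAction.injective (C.c (w 0)) (e.symm.trans (f0 r (by omega)).symm))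
  have left : C.c (w (r + 1 + 1)) * C.c (w 0) * C.c (w (r + 1 + 1)) =
      C.c (w 0) * C.c (w 2) := by
    rw [C.c_conj hy h0]
    refine (C.star h hR h1 (C.symm (hw.1 0 (by omega))) (hw.1 1 (by omega))
      (C.adj_fix (fy 1 le_rfl (by omega)) (C.symm (hw.1 0 (by omega)))) (hw.2 0 (by omega)).symm
      m0.symm (fun e => ?_)).symm
    exact hw.2 0 (by omega) (MulAction.injective (C.c (w (r + 1 + 1)))
      ((fy 2 (by omega) (by omega)).trans e))
  refine ⟨?_, nc, fy 1 le_rfl (by omega), m0, left, right⟩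
  rw [show r + 1 - 1 = r by omega]
  calc C.c (w 2) = C.c (w 0) * (C.c (w 0) * C.c (w 2)) := by
        rw [← mul_assoc, C.c_sq h0, one_mul]
    _ = C.c (w 0) * C.c (w (r + 1 + 1)) * C.c (w 0) * C.c (w (r + 1 + 1)) := by
        rw [← left]; group
    _ = C.c (w r) := by rw [right, mul_assoc, C.c_sq hy, mul_one]

/-- The radius is not an odd number at least 5. -/
theorem not_odd (h : C.Rad R) (hR : 5 ≤ R) (hodd : R % 2 = 1) : False := by
  obtain ⟨w, hw, h0, hm⟩ := h.move
  obtain ⟨hf, nc, fy1, my0, left, right⟩ := C.odd_formula h (by omega) hodd hw h0 hm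
  have par := Tri.Walk.parity C.toTri hw
  have hy : C.P (w (R + 1)) := (par _ le_rfl).2 (iff_of_true (by omega) h0)
  have hq : C.P (w (R - 1)) := (par _ (by omega)).2 (iff_of_true (by omega) h0)
  by_cases hex : ∃ a b, C.Adj (w 0) a ∧ a ≠ w 1 ∧ C.Adj a b ∧ b ≠ w 0 ∧
      C.c b • w (R - 1) ≠ w (R - 1)
  · obtain ⟨a, b, ha, ha1, hb, hb0, hmb⟩ := hex
    have hu := (hw.cons C.toTri (C.symm ha) (Or.inr ha1)).cons C.toTri (z := b)
      (by simpa using C.symm hb) (Or.inr (by simpa using hb0))
    have Pb : C.P b := C.P_of_adj hb (C.notP_of_adj ha h0)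
    obtain ⟨e, -, -, -, -, -⟩ := C.odd_formula h (by omega) hodd (hu.mono C.toTri (by omega))
      (by simpa using Pb) (by simpa [show R + 1 - 1 - 1 = R - 1 by omega, show R ≠ 0 by omega] using hmb)
    have h3 : C.P (w (R - 3)) := (par _ (by omega)).2 (iff_of_true (by omega) h0)
    simp [show R - 1 ≠ 0 by omega, show R - 1 - 1 ≠ 0 by omega,
      show R - 1 - 1 - 1 = R - 3 by omega] at e
    exact nc (e ▸ (Rad.comm_walk C h hw h3 hy (by omega) le_rfl (by omega) (by omega)))
  · push Not at hex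
    set N := closure (C.c '' {q | C.P q ∧ q ∈ C.ball (w 0) 2}) with hN
    have gen : ∀ q, C.P q → q ∈ C.ball (w 0) 2 → C.c q ∈ N := fun q h1 h2 =>
      subset_closure ⟨q, ⟨h1, h2⟩, rfl⟩
    have h2 : C.P (w 2) := (par 2 (by omega)).2 (iff_of_true (by omega) h0)
    have m2 : C.c (w 2) ∈ N := gen _ h2 (Tri.Walk.mem_ball C.toTri hw 0 2 (by omega))
    have m0 : C.c (w 0) ∈ N := gen _ h0 (C.self_mem_ball _ _)
    have bot : N = ⊥ := by
      refine C.core_of_nor (hw.1 0 (by omega)) ?_ (stab_le_Nor fun g hg => closure_conj ?_)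
        fy1 my0 ?_
      · rw [hN, closure_le]
        rintro _ ⟨q, ⟨Pq, hq2⟩, rfl⟩
        exact ⟨h.fix Pq (C.ball_mono (by omega) (C.ball_symm hq2)),
          h.fix Pq (C.ball_mono (show 2 + 1 ≤ R by omega)
            (C.ball_trans (C.ball_symm hq2) (C.adj_mem_ball_one (hw.1 0 (by omega)))))⟩
      · rintro _ ⟨q, ⟨Pq, hq2⟩, rfl⟩
        rw [C.c_smul g Pq]
        exact gen _ ((C.P_smul g q).2 Pq) (hg ▸ C.smul_mem_ball g hq2)
      suffices key : ∀ x ∈ N, C.c (w (R + 1)) * x * (C.c (w (R + 1)))⁻¹ ∈ N from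
        ⟨key, fun x hx => by simpa [C.c_inv hy] using key x hx⟩
      rw [hN]
      refine closure_conj ?_
      rintro _ ⟨q, ⟨Pq, hq2⟩, rfl⟩
      rw [C.c_inv hy, ← hN]
      have case2 : C.c (w (R + 1)) * C.c (w 2) * C.c (w (R + 1)) = C.c (w 2) := by
        rw [(Rad.comm_walk C h hw hy h2 le_rfl (by omega) (by omega) (by omega)).eq, mul_assoc,
          C.c_sq hy, mul_one]
      rcases C.mem_ball_two h0 Pq hq2 with rfl | ⟨a, ha, hqa⟩
      · rw [left]; exact mul_mem m0 m2
      have na := C.notP_of_adj ha h0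
      by_cases q0 : q = w 0
      · rw [q0, left]; exact mul_mem m0 m2
      by_cases ha1 : a = w 1
      · subst ha1
        by_cases q2 : q = w 2
        · rw [q2, case2]; exact m2
        have e := C.star h (by omega) na (C.symm ha) (hw.1 1 (by omega)) hqa
          (hw.2 0 (by omega)).symm (Ne.symm q0) (Ne.symm q2)
        rw [← e, show C.c (w (R + 1)) * (C.c (w 0) * C.c (w 2)) * C.c (w (R + 1)) =
            (C.c (w (R + 1)) * C.c (w 0) * C.c (w (R + 1))) *
              ((C.c (w (R + 1)))⁻¹ * C.c (w 2) * C.c (w (R + 1))) by group,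
          C.c_inv hy, case2, left]
        exact mul_mem (mul_mem m0 m2) m2
      · have hfixq := hex a q ha ha1 hqa q0
        have hu := (hw.cons C.toTri (C.symm ha) (Or.inr ha1)).cons C.toTri (z := q)
          (by simpa using C.symm hqa) (Or.inr (by simpa using q0))
        have fq : ∀ i, i ≤ R - 1 → C.c q • w i = w i := fun i hi => by
          rcases Nat.lt_or_ge i (R - 1) with e | e
          · have := Rad.fix_walk C h hu (i := 0) (j := i + 2) (by simpa using Pq) (by omega)
              (by omega) (by omega) (by omega)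
            simpa using this
          · rw [show i = R - 1 by omega]; exact hfixq
        have fqR : C.c q • w R = w R := by
          by_contra hne
          have hoff := C.exact_of_off h (n := R + 1) (by omega) (hu.mono C.toTri (by omega))
            (e := C.c q) (fun i hi => by
              rcases i with _ | _ | i
              · simpa using C.c_self Pq
              · simpa using (C.c_adj Pq (C.symm hqa)).1
              · simpa using fq i (by omega))
            (by simpa using hne)
            (iff_of_true (by simpa [show R + 1 - 1 - 1 = R - 1 by omega, show R ≠ 0 by omega] using hq) hodd)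
          exact hoff _ (hu.mono C.toTri (by omega)) (by simpa using Pq)
            (by simpa [show R + 1 - 1 - 1 = R - 1 by omega, show R ≠ 0 by omega] using hfixq)
        have gq : C.c q ∈ N := gen q Pq hq2
        obtain ⟨r, rfl⟩ : ∃ r, R = r + 1 := ⟨R - 1, by omega⟩
        have fr : C.c q • w r = w r := fq r (by omega)
        have f0R : ∀ i, i ≤ r + 1 → C.c (w 0) • w i = w i := fun i hi =>
          Rad.fix_walk C h hw h0 (by omega) (by omega) (by omega) (by omega)
        by_cases hqy : C.c q • w (r + 1 + 1) = w (r + 1 + 1)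
        · rw [← (C.comm hy hqy).eq, mul_assoc, C.c_sq hy, mul_one]; exact gq
        · have e1 : C.c q * C.c (w (r + 1 + 1)) * C.c q = C.c (w r) * C.c (w (r + 1 + 1)) := by
            rw [C.c_conj Pq hy, C.same_image fqR (f0R _ le_rfl) fr (f0R r (by omega))
              (C.symm (hw.1 r (by omega))) (hw.1 (r + 1) (by omega)) (hw.2 r (by omega)).symm
              hqy hm, ← C.c_conj h0 hy, right, show r + 1 - 1 = r by omega]
          have e2 : C.c (w (r + 1 + 1)) * C.c q * C.c (w (r + 1 + 1)) = C.c q * C.c (w r) :=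
            calc _ = C.c q * (C.c q * C.c (w (r + 1 + 1)) * C.c q) * C.c (w (r + 1 + 1)) := by
                  simp [← mul_assoc, C.c_sq Pq]
              _ = C.c q * C.c (w r) := by rw [e1]; simp [mul_assoc, C.c_sq hy]
          rw [e2, show r = r + 1 - 1 by omega, ← hf]
          exact mul_mem gq m2
    exact C.c_ne h0 ((Subgroup.mem_bot).1 (bot ▸ m0))

end Cfsg.Agent.Class49.Trivalent.Ctx
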