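import Cfsg.Agent.S4Amalgam.Ident
import Cfsg.Agent.Lib.Thompson.Cores

/-!
Two finite groups meeting in a common Sylow 2-subgroup of index 3 with trivial common core.
-/

set_option autoImplicit false
set_option linter.unusedSectionVars false
set_option linter.style.haveILetI false

open Subgroup Cfsg Cfsg.Agent.S4Amalgam

namespace Cfsg.Agent.Class49.Trivalent

variable {G : Type*} [Group G]

/-- The hypotheses on the amalgam of index `(3, 3)`. -/
structure Setup (G : Type*) [Group G] where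
  M : Bool → Subgroup G
  T : Subgroup G
  fin : ∀ i, Finite (M i)
  hT : T = M false ⊓ M true
  gen : M false ⊔ M true = ⊤
  hp : IsPGroup 2 T
  relT : ∀ i, T.relIndex (M i) = 3
  quot : ∀ i, Nonempty (M i ⧸ pCore 2 (M i) ≃* Equiv.Perm (Fin 3))
  core : ∀ N : Subgroup G, N ≤ T → (∀ j, ∀ x ∈ M j, ∀ n ∈ N, x * n * x⁻¹ ∈ N) → N = ⊥

namespace Setup

variable (S : Setup G)

/-- `O₂(M i)`. -/
def Q (i : Bool) : Subgroup G := pCoreOf 2 (S.M i)

theorem T_le (i : Bool) : S.T ≤ S.M i := by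
  cases i <;> rw [S.hT]
  · exact inf_le_left
  · exact inf_le_right

theorem mem_T {x : G} (i : Bool) (h1 : x ∈ S.M i) (h2 : x ∈ S.M (!i)) : x ∈ S.T := by
  rw [S.hT]
  cases i
  · exact ⟨h1, h2⟩
  · exact ⟨h2, h1⟩

theorem finite_T : Finite S.T :=
  haveI := S.fin false
  Finite.of_injective _ (Subgroup.inclusion_injective (S.T_le false))

theorem finite_of_le_T {H : Subgroup G} (h : H ≤ S.T) : Finite H :=
  haveI := S.finite_T
  Finite.of_injective _ (Subgroup.inclusion_injective h)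

theorem exists_sylow (i : Bool) :
    ∃ P : Sylow 2 (S.M i), (P : Subgroup (S.M i)) = S.T.subgroupOf (S.M i) := by
  haveI : Fact (Nat.Prime 2) := ⟨Nat.prime_two⟩
  exact ⟨IsPGroup.toSylow (S.hp.of_equiv (Subgroup.subgroupOfEquivOfLe (S.T_le i)).symm)
    (show ¬ 2 ∣ S.T.relIndex (S.M i) by rw [S.relT i]; omega), rfl⟩

theorem Q_le (i : Bool) : S.Q i ≤ S.M i := Subgroup.map_subtype_le _

theorem Q_subgroupOf (i : Bool) : (S.Q i).subgroupOf (S.M i) = pCore 2 (S.M i) :=
  Subgroup.comap_map_eq_self_of_injective (S.M i).subtype_injective _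

theorem Q_le_T (i : Bool) : S.Q i ≤ S.T := by
  haveI := S.fin i
  haveI : Fact (Nat.Prime 2) := ⟨Nat.prime_two⟩
  obtain ⟨P, hP⟩ := S.exists_sylow i
  have hle : pCore 2 (S.M i) ≤ (P : Subgroup (S.M i)) := sSup_le fun N hN => by
    haveI := hN.1
    exact hN.2.le_sylow_of_normal P
  intro x hx
  obtain ⟨y, hy, rfl⟩ := Subgroup.mem_map.1 hx
  have h1 := hle hy
  rw [hP] at h1
  exact h1

theorem relQ (i : Bool) : (S.Q i).relIndex S.T = 2 := by
  obtain ⟨e⟩ := S.quot i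
  have h6 : (S.Q i).relIndex (S.M i) = 6 := by
    show ((S.Q i).subgroupOf (S.M i)).index = 6
    rw [S.Q_subgroupOf, Subgroup.index_eq_card, Nat.card_congr e.toEquiv, Nat.card_perm,
      Nat.card_fin]
    rfl
  rw [← Subgroup.relIndex_mul_relIndex _ _ _ (S.Q_le_T i) (S.T_le i), S.relT i] at h6
  omega

theorem conj_Q {i : Bool} {g x : G} (hg : g ∈ S.M i) (hx : x ∈ S.Q i) :
    g * x * g⁻¹ ∈ S.Q i := by
  obtain ⟨y, hy, rfl⟩ := Subgroup.mem_map.1 hx
  exact Subgroup.mem_map.2 ⟨⟨g, hg⟩ * y * ⟨g, hg⟩⁻¹,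
    Subgroup.Normal.conj_mem inferInstance y hy _, rfl⟩

theorem cj_Q {i : Bool} {p : G} (hp : p ∈ S.M i) : cj p (S.Q i) = S.Q i := by
  refine le_antisymm (fun x hx => ?_) fun x hx => mem_cj.2 ?_
  · have := S.conj_Q hp (mem_cj.1 hx)
    simpa [mul_assoc] using this
  · simpa using S.conj_Q (inv_mem hp) hx

/-- `T` is maximal in both groups. -/
theorem eq_M {i : Bool} {H : Subgroup G} (h : S.T ≤ H) (hH : H ≤ S.M i) {x : G} (hx : x ∈ H)
    (hxT : x ∉ S.T) : H = S.M i := by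
  have h3 := S.relT i
  rw [← Subgroup.relIndex_mul_relIndex _ _ _ h hH] at h3
  rcases (Nat.dvd_prime Nat.prime_three).1 (Dvd.intro _ h3) with e | e
  · exact absurd (Subgroup.relIndex_eq_one.1 e hx) hxT
  · rw [e] at h3
    exact le_antisymm hH (Subgroup.relIndex_eq_one.1 (by omega))

theorem M_le {i : Bool} {H : Subgroup G} (h : S.T ≤ H) {x : G} (hxM : x ∈ S.M i) (hx : x ∈ H)
    (hxT : x ∉ S.T) : S.M i ≤ H := by
  rw [← S.eq_M (H := H ⊓ S.M i) (le_inf h (S.T_le i)) inf_le_right ⟨hx, hxM⟩ hxT]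
  exact inf_le_left

theorem exists_M (i : Bool) : ∃ p ∈ S.M i, p ∉ S.T := by
  by_contra h
  push Not at h
  have := S.relT i
  rw [Subgroup.relIndex_eq_one.2 h] at this
  omega

/-- `T` is not normal in either group. -/
theorem moved {i : Bool} {m : G} (hm : m ∈ S.M i) (hmT : m ∉ S.T) :
    ∃ t ∈ S.T, m⁻¹ * t * m ∉ S.T := by
  haveI := S.finite_T
  by_contra h
  push Not at h
  have hle : cj m⁻¹ S.T ≤ S.T := fun x hx => by
    rw [mem_cj, inv_inv] at hx
    have := h _ hx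
    simpa [mul_assoc] using this
  have hn : S.M i ≤ normalizer (S.T : Set G) :=
    S.M_le le_normalizer hm (inv_mem_iff.1 (mem_normalizer_of_cj_le hle)) hmT
  have hsub : S.T.subgroupOf (S.M i) ≤ pCore 2 (S.M i) := le_sSup
    ⟨(Subgroup.normal_subgroupOf_iff_le_normalizer (S.T_le i)).2 hn,
      S.hp.of_equiv (Subgroup.subgroupOfEquivOfLe (S.T_le i)).symm⟩
  have : S.T ≤ S.Q i := fun x hx => Subgroup.mem_map.2 ⟨⟨x, S.T_le i hx⟩, hsub hx, rfl⟩
  have h2 := S.relQ i
  rw [Subgroup.relIndex_eq_one.2 this] at h2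
  omega

/-- An element outside `T` centralising one of the cores bounds `T`. -/
theorem small {i : Bool} {g : G} (hg : g ∈ S.M i) (hgT : g ∉ S.T)
    (hc : ∀ q ∈ S.Q i, g * q = q * g) : Nat.card S.T ≤ 2 ^ 7 := by
  classical
  haveI := S.fin (!i)
  haveI := S.finite_T
  set N : Subgroup G := S.Q (!i) ⊓ ⨅ p : S.M (!i), cj (p : G) (S.Q i) with hN
  have NQ : N ≤ S.Q i := fun x hx => by
    have := (Subgroup.mem_iInf.1 hx.2) 1
    rwa [show ((1 : S.M (!i)) : G) = 1 from rfl, cj_one] at this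
  have normj : S.M (!i) ≤ normalizer (N : Set G) := le_normalizer_of_cj_le fun x hx y hy => by
    rw [mem_cj] at hy
    obtain ⟨y1, y2⟩ := hy
    refine ⟨?_, Subgroup.mem_iInf.2 fun p => ?_⟩
    · have := S.conj_Q hx y1
      simpa [mul_assoc] using this
    · have := Subgroup.mem_iInf.1 y2 (⟨x, hx⟩⁻¹ * p)
      rw [mem_cj] at this ⊢
      simpa [mul_assoc] using this
  have gN : g ∈ normalizer (N : Set G) := Subgroup.mem_normalizer_iff.2 fun x => by
    refine ⟨fun hx => ?_, fun hx => ?_⟩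
    · rwa [hc x (NQ hx), mul_inv_cancel_right]
    · have h1 : g⁻¹ * (g * x * g⁻¹) * g = g * x * g⁻¹ := by
        rw [mul_assoc, ← hc _ (NQ hx), inv_mul_cancel_left]
      have h2 : x = g * x * g⁻¹ := by rw [← h1]; group
      rwa [h2]
  have normi : S.M i ≤ normalizer (N : Set G) := S.M_le ((S.T_le _).trans normj) hg gN hgT
  have bot : N = ⊥ := S.core N (NQ.trans (S.Q_le_T i)) fun j x hx n hn => by
    have hxn : x ∈ normalizer (N : Set G) := by
      rcases eq_or_ne j i with rfl | e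
      · exact normi hx
      · rw [show j = !i by cases i <;> cases j <;> simp_all] at hx
        exact normj hx
    exact (Subgroup.mem_normalizer_iff.1 hxn n).1 hn
  -- three conjugates suffice
  have h3 : Nat.card (S.M (!i) ⧸ S.T.subgroupOf (S.M (!i))) = 3 := S.relT (!i)
  haveI : Finite (S.M (!i) ⧸ S.T.subgroupOf (S.M (!i))) := inferInstance
  obtain e := (Finite.equivFinOfCardEq h3).symm
  set r : Fin 3 → G := fun k => ((e k).out : S.M (!i)) with hr
  set A : Fin 3 → Subgroup G := fun k => cj (r k) (S.Q i)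
  have le : A 0 ⊓ A 1 ⊓ A 2 ⊓ S.Q (!i) ≤ N := fun x hx => by
    refine ⟨hx.2, Subgroup.mem_iInf.2 fun p => ?_⟩
    obtain ⟨k, hk⟩ : ∃ k, e k = QuotientGroup.mk p := ⟨e.symm _, e.apply_symm_apply _⟩
    have ht : ((e k).out : S.M (!i))⁻¹ * p ∈ S.T.subgroupOf (S.M (!i)) :=
      QuotientGroup.eq.1 (by rw [QuotientGroup.out_eq']; exact hk)
    have he : cj (p : G) (S.Q i) = A k := by
      rw [show (p : G) = r k * ((((e k).out : S.M (!i))⁻¹ * p : S.M (!i)) : G) by
        simp [hr], cj_mul, S.cj_Q (S.T_le i (Subgroup.mem_subgroupOf.1 ht))]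
    rw [he]
    fin_cases k
    · exact hx.1.1.1
    · exact hx.1.1.2
    · exact hx.1.2
  have hA : ∀ k, (A k).relIndex (S.Q (!i)) ≤ 2 := fun k => by
    have hr' : r k ∈ S.M (!i) := SetLike.coe_mem _
    have h1 : (A k).relIndex (S.Q (!i)) = (S.Q i).relIndex (S.Q (!i)) := by
      conv_lhs => rw [← S.cj_Q hr']
      exact relIndex_cj _ _ _
    rw [h1]
    exact le_trans (Subgroup.relIndex_le_of_le_right (S.Q_le_T (!i)) (by rw [S.relQ i]; omega))
      (S.relQ i).le
  have hQ : Nat.card (S.Q (!i)) ≤ 8 := by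
    rw [← Subgroup.relIndex_bot_left]
    calc (⊥ : Subgroup G).relIndex (S.Q (!i))
        = (A 0 ⊓ A 1 ⊓ A 2).relIndex (S.Q (!i)) := by
          rw [← Subgroup.inf_relIndex_right (A 0 ⊓ A 1 ⊓ A 2)]
          congr 1
          exact (le_bot_iff.1 (bot ▸ le)).symm
      _ ≤ (A 0 ⊓ A 1).relIndex (S.Q (!i)) * (A 2).relIndex (S.Q (!i)) :=
          Subgroup.relIndex_inf_le
      _ ≤ (A 0).relIndex (S.Q (!i)) * (A 1).relIndex (S.Q (!i)) * (A 2).relIndex (S.Q (!i)) :=
          Nat.mul_le_mul_right _ Subgroup.relIndex_inf_le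
      _ ≤ 2 * 2 * 2 := Nat.mul_le_mul (Nat.mul_le_mul (hA 0) (hA 1)) (hA 2)
      _ = 8 := rfl
  have := Subgroup.relIndex_mul_relIndex ⊥ (S.Q (!i)) S.T bot_le (S.Q_le_T _)
  rw [Subgroup.relIndex_bot_left, Subgroup.relIndex_bot_left, S.relQ] at this
  omega

/-- Without characteristic 2 the bound holds. -/
theorem small_of_charFree {i : Bool}
    (h : ¬ S.M i ⊓ centralizer (S.Q i : Set G) ≤ S.Q i) : Nat.card S.T ≤ 2 ^ 7 := by
  haveI := S.finite_T
  obtain ⟨g, ⟨hg, hgc⟩, hgQ⟩ := SetLike.not_le_iff_exists.1 h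
  have hc : ∀ q ∈ S.Q i, g * q = q * g := fun q hq => (mem_centralizer_iff.1 hgc q hq).symm
  by_cases hgT : g ∈ S.T
  swap
  · exact S.small hg hgT hc
  obtain ⟨p, hp, hpT⟩ := S.exists_M i
  obtain ⟨t, ht, htp⟩ := S.moved hp hpT
  have htp' : p⁻¹ * t * p ∈ S.M i := mul_mem (mul_mem (inv_mem hp) (S.T_le i ht)) hp
  -- conjugate `g` out of `T`
  refine S.small (g := p⁻¹ * g * p) (mul_mem (mul_mem (inv_mem hp) hg) hp) (fun hin => htp ?_)
    fun q hq => ?_
  · rcases index_two_cases (S.relQ i) ht hgT hgQ with e | ⟨q, hq, rfl⟩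
    · exact S.Q_le_T i (by simpa using S.conj_Q (inv_mem hp) e)
    · rw [show p⁻¹ * (q * g) * p = p⁻¹ * q * p * (p⁻¹ * g * p) by group]
      exact mul_mem (S.Q_le_T i (by simpa using S.conj_Q (inv_mem hp) hq)) hin
  · have := hc _ (S.conj_Q hp hq)
    calc p⁻¹ * g * p * q = p⁻¹ * (g * (p * q * p⁻¹)) * p := by group
      _ = _ := by rw [this]; group

/-- With active centre on both sides the groups are `S₄` or `2 × S₄`. -/
theorem active (hC : ∀ i, S.M i ⊓ centralizer (S.Q i : Set G) ≤ S.Q i)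
    (act : ∀ i, ¬ S.M i ≤ centralizer (omegaOne 2 (S.T ⊓ centralizer (S.T : Set G)) : Set G)) :
    Nat.card S.T ≤ 2 ^ 7 := by
  let A : Amalgam G :=
    { P := S.M, T := S.T, fin := S.fin, gen := S.gen, hT := S.hT, hC := hC,
      hS := S.exists_sylow
      core := fun N hN hle => S.core N hle fun j x _ n hn => hN.conj_mem n hn x
      quot := S.quot, act := act }
  have hP : Nat.card (S.M false) ≤ 48 := by
    rcases A.main with ⟨⟨e⟩, -⟩ | ⟨⟨e⟩, -⟩ <;>
      · rw [Nat.card_congr e.toEquiv]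
        simp [Nat.card_prod, Fintype.card_perm, Nat.factorial]
  have := Subgroup.relIndex_mul_relIndex ⊥ S.T (S.M false) bot_le (S.T_le false)
  rw [Subgroup.relIndex_bot_left, Subgroup.relIndex_bot_left, S.relT] at this
  omega

end Setup

end Cfsg.Agent.Class49.Trivalent
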