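import Cfsg.Agent.Class49.Trivalent.EvenNatural

/-!
Without bends each pair of adjacent vertices carries a preferred lift.
-/

set_option autoImplicit false
set_option linter.unusedSectionVars false
set_option linter.unusedVariables false
set_option linter.unusedSimpArgs false

open Subgroup MulAction

namespace Cfsg.Agent.Class49.Trivalent.Ctx

variable {G : Type*} {V : Type*} [Group G] [MulAction G V] (C : Ctx G V) {R : ℕ}

/-- The product of the involution of a vertex two steps from `n` and of its image under an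
element fixing all neighbours of `b` which moves its branch. -/
def PL (n b : V) (L : G) : Prop :=
  ∃ σ a p, σ ∈ C.B b 1 ∧ C.Adj n a ∧ a ≠ b ∧ σ • a ≠ a ∧ C.Adj a p ∧ p ≠ n ∧
    L = C.c p * C.c (σ • p)

theorem PL.smul {n b : V} {L : G} (hn : C.P n) (hL : C.PL n b L) (g : G) :
    C.PL (g • n) (g • b) (g * L * g⁻¹) := by
  obtain ⟨σ, a, p, hσ, ha, hab, hm, hp, hpn, rfl⟩ := hL
  have Pp := C.P_far hn ha hp
  refine ⟨g * σ * g⁻¹, g • a, g • p, C.conj_mem_B g hσ, C.adj_smul g ha,
    fun e => hab (MulAction.injective g e),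
    fun e => hm (MulAction.injective g (by rwa [smul_conj, inv_smul_smul] at e)),
    C.adj_smul g hp, fun e => hpn (MulAction.injective g e), ?_⟩
  rw [smul_conj, inv_smul_smul, ← C.c_smul g Pp, ← C.c_smul g ((C.P_smul σ p).2 Pp)]
  group

theorem PL.lift {n b : V} {L : G} (hb : C.Adj n b) (hL : C.PL n b L) : C.Lift n b L := by
  obtain ⟨σ, a, p, hσ, ha, hab, hm, hp, hpn, rfl⟩ := hL
  have sn : σ • n = n := C.fix_nbr hσ (C.symm hb)
  have sb : σ • b = b := C.mem_B.1 hσ _ (C.self_mem_ball b 1)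
  exact ⟨a, σ • a, p, σ • p, ha, C.adj_fix sn ha, hab,
    fun e => hab (MulAction.injective σ (e.trans sb.symm)), hm, hp, hpn, C.adj_smul σ hp,
    fun e => hpn (MulAction.injective σ (e.trans sn.symm)), rfl⟩

theorem exists_PL {n b : V} (hb : C.Adj n b) : ∃ L, C.PL n b L := by
  obtain ⟨a, ha, hab⟩ := C.exists_other hb
  obtain ⟨σ, hσ, hm⟩ := C.exists_fix_nbrs_move (C.symm hb) ha hab
  obtain ⟨p, hp, hpn⟩ := C.exists_other (C.symm ha)
  exact ⟨_, σ, a, p, hσ, ha, hab, hm, hp, hpn, rfl⟩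

variable (hs : C.Stuck)
include hs

/-- Elements fixing the neighbours of `a` which move a second neighbour of `m` act alike there. -/
theorem stuck_act {a m b : V} (hm : C.P m) (ha : C.Adj m a) (hb : C.Adj m b) (hba : b ≠ a)
    {x y : G} (hx : x ∈ C.B a 1) (hy : y ∈ C.B a 1) (xb : x • b ≠ b) (yb : y • b ≠ b) :
    y⁻¹ * x ∈ C.B a 1 ∧ y⁻¹ * x ∈ C.B m 1 ∧ ∀ q, C.Adj b q → x • q = y • q := by
  have h1 : y⁻¹ * x ∈ C.B a 1 := mul_mem (inv_mem hy) hx
  have xm := C.fix_nbr hx (C.symm ha)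
  have ym := C.fix_nbr hy (C.symm ha)
  have xa := C.mem_B.1 hx _ (C.self_mem_ball a 1)
  have ya := C.mem_B.1 hy _ (C.self_mem_ball a 1)
  have hfix : (y⁻¹ * x) • b = b := by
    rw [mul_smul, C.same_image xm ym xa ya ha hb hba.symm xb yb, inv_smul_smul]
  have h2 : y⁻¹ * x ∈ C.B m 1 := C.B_one_of_fix (C.fix_nbr h1 (C.symm ha)) ha hb hba.symm
    (C.mem_B.1 h1 _ (C.self_mem_ball a 1)) hfix
  refine ⟨h1, h2, fun q hq => ?_⟩
  have := C.fix_nbr (hs a m b hm ha hb hba.symm _ h1 h2) hq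
  rw [mul_smul, inv_smul_eq_iff] at this
  exact this

section

variable (h : C.Rad R) (hR : 6 ≤ R) (hev : R % 2 = 0)
include h hR hev

theorem PL.unique {n b : V} {L L' : G} (hn : C.P n) (hb : C.Adj n b) (hL : C.PL n b L)
    (hL' : C.PL n b L') : L' = L := by
  obtain ⟨σ, a, p, hσ, ha, hab, hm, hp, hpn, rfl⟩ := hL
  obtain ⟨τ, a', p', hτ, ha', ha'b, hm', hp', hp'n, rfl⟩ := hL'
  have sn : σ • n = n := C.fix_nbr hσ (C.symm hb)
  have sb : σ • b = b := C.mem_B.1 hσ _ (C.self_mem_ball b 1)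
  have tn : τ • n = n := C.fix_nbr hτ (C.symm hb)
  have tb : τ • b = b := C.mem_B.1 hτ _ (C.self_mem_ball b 1)
  have ta : τ • a ≠ a := fun e => hm' (C.fix_third tn hb ha hab.symm tb e ha')
  have sq : σ • σ • a = a := C.twice_image sn sb hb ha hab.symm
  have Pp := C.P_far hn ha hp
  have base : ∀ q, C.Adj a q → q ≠ n → C.c q * C.c (σ • q) = C.c p * C.c (σ • p) := by
    intro q hq hqn
    have Pq := C.P_far hn ha hq
    rcases C.sib_mul h (by omega) hn ha hp hpn hq hqn with e | e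
    · rw [← C.c_smul σ Pq, ← C.c_smul σ Pp, e]
    · have cn : σ * C.c n * σ⁻¹ = C.c n := by rw [C.c_smul σ hn, sn]
      have c1 : Commute (C.c n) (C.c (σ • p)) :=
        (C.comm hn (C.c_fix_center h (by omega) hn (C.adj_fix sn ha) (C.adj_smul σ hp))).symm
      calc C.c q * C.c (σ • q) = C.c p * C.c n * (σ * (C.c p * C.c n) * σ⁻¹) := by
            rw [← C.c_smul σ Pq, e]
        _ = C.c p * C.c n * ((σ * C.c p * σ⁻¹) * (σ * C.c n * σ⁻¹)) := by group
        _ = C.c p * (C.c n * C.c (σ • p) * C.c n) := by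
            rw [C.c_smul σ Pp, cn]; simp only [mul_assoc]
        _ = _ := by rw [c1.eq, mul_assoc (C.c (σ • p)), C.c_sq hn, mul_one]
  have hsa : σ • a ≠ b := fun e => hab (MulAction.injective σ (e.trans sb.symm))
  have act : ∀ {d : V}, C.Adj n d → d ≠ b → σ • d ≠ d → τ • d ≠ d →
      ∀ q, C.Adj d q → τ • q = σ • q := fun hd hdb h1 h2 =>
    (C.stuck_act hs hn hb hd hdb hτ hσ h2 h1).2.2
  rcases C.eq_third ha (C.adj_fix sn ha) hb hm.symm hab hsa ha' with rfl | rfl | rfl
  · rw [act ha hab hm ta p' hp']; exact base p' hp' hp'n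
  · have hσσ : σ * σ ∈ C.B n 1 := C.B_one_of_fix (by rw [mul_smul, sn, sn]) hb ha hab.symm
      (by rw [mul_smul, sb, sb]) (by rw [mul_smul, sq])
    have hσa := hs b n a hn hb ha hab.symm _ (mul_mem hσ hσ) hσσ
    have hq : C.Adj a (σ⁻¹ • p') := by
      have := C.adj_smul σ⁻¹ hp'
      rwa [inv_smul_smul] at this
    have hqn : σ⁻¹ • p' ≠ n := fun e => hp'n (by rw [inv_smul_eq_iff, sn] at e; exact e)
    have e2 : σ • p' = σ⁻¹ • p' := by
      have := C.fix_nbr hσa hq
      rwa [mul_smul, smul_inv_smul] at this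
    rw [act (C.adj_fix sn ha) hsa (fun e => hm (MulAction.injective σ e)) hm' p' hp', e2,
      ← base _ hq hqn, smul_inv_smul]
    exact (C.comm_two h (by omega) hn (C.adj_fix sn ha) hp' ha hq).eq
  · exact absurd rfl ha'b

theorem PL.comm {n b : V} {L : G} (hn : C.P n) (hb : C.Adj n b) (hL : C.PL n b L) {x : G}
    (xn : x • n = n) (xb : x • b = b) : Commute x L := by
  have h1 := PL.smul C hn hL x
  rw [xn, xb] at h1
  exact mul_inv_eq_iff_eq_mul.1 (PL.unique C hs h hR hev hn hb hL h1)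

theorem PL.ne {n b : V} {L : G} (hn : C.P n) (hb : C.Adj n b) (hL : C.PL n b L) : L ≠ 1 :=
  (Lift.ne C h (by omega) hn (PL.lift C hb hL)).1

theorem PL.sq {n b : V} {L : G} (hn : C.P n) (hb : C.Adj n b) (hL : C.PL n b L) : L * L = 1 :=
  Lift.sq C h (by omega) hn (PL.lift C hb hL)

/-- The three preferred lifts at a vertex without centre multiply to one. -/
theorem pl_star {b u v w : V} (nb : ¬ C.P b) (hu : C.Adj b u) (hv : C.Adj b v) (hw : C.Adj b w)
    (huv : u ≠ v) (huw : u ≠ w) (hvw : v ≠ w) {Lu Lv Lw : G} (eu : C.PL u b Lu)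
    (ev : C.PL v b Lv) (ew : C.PL w b Lw) : Lu * Lv = Lw := by
  have Pu := C.P_of_adj hu nb
  have Pv := C.P_of_adj hv nb
  have Pw := C.P_of_adj hw nb
  have ex : ∀ q, ∃ L, C.Adj b q → C.PL q b L := fun q => by
    by_cases hq : C.Adj b q
    · obtain ⟨L, hL⟩ := C.exists_PL (C.symm hq); exact ⟨L, fun _ => hL⟩
    · exact ⟨1, fun e => absurd e hq⟩
  choose f hf using ex
  obtain rfl := PL.unique C hs h hR hev Pu (C.symm hu) (hf u hu) eu
  obtain rfl := PL.unique C hs h hR hev Pv (C.symm hv) (hf v hv) ev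
  obtain rfl := PL.unique C hs h hR hev Pw (C.symm hw) (hf w hw) ew
  have fsmul : ∀ {g : G}, g • b = b → ∀ {q}, C.Adj b q → g * f q * g⁻¹ = f (g • q) := by
    intro g gb q hq
    have h1 := PL.smul C (C.P_of_adj hq nb) (hf q hq) g
    rw [gb] at h1
    exact PL.unique C hs h hR hev ((C.P_smul g q).2 (C.P_of_adj hq nb))
      (C.symm (C.adj_fix gb hq)) (hf _ (C.adj_fix gb hq)) h1
  have far : ∀ {q q'}, C.Adj b q → C.Adj b q' → Commute (f q) (f q') := by
    intro q q' hq hq'
    have Pq := C.P_of_adj hq nb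
    have Pq' := C.P_of_adj hq' nb
    obtain ⟨a, a', p, p', ha, ha', -, -, -, hp, -, hp', -, e⟩ := PL.lift C (C.symm hq) (hf q hq)
    obtain ⟨d, d', r, r', hd, hd', -, -, -, hr, -, hr', -, e'⟩ :=
      PL.lift C (C.symm hq') (hf q' hq')
    have six : ∀ {a p d r}, C.Adj q a → C.Adj a p → C.Adj q' d → C.Adj d r →
        Commute (C.c p) (C.c r) := fun ha hp hd hr =>
      Rad.comm_ball C h (C.P_far Pq ha hp) (C.P_far Pq' hd hr) (C.ball_mono hR
        (C.adj_ball (C.adj_ball (C.adj_ball (C.adj_ball (C.adj_ball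
          (C.adj_mem_ball_one (C.symm hp)) (C.symm ha)) (C.symm hq)) hq') hd) hr))
    rw [e, e']
    exact ((six ha hp hd hr).mul_right (six ha hp hd' hr')).mul_left
      ((six ha' hp' hd hr).mul_right (six ha' hp' hd' hr'))
  have ffix : ∀ {q}, C.Adj b q → f q • b = b ∧ ∀ {z}, C.Adj b z → f q • z = z := by
    intro q hq
    have Pq := C.P_of_adj hq nb
    refine ⟨(Lift.fix C h (by omega) Pq (C.symm hq) (PL.lift C (C.symm hq) (hf q hq))).2,
      fun {z} hz => ?_⟩
    obtain ⟨a, a', p, p', ha, ha', -, -, -, hp, -, hp', -, e⟩ := PL.lift C (C.symm hq) (hf q hq)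
    have four : ∀ {a p}, C.Adj q a → C.Adj a p → C.c p • z = z := fun ha hp =>
      h.fix (C.P_far Pq ha hp) (C.ball_mono (show 4 ≤ R by omega) (C.adj_ball (C.adj_ball
        (C.adj_ball (C.adj_mem_ball_one (C.symm hp)) (C.symm ha)) (C.symm hq)) hz))
    rw [e, mul_smul, four ha' hp', four ha hp]
  have cuv := far hu hv
  have cuw := far hu hw
  have cvw := far hv hw
  set p := f u * f v * f w with hp
  have perm : ∀ g : G, g • b = b → g * p * g⁻¹ = f (g • u) * f (g • v) * f (g • w) := by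
    intro g gb
    rw [← fsmul gb hu, ← fsmul gb hv, ← fsmul gb hw, hp]
    group
  obtain ⟨g, gb, gu, gv, gw⟩ := C.exists_cycle hu hv hw huv huw hvw
  have hle : stabilizer G b ≤ centralizer ({p} : Set G) := by
    refine C.stab_le hu (fun x hx => ?_) (mem_centralizer_singleton_iff.2 ?_) gb (gu ▸ huv.symm)
    · refine mem_centralizer_singleton_iff.2 ?_
      have xb : x • b = b := hx.1
      have xu : x • u = u := hx.2
      have e := perm x xb
      by_cases xv : x • v = v
      · rw [xu, xv, C.fix_third xb hu hv huv xu xv hw, ← hp, mul_inv_eq_iff_eq_mul] at e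
        exact e
      · have e1 := C.moved_eq_third xb xu hu hv hw huv huw hvw xv
        have e2 : x • w = v := by rw [← e1]; exact C.twice_image xb xu hu hv huv
        rw [xu, e1, e2, mul_assoc (f u), ← cvw.eq, ← mul_assoc (f u), ← hp,
          mul_inv_eq_iff_eq_mul] at e
        exact e
    · have e := perm g gb
      rw [gu, gv, gw, mul_assoc (f v), ← cuw.eq, ← mul_assoc (f v), ← cuv.eq, ← hp,
        mul_inv_eq_iff_eq_mul] at e
      exact e
  have p1 : p = 1 := C.noZ nb hu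
    (by rw [hp, mul_smul, mul_smul, (ffix hw).1, (ffix hv).1, (ffix hu).1])
    (by rw [hp, mul_smul, mul_smul, (ffix hw).2 hu, (ffix hv).2 hu, (ffix hu).2 hu])
    fun g hg => mem_centralizer_singleton_iff.1 (hle hg)
  rw [eq_inv_of_mul_eq_one_left p1]
  exact inv_eq_of_mul_eq_one_left (PL.sq C hs h hR hev Pw (C.symm hw) (hf w hw))

theorem pl_sib_ne {b u v : V} (nb : ¬ C.P b) (hu : C.Adj b u) (hv : C.Adj b v) (huv : u ≠ v)
    {L : G} (eu : C.PL u b L) (ev : C.PL v b L) : False := by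
  obtain ⟨w, hw, hwu, hwv, -⟩ := C.exists_third hu hv huv
  obtain ⟨M, hM⟩ := C.exists_PL (C.symm hw)
  have := C.pl_star hs h hR hev nb hu hv hw huv hwu.symm hwv.symm eu ev hM
  rw [PL.sq C hs h hR hev (C.P_of_adj hu nb) (C.symm hu) eu] at this
  exact PL.ne C hs h hR hev (C.P_of_adj hw nb) (C.symm hw) hM this.symm

theorem PL.of_crit {w : ℕ → V} (hc : C.Crit R w) :
    C.PL (w 2) (w 3) (C.U R w) ∧ C.PL (w R) (w (R - 1)) (C.U R w) := by
  have key : ∀ {w : ℕ → V}, C.Crit R w → C.PL (w 2) (w 3) (C.U R w) := by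
    intro w hc
    obtain ⟨hw, h0, hn⟩ := id hc
    have hy := Crit.P_even C h hR hev hc (i := R + 2) le_rfl (by omega)
    refine ⟨C.c (w (R + 2)), w 1, w 0, ?_, C.symm (hw.1 1 (by omega)), (hw.2 1 (by omega)).symm,
      Crit.move_left C h hR hev hc, C.symm (hw.1 0 (by omega)), (hw.2 0 (by omega)).symm, ?_⟩
    · exact Rad.mem_B C h (s := R - 1) hy (Tri.Walk.near C.toTri hw le_rfl (by omega) (by omega)
        (by omega)) (by omega)
    · rw [← C.c_conj hy h0]
      simp only [U, mul_assoc]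
  refine ⟨key hc, ?_⟩
  have h2 := key (Crit.rev C h hR hev hc)
  simp only [show R + 2 - 2 = R by omega, show R + 2 - 3 = R - 1 by omega] at h2
  have e : C.U R (fun i => w (R + 2 - i)) = C.U R w := by
    have hP := Crit.P_even C h hR hev hc (i := 2) (by omega) rfl
    have hsq := PL.sq C hs h hR hev hP (hc.1.1 2 (by omega)) (key hc)
    have hy := Crit.P_even C h hR hev hc (i := R + 2) le_rfl (by omega)
    rw [← inv_eq_of_mul_eq_one_right hsq]
    simp only [U, Nat.sub_zero, Nat.sub_self, mul_inv_rev, C.c_inv hy, C.c_inv hc.2.1, mul_assoc]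
  rwa [e] at h2

/-- An element fixing the neighbours of `c` and bending the path through `m` centralises the
lift beyond. -/
theorem pl_move {c m b n : V} (hm : C.P m) (hc : C.Adj m c) (hb : C.Adj m b) (hbc : b ≠ c)
    (hn : C.Adj b n) (hnm : n ≠ m) {σ : G} (hσ : σ ∈ C.B c 1) (sb : σ • b ≠ b) {L : G}
    (hL : C.PL n b L) : Commute σ L := by
  obtain ⟨W, hW⟩ := C.exists_line h hR hev 1
  have hw := Line.walk C h hR hev hW
  have P0 := Line.even_P C h hR hev hW (i := 0) (by omega) rfl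
  have Pm := Line.even_P C h hR hev hW (i := R) (by omega) hev
  have Pn := Line.even_P C h hR hev hW (i := R + 2) (by omega) (by omega)
  have hu := (PL.of_crit C hs h hR hev (hW 1 le_rfl)).2
  simp only [show 2 * 1 + R = R + 2 by omega, show 2 * 1 + (R - 1) = R + 1 by omega,
    show (2 : ℕ) * 1 = 2 by omega] at hu
  have Pn' := C.P_far hm hb hn
  have f3 : ∀ {p q r s : V}, C.Adj p q → C.Adj q r → C.Adj r s → r ≠ p → s ≠ q →
      C.Walk (fun i => if i = 0 then p else if i = 1 then q else if i = 2 then r else s) 3 := by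
    intro p q r s h1 h2 h3 e1 e2
    refine ⟨fun i hi => ?_, fun i hi => ?_⟩
    · rcases (show i = 0 ∨ i = 1 ∨ i = 2 by omega) with rfl | rfl | rfl <;> simp [h1, h2, h3]
    · rcases (show i = 0 ∨ i = 1 by omega) with rfl | rfl <;> simp [e1, e2]
  obtain ⟨r, hr⟩ : ∃ r, R = r + 1 := ⟨R - 1, by omega⟩
  obtain ⟨g, hg⟩ := C.conj_walk (k := 3) (fun j h1 h2 => by
      rcases (show j = 1 ∨ j = 2 by omega) with rfl | rfl
      · exact C.step_one hm
      · exact C.step_two hm)
    (f3 (C.symm (hw.1 (R + 1) (by omega))) (C.symm (hw.1 R (by omega)))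
      (C.symm (show C.Adj (W r) (W R) from hr ▸ hw.1 r (by omega)))
      (hw.2 R (by omega)).symm (by
        have := (hw.2 r (by omega)).symm
        rwa [show r + 2 = R + 1 by omega] at this))
    (f3 (C.symm hn) (C.symm hb) hc hnm.symm hbc.symm) (by simpa using Pn) (by simpa using Pn')
  have g0 := hg 0 (by omega)
  have g1 := hg 1 (by omega)
  have g2 := hg 2 (by omega)
  have g3 := hg 3 (by omega)
  simp at g0 g1 g2 g3
  have e := PL.smul C Pn hu g
  rw [g0, g1] at e
  obtain rfl := PL.unique C hs h hR hev Pn' (C.symm hn) hL e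
  set y := g * C.c (W 0) * g⁻¹
  have yu : Commute y (g * C.U R (fun i => W (2 + i)) * g⁻¹) :=
    ((Line.comm_U C h hR hev hW le_rfl).map (MulAut.conj g).toMonoidHom)
  have hy : y ∈ C.B c 1 := by
    rw [← g3]
    exact C.conj_mem_B g (Rad.mem_B C h (s := r) P0
      (Tri.Walk.near C.toTri hw (by omega) (by omega) (by omega) (by omega)) (by omega))
  have yb : y • b ≠ b := fun e' => Line.right C h hR hev hW (i := 0) rfl (by omega)
    (show R + 1 = 0 + R + 1 by omega) (MulAction.injective g (by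
      rw [← g1, smul_conj, inv_smul_smul] at e'
      exact e'))
  obtain ⟨k1, k2, k3⟩ := C.stuck_act hs hm hc hb hbc hσ hy sb yb
  have kb : (y⁻¹ * σ) • b = b := C.fix_nbr k2 hb
  have kn : (y⁻¹ * σ) • n = n := C.fix_nbr (hs c m b hm hc hb hbc.symm _ k1 k2) hn
  have := yu.mul_left (PL.comm C hs h hR hev Pn' (C.symm hn) e kn kb)
  rwa [mul_inv_cancel_left] at this

end

end Cfsg.Agent.Class49.Trivalent.Ctx
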